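import Cfsg.Agent.Lib.PCore.Basic

/-!
When is the `p'`-core of the centraliser of an automorphism trivial, in a group of automorphisms containing the
inner ones?
-/

set_option autoImplicit false
set_option linter.unusedSectionVars false

namespace Cfsg.Agent.LocalBalance

universe u

variable {K : Type u} [Group K]

/-- The fixed points of an automorphism. -/
def fixK (x : MulAut K) : Subgroup K := MonoidHom.eqLocus x.toMonoidHom (MonoidHom.id K)

theorem mem_fixK {x : MulAut K} {k : K} : k ∈ fixK x ↔ x k = k := Iff.rfl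

theorem mul_conj (β : MulAut K) (k : K) : β * MulAut.conj k = MulAut.conj (β k) * β :=
  MulEquiv.ext fun y => by simp

theorem apply_mem_fixK {a x : MulAut K} (h : Commute a x) {k : K} (hk : k ∈ fixK x) : a k ∈ fixK x := by
  rw [mem_fixK, ← MulAut.mul_apply, ← h.eq, MulAut.mul_apply, mem_fixK.1 hk]

/-- An automorphism commuting with `x` acts on the fixed points. -/
def restrictFix {a x : MulAut K} (h : Commute a x) : MulAut (fixK x) where
  toFun k := ⟨a k, apply_mem_fixK h k.2⟩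
  invFun k := ⟨a⁻¹ k, apply_mem_fixK h.inv_left k.2⟩
  left_inv k := Subtype.ext (a.symm_apply_apply k)
  right_inv k := Subtype.ext (a.apply_symm_apply k)
  map_mul' k l := Subtype.ext (map_mul a (k : K) l)

theorem commute_conj {x : MulAut K} {k : K} (hk : k ∈ fixK x) : Commute (MulAut.conj k) x :=
  (show MulAut.conj k * x = x * MulAut.conj k by rw [mul_conj x, mem_fixK.1 hk])

/-- The `p'`-core of the fixed points is invariant under the automorphisms commuting with `x`. -/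
theorem restrictFix_mem_core [Finite K] (p : ℕ) {a x : MulAut K} (h : Commute a x) {k : fixK x}
    (hk : k ∈ Cfsg.pPrimeCore p (fixK x)) : restrictFix h k ∈ Cfsg.pPrimeCore p (fixK x) := by
  rw [← PCore.map_pPrimeCore_mulEquiv (restrictFix h)]
  exact ⟨k, hk, rfl⟩

variable [Finite K] {p : ℕ} [Fact p.Prime]

/-- The centraliser of `x` in `A` has trivial `p'`-core. -/
theorem core_eq_bot (hinj : Function.Injective (MulAut.conj : K → MulAut K)) (x : MulAut K) (A : Subgroup (MulAut K))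
    (hinn : ∀ k : K, MulAut.conj k ∈ A) (h1 : Cfsg.pPrimeCore p (fixK x) = ⊥)
    (h2 : ∀ a : MulAut K, Commute a x → (∀ k ∈ fixK x, a k = k) → (orderOf a).Coprime p → a = 1) :
    Cfsg.pPrimeCore p ↥(A ⊓ Subgroup.centralizer {x}) = ⊥ := by
  haveI : Finite (MulAut K) := Finite.of_injective (fun e : MulAut K => (e : K → K)) DFunLike.coe_injective
  set C := A ⊓ Subgroup.centralizer {x}
  let j : fixK x →* C := ((MulAut.conj : K →* _).comp (fixK x).subtype).codRestrict C fun k =>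
    ⟨hinn _, Subgroup.mem_centralizer_singleton_iff.2 (commute_conj k.2).eq⟩
  have hj : Function.Injective j := fun a b h => Subtype.ext (hinj (congrArg Subtype.val h))
  set L := Cfsg.pPrimeCore p C
  have hL : L.comap j = ⊥ := by
    refine le_bot_iff.1 (h1 ▸ PCore.le_pPrimeCore ?_)
    exact Nat.Coprime.coprime_dvd_left (Subgroup.card_comap_dvd_of_injective L j hj) PCore.coprime_card_pPrimeCore
  refine eq_bot_iff.2 fun l hl => Subgroup.mem_bot.2 (Subtype.ext ?_)
  have hlx : Commute (l : MulAut K) x := Subgroup.mem_centralizer_singleton_iff.1 l.2.2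
  refine h2 _ hlx (fun k hk => ?_) ?_
  · let k₀ : fixK x := ⟨k, hk⟩
    have hk' : l * j k₀ * l⁻¹ = j (restrictFix hlx k₀) := Subtype.ext (by
      show (l : MulAut K) * MulAut.conj k * (l : MulAut K)⁻¹ = MulAut.conj ((l : MulAut K) k)
      rw [mul_conj, mul_inv_cancel_right])
    have hmem : restrictFix hlx k₀ * k₀⁻¹ ∈ L.comap j := by
      rw [Subgroup.mem_comap, map_mul, map_inv, ← hk', mul_assoc l, mul_assoc l]
      exact L.mul_mem hl (Subgroup.Normal.conj_mem inferInstance _ (L.inv_mem hl) (j k₀))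
    rw [hL, Subgroup.mem_bot, mul_inv_eq_one] at hmem
    exact congrArg Subtype.val hmem
  · have h3 : orderOf l ∣ Nat.card L := by
      have := orderOf_dvd_natCard (⟨l, hl⟩ : L)
      rwa [Subgroup.orderOf_mk] at this
    rw [Subgroup.orderOf_coe]
    exact Nat.Coprime.coprime_dvd_left h3 PCore.coprime_card_pPrimeCore

/-- Fixed points of order prime to `p` lie in the core of the centraliser. -/
theorem core_ne_bot (hinj : Function.Injective (MulAut.conj : K → MulAut K)) (x : MulAut K) (A : Subgroup (MulAut K))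
    (hinn : ∀ k : K, MulAut.conj k ∈ A) (h0 : fixK x ≠ ⊥) (hco : p.Coprime (Nat.card (fixK x))) :
    Cfsg.pPrimeCore p ↥(A ⊓ Subgroup.centralizer {x}) ≠ ⊥ := by
  set C := A ⊓ Subgroup.centralizer {x}
  let j : fixK x →* C := ((MulAut.conj : K →* _).comp (fixK x).subtype).codRestrict C fun k =>
    ⟨hinn _, Subgroup.mem_centralizer_singleton_iff.2 (commute_conj k.2).eq⟩
  have hj : Function.Injective j := fun a b h => Subtype.ext (hinj (congrArg Subtype.val h))
  haveI : j.range.Normal := ⟨by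
    rintro _ ⟨k, rfl⟩ c
    have hcx : Commute (c : MulAut K) x := Subgroup.mem_centralizer_singleton_iff.1 c.2.2
    refine ⟨restrictFix hcx k, Subtype.ext ?_⟩
    show MulAut.conj ((c : MulAut K) k) = (c : MulAut K) * MulAut.conj (k : K) * (c : MulAut K)⁻¹
    rw [mul_conj, mul_inv_cancel_right]⟩
  intro hbot
  have hle : j.range ≤ Cfsg.pPrimeCore p C := PCore.le_pPrimeCore (by
    rw [← Nat.card_congr (MonoidHom.ofInjective hj).toEquiv]; exact hco.symm)
  rw [hbot, le_bot_iff, MonoidHom.range_eq_bot_iff] at hle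
  exact h0 (eq_bot_iff.2 fun k hk => Subgroup.mem_bot.2
    (congrArg Subtype.val (hj (a₁ := ⟨k, hk⟩) (a₂ := 1) (by rw [hle]; rfl))))

theorem core_ne_bot_iff (hinj : Function.Injective (MulAut.conj : K → MulAut K)) (x : MulAut K)
    (A : Subgroup (MulAut K)) (hinn : ∀ k : K, MulAut.conj k ∈ A) (h0 : fixK x ≠ ⊥)
    (h1 : p ∣ Nat.card (fixK x) → Cfsg.pPrimeCore p (fixK x) = ⊥)
    (h2 : ∀ a : MulAut K, Commute a x → (∀ k ∈ fixK x, a k = k) → (orderOf a).Coprime p → a = 1) :
    Cfsg.pPrimeCore p ↥(A ⊓ Subgroup.centralizer {x}) ≠ ⊥ ↔ p.Coprime (Nat.card (fixK x)) := by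
  refine ⟨fun h => (Fact.out : p.Prime).coprime_iff_not_dvd.2 fun hd => h (core_eq_bot hinj x A hinn (h1 hd) h2),
    core_ne_bot hinj x A hinn h0⟩

theorem card_fixK_conj (x c : MulAut K) : Nat.card (fixK (c * x * c⁻¹)) = Nat.card (fixK x) := by
  refine (Nat.card_congr (Equiv.subtypeEquiv c.toEquiv fun y => ?_)).symm
  show x y = y ↔ (c * x * c⁻¹) (c y) = c y
  rw [MulAut.mul_apply, MulAut.mul_apply, MulAut.inv_def, MulEquiv.symm_apply_apply]
  exact ⟨fun h => by rw [h], fun h => c.injective h⟩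

/-- Transport along a conjugation. -/
theorem exists_transport (x c : MulAut K) (A : Subgroup (MulAut K)) (hinn : ∀ k : K, MulAut.conj k ∈ A) :
    ∃ A₀ : Subgroup (MulAut K), (∀ k : K, MulAut.conj k ∈ A₀) ∧
      (Cfsg.pPrimeCore p ↥(A ⊓ Subgroup.centralizer {c * x * c⁻¹}) = ⊥ ↔
        Cfsg.pPrimeCore p ↥(A₀ ⊓ Subgroup.centralizer {x}) = ⊥) := by
  set A₀ := A.map (MulAut.conj c⁻¹).toMonoidHom
  refine ⟨A₀, fun y => ⟨MulAut.conj (c y), hinn _, ?_⟩, ?_⟩
  · show c⁻¹ * MulAut.conj (c y) * c⁻¹⁻¹ = MulAut.conj y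
    rw [inv_inv, mul_assoc, ← mul_conj, inv_mul_cancel_left]
  have hA₀ : ∀ y, y ∈ A₀ ↔ c * y * c⁻¹ ∈ A := fun y => by
    refine ⟨?_, fun h => ⟨_, h, by show c⁻¹ * (c * y * c⁻¹) * c⁻¹⁻¹ = y; group⟩⟩
    rintro ⟨z, hz, rfl⟩
    show c * (c⁻¹ * z * c⁻¹⁻¹) * c⁻¹ ∈ A
    rw [show c * (c⁻¹ * z * c⁻¹⁻¹) * c⁻¹ = z by group]
    exact hz
  let e : ↥(A₀ ⊓ Subgroup.centralizer {x}) ≃* ↥(A ⊓ Subgroup.centralizer {c * x * c⁻¹}) :=
    ((MulAut.conj c).subgroupMap _).trans (MulEquiv.subgroupCongr (by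
      ext y
      simp only [Subgroup.mem_map, Subgroup.mem_inf, Subgroup.mem_centralizer_singleton_iff, hA₀]
      constructor
      · rintro ⟨z, ⟨hz1, hz2⟩, rfl⟩
        refine ⟨hz1, ?_⟩
        show c * z * c⁻¹ * (c * x * c⁻¹) = c * x * c⁻¹ * (c * z * c⁻¹)
        rw [show c * z * c⁻¹ * (c * x * c⁻¹) = c * (z * x) * c⁻¹ by group, hz2]
        group
      · rintro ⟨hy1, hy2⟩
        refine ⟨c⁻¹ * y * c, ⟨?_, ?_⟩, by show c * (c⁻¹ * y * c) * c⁻¹ = y; group⟩
        · rwa [show c * (c⁻¹ * y * c) * c⁻¹ = y by group]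
        · rw [show c⁻¹ * y * c * x = c⁻¹ * (y * (c * x * c⁻¹)) * c by group, hy2]
          group))
  haveI : Finite (MulAut K) := Finite.of_injective (fun f : MulAut K => (f : K → K)) DFunLike.coe_injective
  rw [← Subgroup.card_eq_one, ← Subgroup.card_eq_one, PCore.card_pPrimeCore_congr e]

/-- The criterion for a conjugate. -/
theorem core_ne_bot_iff_conj (hinj : Function.Injective (MulAut.conj : K → MulAut K)) (x c : MulAut K)
    (A : Subgroup (MulAut K)) (hinn : ∀ k : K, MulAut.conj k ∈ A) (h0 : fixK x ≠ ⊥)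
    (h1 : p ∣ Nat.card (fixK x) → Cfsg.pPrimeCore p (fixK x) = ⊥)
    (h2 : ∀ a : MulAut K, Commute a x → (∀ k ∈ fixK x, a k = k) → (orderOf a).Coprime p → a = 1) :
    Cfsg.pPrimeCore p ↥(A ⊓ Subgroup.centralizer {c * x * c⁻¹}) ≠ ⊥ ↔
      p.Coprime (Nat.card (fixK (c * x * c⁻¹))) := by
  obtain ⟨A₀, hA₀, h⟩ := exists_transport (p := p) x c A hinn
  rw [card_fixK_conj, ← core_ne_bot_iff hinj x A₀ hA₀ h0 h1 h2, not_iff_not, h]

end Cfsg.Agent.LocalBalance
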