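import Cfsg.Agent.Lib.LocalBalance.Criterion
import Cfsg.Agent.Lib.GraphAut.Sim
import Cfsg.Agent.Lib.Field.Fixed

/-!
The core of the fixed points from a projective representation; automorphisms fixing a fixed field.
-/

set_option autoImplicit false
set_option linter.unusedSectionVars false

open Matrix
open scoped MatrixGroups

namespace Cfsg.Agent.LocalBalance

open Cfsg.Agent.GraphAut

section Field

variable {F : Type*} [Field F] [Fintype F]

/-- An automorphism fixing the fixed field of `σ` lies in the group generated by `σ`. -/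
theorem mem_zpowers_of_fix {σ τ : F ≃+* F} (hτ : ∀ t, σ t = t → τ t = t) : τ ∈ Subgroup.zpowers σ := by
  haveI := FieldExt.finite_ringAut (F := F)
  let τ' : F ≃ₐ[FixedPoints.subfield (Subgroup.zpowers σ) F] F :=
    AlgEquiv.ofRingEquiv (f := τ) fun t => hτ _ (t.2 ⟨σ, Subgroup.mem_zpowers σ⟩)
  obtain ⟨g, hg⟩ := FixedPoints.toAlgAut_surjective (Subgroup.zpowers σ) F τ'
  have : (g : F ≃+* F) = τ := RingEquiv.ext fun t => DFunLike.congr_fun hg t
  exact this ▸ g.2

theorem eq_one_of_fix_field {σ τ : F ≃+* F} {p k : ℕ} (hσ : orderOf σ = p) (hτ : ∀ t, σ t = t → τ t = t)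
    (hk : τ ^ k = 1) (hco : k.Coprime p) : τ = 1 := by
  haveI := FieldExt.finite_ringAut (F := F)
  have h1 : orderOf τ ∣ p := hσ ▸ orderOf_dvd_of_mem_zpowers (mem_zpowers_of_fix hτ)
  have h := Nat.dvd_gcd (orderOf_dvd_of_pow_eq_one hk) h1
  rw [hco.gcd_eq_one, Nat.dvd_one, orderOf_eq_one_iff] at h
  exact h

end Field

set_option maxHeartbeats 1000000 in
/-- The core of the fixed points, from a projective representation of the centraliser. -/
theorem core_fix_of_hom {K : Type*} [Group K] [Finite K] {ι : Type} [Fintype ι] [DecidableEq ι] {F₀ : Type*}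
    [Field F₀] {p : ℕ} [Fact p.Prime] (hinj : Function.Injective (MulAut.conj : K → MulAut K)) (x : MulAut K)
    (S I : Subgroup (GL ι F₀)) (hIS : I ≤ S) (Φ : S →* MulAut K) (hker : Φ.ker = (Cfsg.Geo.scalars ι F₀).subgroupOf S)
    (hcomm : ∀ k, Commute (Φ k) x) (hrange : ∀ k ∈ fixK x, MulAut.conj k ∈ Φ.range)
    (hodd : ∀ N : Subgroup (GL ι F₀), N ≤ S → (∀ w ∈ I, ∀ d ∈ N, w * d * w⁻¹ ∈ N) →
      (∀ d ∈ N, ∃ k : ℕ, k.Coprime p ∧ ∃ c : F₀, (d ^ k).val = c • (1 : Matrix ι ι F₀)) →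
      ∀ d ∈ N, ∃ c : F₀, d.val = c • (1 : Matrix ι ι F₀)) :
    Cfsg.pPrimeCore p (fixK x) = ⊥ := by
  set L := Cfsg.pPrimeCore p (fixK x)
  let e : fixK x →* MulAut K := (MulAut.conj : K →* MulAut K).comp (fixK x).subtype
  set N₀ : Subgroup S := (L.map e).comap Φ
  have hscal : ∀ c : F₀, ∀ h : GL ι F₀, h.val = c • (1 : Matrix ι ι F₀) → ∀ hS : h ∈ S, Φ ⟨h, hS⟩ = 1 := by
    intro c h hc hS
    rw [← MonoidHom.mem_ker, hker, Subgroup.mem_subgroupOf, GraphAut.mem_scalars]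
    rcases isEmpty_or_nonempty ι with hι | ⟨⟨i⟩⟩
    · exact ⟨1, Units.ext (Matrix.ext fun a => (hι.false a).elim)⟩
    have hc0 : c ≠ 0 := fun h0 => by
      rw [h0, zero_smul] at hc
      have h1 := h.mul_inv
      rw [hc, Matrix.zero_mul] at h1
      simpa using congrFun (congrFun h1 i) i
    refine ⟨Units.mk0 c hc0, Units.ext ?_⟩
    show Matrix.scalar ι c = h.val
    rw [hc, Matrix.scalar_apply, Matrix.smul_one_eq_diagonal]
  have h := hodd (N₀.map S.subtype) (by rintro _ ⟨d, -, rfl⟩; exact d.2)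
    (by
      rintro w hw _ ⟨d, hd, rfl⟩
      refine ⟨⟨w, hIS hw⟩ * d * ⟨w, hIS hw⟩⁻¹, ?_, rfl⟩
      obtain ⟨l, hl, hle⟩ := Subgroup.mem_comap.1 hd
      refine Subgroup.mem_comap.2 ⟨restrictFix (hcomm ⟨w, hIS hw⟩) l, restrictFix_mem_core p _ hl, ?_⟩
      rw [map_mul, map_mul, map_inv, ← hle]
      show MulAut.conj ((Φ ⟨w, hIS hw⟩) (l : K)) = _ * MulAut.conj (l : K) * _⁻¹
      rw [mul_conj, mul_inv_cancel_right])
    (by
      rintro _ ⟨d, hd, rfl⟩
      obtain ⟨l, hl, hle⟩ := Subgroup.mem_comap.1 hd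
      have hco : (orderOf (Φ d)).Coprime p := by
        refine Nat.Coprime.coprime_dvd_left ?_ (PCore.coprime_card_pPrimeCore (G := fixK x) (p := p))
        rw [← hle]
        refine (orderOf_map_dvd e l).trans ?_
        have := orderOf_dvd_natCard (⟨l, hl⟩ : L)
        rwa [Subgroup.orderOf_mk] at this
      refine ⟨orderOf (Φ d), hco, ?_⟩
      have hk : (d ^ orderOf (Φ d) : S) ∈ Φ.ker := by rw [MonoidHom.mem_ker, map_pow, pow_orderOf_eq_one]
      rw [hker, Subgroup.mem_subgroupOf, GraphAut.mem_scalars] at hk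
      obtain ⟨c, hc⟩ := hk
      refine ⟨c, ?_⟩
      rw [SubmonoidClass.coe_pow] at hc
      show ((d : GL ι F₀) ^ orderOf (Φ d)).val = _
      rw [← hc]
      simp [Matrix.GeneralLinearGroup.coe_scalar, Matrix.smul_one_eq_diagonal])
  refine eq_bot_iff.2 fun l hl => Subgroup.mem_bot.2 ?_
  obtain ⟨d, hd⟩ := hrange _ l.2
  have hdN : d ∈ N₀ := Subgroup.mem_comap.2 ⟨l, hl, hd.symm⟩
  obtain ⟨c, hc⟩ := h _ ⟨d, hdN, rfl⟩
  have h1 : Φ d = 1 := hscal c _ hc d.2
  rw [h1, eq_comm, ← map_one (MulAut.conj : K →* MulAut K)] at hd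
  exact Subtype.ext (hinj hd)

end Cfsg.Agent.LocalBalance
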