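import Cfsg.Agent.Lib.LocalBalance.OddAbstract

/-!
The centraliser of a self-adjoint linear map `G` with `G ^ 2` scalar in the similitudes of a symmetric form: odd
normal subgroups are scalar, and semilinear maps fixing the planes seen by the fixed points are scalar.
-/

set_option autoImplicit false
set_option maxHeartbeats 400000
set_option linter.unusedSectionVars false

open Module (finrank)

namespace Cfsg.Agent.LocalBalance

variable {F V : Type*} [Field F] [Fintype F] [AddCommGroup V] [Module F V] [FiniteDimensional F V]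
variable (h2 : (2 : F) ≠ 0) (B : LinearMap.BilinForm F V) (hB : B.Nondegenerate) (hs : ∀ x y, B x y = B y x)
  (G : V →ₗ[F] V) {μ : F} (hG : ∀ v, G (G v) = μ • v) (hadj : ∀ x y, B (G x) y = B x (G y))

section Model

variable {E : Type*} [Field E] [Fintype E] [Module E V] (f : F →+* E) (θ : E) (hθ : θ * θ = f μ)
  (hsc : ∀ (c : F) (v : V), f c • v = c • v) (hθv : ∀ v : V, θ • v = G v)
  (hgen : ∀ e : E, ∃ x y : F, e = f x + f y * θ) (hθf : ∀ x : F, f x ≠ θ)

include hsc hθv hgen in
omit [Fintype E] in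
theorem smul_eq {e : E} : ∀ v : V, ∀ {a b : F}, e = f a + f b * θ → e • v = a • v + b • G v := by
  intro v a b he
  rw [he, add_smul, mul_smul, hsc, hθv, hsc]

include hθf in
omit [Fintype E] [Fintype F] in
theorem coord_unique {a b a' b' : F} (h : f a + f b * θ = f a' + f b' * θ) : a = a' ∧ b = b' := by
  have hb : b = b' := by
    by_contra hne
    refine hθf ((a' - a) / (b - b')) ?_
    have : f b - f b' ≠ 0 := sub_ne_zero.2 fun e => hne (f.injective e)
    rw [map_div₀, map_sub, map_sub, div_eq_iff this]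
    linear_combination -h
  subst hb
  exact ⟨f.injective (add_right_cancel h), rfl⟩

include hadj hG hθ hsc hθv hgen

omit [Fintype E] in
/-- The form over the quadratic extension. -/
theorem exists_formE : ∃ H : LinearMap.BilinForm E V, ∀ x y, H x y = f (B x (G y)) + f (B x y) * θ := by
  refine ⟨LinearMap.mk₂ E (fun x y => f (B x (G y)) + f (B x y) * θ) ?_ ?_ ?_ ?_, fun x y => rfl⟩
  · intro x x' y
    simp only [map_add, LinearMap.add_apply]; ring
  · intro e x y
    obtain ⟨a, b, he⟩ := hgen e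
    rw [smul_eq G f θ hsc hθv hgen x he]
    simp only [map_add, map_smul, LinearMap.add_apply, LinearMap.smul_apply, smul_eq_mul, hadj, hG, map_mul, he]
    linear_combination -(f b * f (B x y)) * hθ
  · intro x y y'
    simp only [map_add]; ring
  · intro e x y
    obtain ⟨a, b, he⟩ := hgen e
    rw [smul_eq G f θ hsc hθv hgen y he]
    simp only [map_add, map_smul, smul_eq_mul, hG, map_mul, he]
    linear_combination -(f b * f (B x y)) * hθ

include hθf hB hs

omit [Fintype E] in
theorem formE_facts {H : LinearMap.BilinForm E V} (hH : ∀ x y, H x y = f (B x (G y)) + f (B x y) * θ) :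
    H.Nondegenerate ∧ ∀ x y, H x y = H y x := by
  have hsym : ∀ x y, H x y = H y x := fun x y => by rw [hH, hH, ← hadj, hs (G x), hs x y]
  have hsep : ∀ x, (∀ y, H x y = 0) → x = 0 := fun x hx => hB.1 x fun y => by
    have h := hx y
    rw [hH] at h
    exact (coord_unique f θ hθf (a' := 0) (b' := 0) (by simpa using h)).2
  exact ⟨⟨hsep, fun y hy => hsep y fun x => (hsym y x).trans (hy x)⟩, hsym⟩

include h2 in
theorem odd_model (hd : finrank E V ≠ 2) (N : Subgroup (V ≃ₗ[F] V))
    (hcomm : ∀ d ∈ N, ∀ v, d (G v) = G (d v))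
    (hsim : ∀ d ∈ N, ∃ c : F, c ≠ 0 ∧ ∀ x y, B (d x) (d y) = c * B x y)
    (hnorm : ∀ w : V ≃ₗ[F] V, (∀ x y, B (w x) (w y) = B x y) → (∀ v, w (G v) = G (w v)) →
      ∀ d ∈ N, w * d * w⁻¹ ∈ N)
    (hodd : ∀ d ∈ N, ∃ k : ℕ, Odd k ∧ ∃ c : F, ∀ x, (d ^ k) x = c • x) :
    ∀ d ∈ N, ∃ c : F, ∀ x, d x = c • x := by
  classical
  haveI : Finite V := Module.finite_of_finite F
  haveI : Module.Finite E V := Module.Finite.of_finite
  have h2E : (2 : E) ≠ 0 := by rw [← map_ofNat f 2]; exact (map_ne_zero f).2 h2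
  obtain ⟨H, hH⟩ := exists_formE B G hG hadj f θ hθ hsc hθv hgen
  obtain ⟨hHn, hHs⟩ := formE_facts B hB hs G hG hadj f θ hθ hsc hθv hgen hθf hH
  let res : (V ≃ₗ[E] V) →* (V ≃ₗ[F] V) :=
    { toFun := fun w =>
        { w.toAddEquiv with
          map_smul' := fun c x => by
            show w (c • x) = c • w x
            rw [← hsc, map_smul, hsc] }
      map_one' := LinearEquiv.ext fun _ => rfl
      map_mul' := fun _ _ => LinearEquiv.ext fun _ => rfl }
  have hres : ∀ (w : V ≃ₗ[E] V) x, res w x = w x := fun w x => rfl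
  have hresG : ∀ (w : V ≃ₗ[E] V) v, res w (G v) = G (res w v) := fun w v => by
    rw [hres, hres, ← hθv, ← hθv, map_smul]
  have key := odd_bilin h2E H hHn hHs hd (N.comap res)
    (by
      intro d hd'
      obtain ⟨c, hc0, hc⟩ := hsim _ hd'
      refine ⟨f c, (map_ne_zero f).2 hc0, fun x y => ?_⟩
      rw [hH, hH, ← hres d x, ← hres d y, ← hcomm _ hd', hc, hc, map_mul, map_mul]
      ring)
    (by
      intro w hw d hd'
      show res (w * d * w⁻¹) ∈ N
      rw [map_mul, map_mul, map_inv]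
      refine hnorm _ (fun x y => ?_) (hresG w) _ hd'
      have := hw x y
      rw [hH, hH] at this
      exact (coord_unique f θ hθf this).2)
    (by
      intro d hd'
      obtain ⟨k, hk, c, hc⟩ := hodd _ hd'
      refine ⟨k, hk, f c, fun x => ?_⟩
      rw [← hres (d ^ k), map_pow, hc, hsc])
  intro d hd'
  let dE : V ≃ₗ[E] V :=
    { d.toAddEquiv with
      map_smul' := fun e x => by
        obtain ⟨a, b, he⟩ := hgen e
        show d (e • x) = e • d x
        rw [smul_eq G f θ hsc hθv hgen x he, smul_eq G f θ hsc hθv hgen (d x) he, map_add, map_smul, map_smul,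
          hcomm d hd'] }
  have hdE : res dE = d := LinearEquiv.ext fun _ => rfl
  obtain ⟨e, he⟩ := key dE (show res dE ∈ N by rw [hdE]; exact hd')
  obtain ⟨a, b, hab⟩ := hgen e
  rcases subsingleton_or_nontrivial V with hV | hV
  · exact ⟨1, fun x => Subsingleton.elim _ _⟩
  obtain ⟨x₀, hx₀⟩ := exists_ne (0 : V)
  obtain ⟨y₀, hy₀⟩ : ∃ y, H x₀ y ≠ 0 := by
    by_contra! h
    exact hx₀ (hHn.1 x₀ h)
  obtain ⟨c, hc0, hc⟩ := hsim d hd'
  have hec : e * e = f c := by
    have h1 : H (d x₀) (d y₀) = f c * H x₀ y₀ := by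
      rw [hH, hH, ← hcomm d hd', hc, hc, map_mul, map_mul]; ring
    rw [show d x₀ = e • x₀ from he x₀, show d y₀ = e • y₀ from he y₀] at h1
    simp only [map_smul, LinearMap.smul_apply, smul_eq_mul] at h1
    exact mul_right_cancel₀ hy₀ (by linear_combination h1)
  have hab0 : a * b = 0 := by
    have h : f (a * a + μ * (b * b)) + f (2 * (a * b)) * θ = f c + f 0 * θ := by
      rw [hab] at hec
      simp only [map_add, map_mul, map_ofNat, map_zero]
      linear_combination hec - f b * f b * hθ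
    exact (mul_eq_zero.1 (coord_unique f θ hθf h).2).resolve_left h2
  rcases mul_eq_zero.1 hab0 with rfl | rfl
  · rcases eq_or_ne b 0 with rfl | hb
    · exact ⟨0, fun x => by
        rw [show d x = e • x from he x, hab]; simp⟩
    exfalso
    obtain ⟨k, ⟨j, rfl⟩, s, hs'⟩ := hodd d hd'
    have hpow : ∀ (n : ℕ) x, (d ^ n) x = e ^ n • x := by
      intro n
      induction n with
      | zero => intro x; simp
      | succ n ih =>
        intro x
        rw [pow_succ', pow_succ', mul_smul, ← ih]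
        exact he _
    have h1 : e ^ (2 * j + 1) = f s := smul_left_injective E hx₀ (by
      show e ^ (2 * j + 1) • x₀ = f s • x₀
      rw [← hpow, hs', hsc])
    rw [pow_succ, pow_mul, pow_two, hec, ← map_pow, hab, map_zero, zero_add, ← mul_assoc, ← map_mul] at h1
    exact mul_ne_zero (pow_ne_zero j hc0) hb
      (coord_unique f θ hθf (a := 0) (a' := s) (b' := 0) (by rw [map_zero, zero_add, h1, zero_mul, add_zero])).2
  · exact ⟨a, fun x => by
      rw [show d x = e • x from he x, hab, map_zero, zero_mul, add_zero, hsc]⟩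

include h2 in
/-- Semilinear maps fixing the planes of the orthogonal good pairs. -/
theorem rigid_model (hd : 5 ≤ finrank E V) (hμ : μ ≠ 0) {T : V → V} (hadd : ∀ x y, T (x + y) = T x + T y)
    (τ : F ≃+* F) (hsmul : ∀ (c : F) x, T (c • x) = τ c • T x) (hinj : ∀ x, T x = 0 → x = 0)
    {z : F} (hTG : ∀ v, T (G v) = z • G (T v))
    (hplane : ∀ v u, B v v ≠ 0 → B u u ≠ 0 → B v (G v) = 0 → B u (G u) = 0 → B v u = 0 → B v (G u) = 0 →
      ∃ a b a' b' : F, T v = a • v + b • G v + (a' • u + b' • G u)) :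
    (∀ c, τ c = c) ∧ ∃ a b : F, ∀ v, T v = a • v + b • G v := by
  classical
  haveI : Finite V := Module.finite_of_finite F
  haveI : Module.Finite E V := Module.Finite.of_finite
  haveI : Nontrivial V := Module.nontrivial_of_finrank_pos (R := E) (by omega)
  have h2E : (2 : E) ≠ 0 := by rw [← map_ofNat f 2]; exact (map_ne_zero f).2 h2
  obtain ⟨H, hH⟩ := exists_formE B G hG hadj f θ hθ hsc hθv hgen
  obtain ⟨hHn, hHs⟩ := formE_facts B hB hs G hG hadj f θ hθ hsc hθv hgen hθf hH
  have hθ0 : θ ≠ 0 := fun e => hθf 0 (by rw [map_zero, e])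
  obtain ⟨x₀, hx₀⟩ := exists_ne (0 : V)
  have hτμ : τ μ = z * z * μ := by
    refine smul_left_injective F (fun e => hx₀ (hinj _ e)) ?_
    show τ μ • T x₀ = (z * z * μ) • T x₀
    rw [← hsmul, ← hG, hTG, hTG, map_smul, hG, smul_smul, smul_smul]
  choose re im hre using hgen
  have hco : ∀ {e : E} {a b : F}, e = f a + f b * θ → re e = a ∧ im e = b := fun {e a b} h =>
    coord_unique f θ hθf ((hre e).symm.trans h)
  let π : E →+* E :=
    { toFun := fun e => f (τ (re e)) + f (z * τ (im e)) * θ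
      map_one' := by
        obtain ⟨h1, h2⟩ := hco (e := 1) (a := 1) (b := 0) (by simp)
        simp [h1, h2]
      map_mul' := fun e e' => by
        obtain ⟨h1, h2⟩ := hco (e := e * e') (a := re e * re e' + μ * (im e * im e'))
          (b := re e * im e' + im e * re e') (by
            conv_lhs => rw [hre e, hre e']
            simp only [map_add, map_mul]
            linear_combination (f (im e) * f (im e')) * hθ)
        simp only [h1, h2, map_add, map_mul, hτμ]
        linear_combination -(f z * f z * f (τ (im e)) * f (τ (im e'))) * hθ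
      map_zero' := by
        obtain ⟨h1, h2⟩ := hco (e := 0) (a := 0) (b := 0) (by simp)
        simp [h1, h2]
      map_add' := fun e e' => by
        obtain ⟨h1, h2⟩ := hco (e := e + e') (a := re e + re e') (b := im e + im e') (by
          conv_lhs => rw [hre e, hre e']
          simp only [map_add]; ring)
        simp only [h1, h2, map_add, map_mul]; ring }
  have hgen' : ∀ e : E, ∃ x y : F, e = f x + f y * θ := fun e => ⟨_, _, hre e⟩
  have hsmulE : ∀ (e : E) x, T (e • x) = π e • T x := fun e x => by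
    rw [smul_eq G f θ hsc hθv hgen' x (hre e), hadd, hsmul, hsmul, hTG, smul_smul, mul_comm (τ (im e))]
    exact (smul_eq G f θ hsc hθv hgen' (T x) rfl).symm
  have hval : ∀ {v : V} {x : F}, H v v = θ * f x → B v (G v) = 0 ∧ B v v = x := fun {v x} h =>
    coord_unique f θ hθf (by rw [← hH, h, map_zero, zero_add, mul_comm])
  obtain ⟨hπ, α, hα⟩ := scalar_of_good h2E H hHn hHs hd f θ hθ hμ hgen' hθ0 hadd π hsmulE hinj
    (fun v ⟨x, hx, hv⟩ => by
      obtain ⟨hv1, hv2⟩ := hval hv
      have hvne : H v v ≠ 0 := by rw [hv]; exact mul_ne_zero hθ0 ((map_ne_zero f).2 hx)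
      obtain ⟨u, hu, hvu⟩ := exists_perp_one h2E H hHn hHs hvne (by omega) (θ * f 1)
      have hune : H u u ≠ 0 := by rw [hu, map_one, mul_one]; exact hθ0
      obtain ⟨u', hu', hvu', huu'⟩ := exists_perp_two h2E H hHn hHs hvne hune hvu (by omega) (θ * f 1)
      have hp : ∀ w, H w w = θ * f 1 → H v w = 0 → ∃ p q : E, T v = p • v + q • w := by
        intro w hw hvw
        obtain ⟨hw1, hw2⟩ := hval hw
        obtain ⟨hvw1, hvw2⟩ := coord_unique f θ hθf (a' := 0) (b' := 0) (by rw [← hH, hvw]; simp)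
        obtain ⟨a, b, a', b', h⟩ := hplane v w (hv2 ▸ hx) (hw2 ▸ one_ne_zero) hv1 hw1 hvw2 hvw1
        exact ⟨f a + f b * θ, f a' + f b' * θ, by
          rw [smul_eq G f θ hsc hθv hgen' v rfl, smul_eq G f θ hsc hθv hgen' w rfl]; exact h⟩
      obtain ⟨p, q, hpq⟩ := hp u hu hvu
      obtain ⟨p', q', hpq'⟩ := hp u' hu' hvu'
      refine ⟨p, ?_⟩
      have h := congrArg (H u) (hpq.symm.trans hpq')
      simp only [map_add, map_smul, smul_eq_mul, hHs u v, hvu, huu', mul_zero, zero_add] at h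
      rw [hpq, (mul_eq_zero.1 h).resolve_right hune, zero_smul, add_zero])
  refine ⟨fun c => f.injective ?_, re α, im α, fun v => by
    rw [hα, smul_eq G f θ hsc hθv hgen' v (hre α)]⟩
  obtain ⟨h1, h2⟩ := hco (e := f c) (a := c) (b := 0) (by simp)
  have h := hπ (f c)
  change f (τ (re (f c))) + f (z * τ (im (f c))) * θ = f c at h
  rwa [h1, h2, map_zero, mul_zero, map_zero, zero_mul, add_zero] at h

end Model

section Nonsquare

variable (hns : ¬ IsSquare μ)
include hns

omit [FiniteDimensional F V] in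
theorem quadExt_facts : Fact (∀ r : F, r ^ 2 ≠ μ + 0 * r) :=
  ⟨fun r hr => hns ⟨r, by linear_combination -hr⟩⟩

include h2 hB hs hG hadj

/-- The case of a non-square. -/
theorem odd_nonsquare {k : ℕ} (hk : k ≠ 2) (hd : finrank F V = 2 * k) (N : Subgroup (V ≃ₗ[F] V))
    (hcomm : ∀ d ∈ N, ∀ v, d (G v) = G (d v))
    (hsim : ∀ d ∈ N, ∃ c : F, c ≠ 0 ∧ ∀ x y, B (d x) (d y) = c * B x y)
    (hnorm : ∀ w : V ≃ₗ[F] V, (∀ x y, B (w x) (w y) = B x y) → (∀ v, w (G v) = G (w v)) →
      ∀ d ∈ N, w * d * w⁻¹ ∈ N)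
    (hodd : ∀ d ∈ N, ∃ k : ℕ, Odd k ∧ ∃ c : F, ∀ x, (d ^ k) x = c • x) :
    ∀ d ∈ N, ∃ c : F, ∀ x, d x = c • x := by
  classical
  haveI := quadExt_facts hns
  let φ : (QuadraticAlgebra F μ 0) →ₐ[F] Module.End F V := QuadraticAlgebra.lift ⟨G, LinearMap.ext fun v => by simpa using hG v⟩
  letI : Module (QuadraticAlgebra F μ 0) V := Module.compHom V φ.toRingHom
  haveI : IsScalarTower F (QuadraticAlgebra F μ 0) V := ⟨fun r z v => by
    show φ (r • z) v = r • φ z v
    rw [map_smul]; rfl⟩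
  haveI : Finite (QuadraticAlgebra F μ 0) := Module.finite_of_finite F
  letI : Fintype (QuadraticAlgebra F μ 0) := Fintype.ofFinite (QuadraticAlgebra F μ 0)
  have hdK : finrank (QuadraticAlgebra F μ 0) V ≠ 2 := by
    have h := Module.finrank_mul_finrank F (QuadraticAlgebra F μ 0) V
    rw [QuadraticAlgebra.finrank_eq_two, hd] at h
    omega
  exact odd_model (E := (QuadraticAlgebra F μ 0)) h2 B hB hs G hG hadj (algebraMap F (QuadraticAlgebra F μ 0)) (⟨0, 1⟩ : (QuadraticAlgebra F μ 0)) (by ext <;> simp)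
    (fun c v => algebraMap_smul (QuadraticAlgebra F μ 0) c v)
    (fun v => by
      show φ (⟨0, 1⟩ : (QuadraticAlgebra F μ 0)) v = G v
      simp [φ, QuadraticAlgebra.lift])
    (fun e => ⟨e.re, e.im, by ext <;> simp⟩)
    (fun x h => by simpa using congrArg QuadraticAlgebra.im h) hdK N hcomm hsim hnorm hodd

/-- The case of a non-square. -/
theorem rigid_nonsquare {k : ℕ} (hk : 5 ≤ k) (hd : finrank F V = 2 * k) {T : V → V}
    (hadd : ∀ x y, T (x + y) = T x + T y)
    (τ : F ≃+* F) (hsmul : ∀ (c : F) x, T (c • x) = τ c • T x) (hinj : ∀ x, T x = 0 → x = 0)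
    {z : F} (hTG : ∀ v, T (G v) = z • G (T v))
    (hplane : ∀ v u, B v v ≠ 0 → B u u ≠ 0 → B v (G v) = 0 → B u (G u) = 0 → B v u = 0 → B v (G u) = 0 →
      ∃ a b a' b' : F, T v = a • v + b • G v + (a' • u + b' • G u)) :
    (∀ c, τ c = c) ∧ ∃ a b : F, ∀ v, T v = a • v + b • G v := by
  classical
  haveI := quadExt_facts hns
  let φ : (QuadraticAlgebra F μ 0) →ₐ[F] Module.End F V := QuadraticAlgebra.lift ⟨G, LinearMap.ext fun v => by simpa using hG v⟩
  letI : Module (QuadraticAlgebra F μ 0) V := Module.compHom V φ.toRingHom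
  haveI : IsScalarTower F (QuadraticAlgebra F μ 0) V := ⟨fun r z v => by
    show φ (r • z) v = r • φ z v
    rw [map_smul]; rfl⟩
  haveI : Finite (QuadraticAlgebra F μ 0) := Module.finite_of_finite F
  letI : Fintype (QuadraticAlgebra F μ 0) := Fintype.ofFinite (QuadraticAlgebra F μ 0)
  have hdK : 5 ≤ finrank (QuadraticAlgebra F μ 0) V := by
    have h := Module.finrank_mul_finrank F (QuadraticAlgebra F μ 0) V
    rw [QuadraticAlgebra.finrank_eq_two, hd] at h
    omega
  exact rigid_model (E := (QuadraticAlgebra F μ 0)) h2 B hB hs G hG hadj (algebraMap F (QuadraticAlgebra F μ 0)) (⟨0, 1⟩ : (QuadraticAlgebra F μ 0)) (by ext <;> simp)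
    (fun c v => algebraMap_smul (QuadraticAlgebra F μ 0) c v)
    (fun v => by
      show φ (⟨0, 1⟩ : (QuadraticAlgebra F μ 0)) v = G v
      simp [φ, QuadraticAlgebra.lift])
    (fun e => ⟨e.re, e.im, by ext <;> simp⟩)
    (fun x h => by simpa using congrArg QuadraticAlgebra.im h) hdK
    (fun e => hns (e ▸ IsSquare.zero)) hadd τ hsmul hinj hTG hplane

end Nonsquare

section Square

variable (hI : ∀ v, G (G v) = v)
include h2 hB hs hadj hI

/-- The two eigenspaces. -/
theorem eigen_facts : IsCompl (LinearMap.ker (G - 1)) (LinearMap.ker (G + 1)) ∧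
    (B.restrict (LinearMap.ker (G - 1))).Nondegenerate ∧ (B.restrict (LinearMap.ker (G + 1))).Nondegenerate ∧
    (∀ u w, G u = u → G w = -w → B u w = 0) ∧
    finrank F (LinearMap.ker (G - 1)) + finrank F (LinearMap.ker (G + 1)) = finrank F V := by
  have hU : ∀ x, x ∈ LinearMap.ker (G - 1) ↔ G x = x := fun x => by simp [sub_eq_zero]
  have hW : ∀ x, x ∈ LinearMap.ker (G + 1) ↔ G x = -x := fun x => by simp [add_eq_zero_iff_eq_neg]
  have horth : ∀ u w, G u = u → G w = -w → B u w = 0 := fun u w hu hw => by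
    have h := hadj u w
    rw [hu, hw, map_neg] at h
    exact (mul_eq_zero.1 (show (2 : F) * B u w = 0 by linear_combination h)).resolve_left h2
  have hdec : ∀ x : V, ∃ u w, G u = u ∧ G w = -w ∧ x = u + w := fun x =>
    ⟨(2 : F)⁻¹ • (x + G x), (2 : F)⁻¹ • (x - G x), by rw [map_smul, map_add, hI, add_comm],
      by rw [map_smul, map_sub, hI, ← smul_neg, neg_sub], by
        rw [← smul_add, show x + G x + (x - G x) = (2 : F) • x by module, smul_smul, inv_mul_cancel₀ h2, one_smul]⟩
  have hc : IsCompl (LinearMap.ker (G - 1)) (LinearMap.ker (G + 1)) := by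
    refine IsCompl.of_eq (eq_bot_iff.2 fun x hx => (Submodule.mem_bot F).2 ?_) (eq_top_iff.2 fun x _ => ?_)
    · have e1 := (hU x).1 hx.1
      have e2 := (hW x).1 hx.2
      have : (2 : F) • x = 0 := by rw [two_smul]; exact add_eq_zero_iff_eq_neg.2 (e1.symm.trans e2)
      exact (smul_eq_zero.1 this).resolve_left h2
    · obtain ⟨u, w, hu, hw, rfl⟩ := hdec x
      exact Submodule.add_mem_sup ((hU u).2 hu) ((hW w).2 hw)
  refine ⟨hc, ?_, ?_, horth, Submodule.finrank_add_eq_of_isCompl hc⟩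
  · have hsep : ∀ x : LinearMap.ker (G - 1), (∀ y : LinearMap.ker (G - 1), B x.1 y.1 = 0) → x = 0 := by
      intro x hx
      refine Subtype.ext (hB.1 x.1 fun y => ?_)
      obtain ⟨u, w, hu, hw, rfl⟩ := hdec y
      rw [map_add, horth _ _ ((hU _).1 x.2) hw, add_zero]
      exact hx ⟨u, (hU u).2 hu⟩
    exact ⟨hsep, fun y hy => hsep y fun x => (hs _ _).trans (hy x)⟩
  · have hsep : ∀ x : LinearMap.ker (G + 1), (∀ y : LinearMap.ker (G + 1), B x.1 y.1 = 0) → x = 0 := by
      intro x hx
      refine Subtype.ext (hB.1 x.1 fun y => ?_)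
      obtain ⟨u, w, hu, hw, rfl⟩ := hdec y
      rw [map_add, hs x.1 u, horth _ _ hu ((hW _).1 x.2), zero_add]
      exact hx ⟨w, (hW w).2 hw⟩
    exact ⟨hsep, fun y hy => hsep y fun x => (hs _ _).trans (hy x)⟩

/-- Restriction of the group to an eigenspace and extension of isometries. -/
theorem odd_part (U W : Submodule F V) (hc : IsCompl U W) (hUW : ∀ u ∈ U, ∀ w ∈ W, B u w = 0)
    (s t : F) (hU : ∀ x, x ∈ U ↔ G x = s • x) (hW : ∀ x ∈ W, G x = t • x)
    (hBU : (B.restrict U).Nondegenerate) (hd : finrank F U ≠ 2)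
    (N : Subgroup (V ≃ₗ[F] V)) (hcomm : ∀ d ∈ N, ∀ v, d (G v) = G (d v))
    (hsim : ∀ d ∈ N, ∃ c : F, c ≠ 0 ∧ ∀ x y, B (d x) (d y) = c * B x y)
    (hnorm : ∀ w : V ≃ₗ[F] V, (∀ x y, B (w x) (w y) = B x y) → (∀ v, w (G v) = G (w v)) →
      ∀ d ∈ N, w * d * w⁻¹ ∈ N)
    (hodd : ∀ d ∈ N, ∃ k : ℕ, Odd k ∧ ∃ c : F, ∀ x, (d ^ k) x = c • x) :
    ∀ d ∈ N, ∃ c : F, ∀ x ∈ U, d x = c • x := by
  classical
  have hpres : ∀ d ∈ N, ∀ x ∈ U, d x ∈ U := fun d hd x hx => by
    rw [hU, ← hcomm d hd, (hU x).1 hx, map_smul]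
  let r : N →* (U ≃ₗ[F] U) :=
    { toFun := fun d =>
        { toFun := fun x => ⟨d.1 x, hpres _ d.2 _ x.2⟩
          map_add' := fun x y => Subtype.ext (map_add d.1 _ _)
          map_smul' := fun c x => Subtype.ext (map_smul d.1 c _)
          invFun := fun x => ⟨d.1⁻¹ x, hpres _ (N.inv_mem d.2) _ x.2⟩
          left_inv := fun x => Subtype.ext (d.1.symm_apply_apply _)
          right_inv := fun x => Subtype.ext (d.1.apply_symm_apply _) }
      map_one' := LinearEquiv.ext fun _ => rfl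
      map_mul' := fun _ _ => LinearEquiv.ext fun _ => rfl }
  have key := odd_bilin h2 (B.restrict U) hBU (fun x y => hs _ _) hd r.range
    (by
      rintro _ ⟨d, rfl⟩
      obtain ⟨c, hc0, hcc⟩ := hsim _ d.2
      exact ⟨c, hc0, fun x y => hcc _ _⟩)
    (by
      rintro w hw _ ⟨d, rfl⟩
      let e := Submodule.prodEquivOfIsCompl U W hc
      let w' : V ≃ₗ[F] V := e.symm.trans ((w.prodCongr (LinearEquiv.refl F W)).trans e)
      have hw' : ∀ (u : U) (v : W), w' (u.1 + v.1) = (w u).1 + v.1 := fun u v => by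
        have he : e (u, v) = u.1 + v.1 := rfl
        rw [← he]
        show e (w.prodCongr (LinearEquiv.refl F W) (e.symm (e (u, v)))) = _
        rw [e.symm_apply_apply]
        rfl
      have hwi : ∀ x y, B (w' x) (w' y) = B x y := by
        intro x y
        obtain ⟨⟨a, b⟩, rfl⟩ := e.surjective x
        obtain ⟨⟨a', b'⟩, rfl⟩ := e.surjective y
        show B (w' (a.1 + b.1)) (w' (a'.1 + b'.1)) = B (a.1 + b.1) (a'.1 + b'.1)
        rw [hw', hw']
        have h := hw a a'
        simp only [LinearMap.BilinForm.restrict_apply] at h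
        simp only [map_add, LinearMap.add_apply, hUW _ (w a).2 _ b'.2, hUW _ a.2 _ b'.2, hs b.1 (w a').1,
          hUW _ (w a').2 _ b.2, hs b.1 a'.1, hUW _ a'.2 _ b.2]
        rw [show B (w a).1 (w a').1 = B a.1 a'.1 from h]
      have hwG : ∀ v, w' (G v) = G (w' v) := by
        intro v
        obtain ⟨⟨a, b⟩, rfl⟩ := e.surjective v
        show w' (G (a.1 + b.1)) = G (w' (a.1 + b.1))
        rw [hw', map_add G, map_add G, (hU _).1 a.2, (hU _).1 (w a).2, hW _ b.2,
          show s • a.1 + t • b.1 = (s • a).1 + (t • b).1 from rfl, hw', map_smul]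
        rfl
      refine ⟨⟨_, hnorm w' hwi hwG _ d.2⟩, LinearEquiv.ext fun x => Subtype.ext ?_⟩
      show w' (d.1 (w'⁻¹ x.1)) = (w (r d (w⁻¹ x))).1
      have hi : w'⁻¹ x.1 = (w⁻¹ x).1 := by
        apply w'.injective
        show w' (w'.symm x.1) = _
        rw [w'.apply_symm_apply]
        have := hw' (w⁻¹ x) 0
        simp only [ZeroMemClass.coe_zero, add_zero] at this
        rw [this]
        exact congrArg Subtype.val (w.apply_symm_apply x).symm
      rw [hi]
      have := hw' (r d (w⁻¹ x)) 0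
      simp only [ZeroMemClass.coe_zero, add_zero] at this
      exact this)
    (by
      rintro _ ⟨d, rfl⟩
      obtain ⟨k, hk, c, hcc⟩ := hodd _ d.2
      refine ⟨k, hk, c, fun x => ?_⟩
      rw [← map_pow]
      exact Subtype.ext (hcc x.1))
  intro d hd'
  obtain ⟨c, hcc⟩ := key _ ⟨⟨d, hd'⟩, rfl⟩
  exact ⟨c, fun x hx => congrArg Subtype.val (hcc ⟨x, hx⟩)⟩

/-- The case of a square. -/
theorem odd_square (hp : Odd (finrank F (LinearMap.ker (G - 1)))) (hm : Odd (finrank F (LinearMap.ker (G + 1))))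
    (N : Subgroup (V ≃ₗ[F] V)) (hcomm : ∀ d ∈ N, ∀ v, d (G v) = G (d v))
    (hsim : ∀ d ∈ N, ∃ c : F, c ≠ 0 ∧ ∀ x y, B (d x) (d y) = c * B x y)
    (hnorm : ∀ w : V ≃ₗ[F] V, (∀ x y, B (w x) (w y) = B x y) → (∀ v, w (G v) = G (w v)) →
      ∀ d ∈ N, w * d * w⁻¹ ∈ N)
    (hodd : ∀ d ∈ N, ∃ k : ℕ, Odd k ∧ ∃ c : F, ∀ x, (d ^ k) x = c • x) :
    ∀ d ∈ N, ∃ c : F, ∀ x, d x = c • x := by
  obtain ⟨hc, hUn, hWn, horth, -⟩ := eigen_facts h2 B hB hs G hadj hI
  set U := LinearMap.ker (G - 1)
  set W := LinearMap.ker (G + 1)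
  have hU : ∀ x, x ∈ U ↔ G x = (1 : F) • x := fun x => by simp [U, sub_eq_zero]
  have hW : ∀ x, x ∈ W ↔ G x = (-1 : F) • x := fun x => by simp [W, add_eq_zero_iff_eq_neg]
  have ho : ∀ u ∈ U, ∀ w ∈ W, B u w = 0 := fun u hu w hw =>
    horth u w (by simpa using (hU u).1 hu) (by simpa using (hW w).1 hw)
  intro d hd
  obtain ⟨α, hα⟩ := odd_part h2 B hB hs G hadj hI U W hc ho 1 (-1) hU (fun x hx => (hW x).1 hx) hUn
    (fun e => by rw [e] at hp; exact absurd hp (by decide)) N hcomm hsim hnorm hodd d hd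
  obtain ⟨β, hβ⟩ := odd_part h2 B hB hs G hadj hI W U hc.symm (fun u hu w hw => (hs _ _).trans (ho w hw u hu))
    (-1) 1 hW (fun x hx => (hU x).1 hx) hWn
    (fun e => by rw [e] at hm; exact absurd hm (by decide)) N hcomm hsim hnorm hodd d hd
  have hUne : Nontrivial U := Module.nontrivial_of_finrank_pos (R := F) hp.pos
  have hWne : Nontrivial W := Module.nontrivial_of_finrank_pos (R := F) hm.pos
  obtain ⟨c, hc0, hcc⟩ := hsim d hd
  have hsq : ∀ {S : Submodule F V} {γ : F}, Nontrivial S → (B.restrict S).Nondegenerate →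
      (∀ x ∈ S, d x = γ • x) → γ * γ = c := by
    intro S γ hS hSn hγ
    obtain ⟨x, hx⟩ := exists_ne (0 : S)
    obtain ⟨y, hy⟩ : ∃ y : S, B x.1 y.1 ≠ 0 := by
      by_contra! h
      exact hx (hSn.1 x h)
    have h := hcc x.1 y.1
    rw [hγ _ x.2, hγ _ y.2] at h
    simp only [map_smul, LinearMap.smul_apply, smul_eq_mul] at h
    exact mul_right_cancel₀ hy (by linear_combination h)
  have e1 := hsq hUne hUn hα
  have e2 := hsq hWne hWn hβ
  obtain ⟨k, hk, e, he⟩ := hodd d hd
  have hpw : ∀ {S : Submodule F V} {γ : F}, Nontrivial S → (∀ x ∈ S, d x = γ • x) → γ ^ k = e := by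
    intro S γ hS hγ
    obtain ⟨x, hx⟩ := exists_ne (0 : S)
    have hpow : ∀ (n : ℕ), (d ^ n) x.1 = γ ^ n • x.1 := by
      intro n
      induction n with
      | zero => simp
      | succ n ih =>
        rw [pow_succ', LinearEquiv.mul_apply, ih, map_smul, hγ _ x.2, smul_smul, pow_succ]
    exact smul_left_injective F (fun h => hx (Subtype.ext h)) ((hpow k).symm.trans (he x.1))
  have hαβ : α = β := by
    rcases (mul_self_eq_mul_self_iff.1 (e1.trans e2.symm)) with h | h
    · exact h
    · exfalso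
      have h3 := (hpw hUne hα).trans (hpw hWne hβ).symm
      rw [h, hk.neg_pow] at h3
      have hβ0 : β ≠ 0 := fun h0 => hc0 (by rw [← e2, h0, mul_zero])
      exact pow_ne_zero k hβ0 ((mul_eq_zero.1 (show (2 : F) * β ^ k = 0 by linear_combination -h3)).resolve_left h2)
  refine ⟨α, fun x => ?_⟩
  obtain ⟨u, hu, w, hw, rfl⟩ := Submodule.mem_sup.1
    (show x ∈ U ⊔ W by rw [hc.sup_eq_top]; exact Submodule.mem_top)
  rw [map_add, hα u hu, hβ w hw, ← hαβ, smul_add]

/-- Semilinear maps fixing the planes of pairs of eigenvectors of equal value. -/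
theorem rigid_square (hp : 5 ≤ finrank F (LinearMap.ker (G - 1))) (hm : finrank F (LinearMap.ker (G + 1)) ≠ 2)
    {T : V → V} (hadd : ∀ x y, T (x + y) = T x + T y) (τ : F ≃+* F)
    (hsmul : ∀ (c : F) x, T (c • x) = τ c • T x) (hinj : ∀ x, T x = 0 → x = 0)
    (hplane : ∀ v u, B v v ≠ 0 → B u u = B v v → (G v = v ∨ G v = -v) → G u = u → B v u = 0 →
      ∃ a b : F, T v = a • v + b • u) :
    (∀ c, τ c = c) ∧ ∃ a b : F, (∀ v, G v = v → T v = a • v) ∧ ∀ v, G v = -v → T v = b • v := by
  classical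
  obtain ⟨hc, hUn, hWn, horth, -⟩ := eigen_facts h2 B hB hs G hadj hI
  have hU : ∀ x, x ∈ LinearMap.ker (G - 1) ↔ G x = x := fun x => by simp [sub_eq_zero]
  have hW : ∀ x, x ∈ LinearMap.ker (G + 1) ↔ G x = -x := fun x => by simp [add_eq_zero_iff_eq_neg]
  set U := LinearMap.ker (G - 1)
  set W := LinearMap.ker (G + 1)
  -- every anisotropic eigenvector spans a fixed line
  have hline : ∀ v, B v v ≠ 0 → (G v = v ∨ G v = -v) → ∃ α : F, T v = α • v := by
    intro v hv hev
    have key : ∀ u, G u = u → B v u = 0 → B u u = B v v → ∀ u', G u' = u' → B v u' = 0 → B u' u' = B v v →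
        B u u' = 0 → ∃ α : F, T v = α • v := by
      intro u hu hvu huv u' hu' hvu' huv' huu'
      obtain ⟨a, b, h⟩ := hplane v u hv huv hev hu hvu
      obtain ⟨a', b', h'⟩ := hplane v u' hv huv' hev hu' hvu'
      have e := congrArg (B u) (h.symm.trans h')
      simp only [map_add, map_smul, smul_eq_mul, hs u v, hvu, huu', mul_zero, zero_add] at e
      exact ⟨a, by rw [h, (mul_eq_zero.1 e).resolve_right (huv ▸ hv), zero_smul, add_zero]⟩
    rcases hev with hev | hev
    · obtain ⟨u, hu, hvu⟩ := exists_perp_one h2 (B.restrict U) hUn (fun x y => hs _ _) (v := ⟨v, (hU v).2 hev⟩)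
        hv (by omega) (B v v)
      obtain ⟨u', hu', hvu', huu'⟩ := exists_perp_two h2 (B.restrict U) hUn (fun x y => hs _ _)
        (v := ⟨v, (hU v).2 hev⟩) (w := u) hv (by rw [hu]; exact hv) hvu (by omega) (B v v)
      exact key u.1 ((hU _).1 u.2) hvu hu u'.1 ((hU _).1 u'.2) hvu' hu' huu'
    · obtain ⟨u, hu⟩ := exists_value_two h2 (B.restrict U) hUn (fun x y => hs _ _) (by omega) (B v v)
      obtain ⟨u', hu', huu'⟩ := exists_perp_one h2 (B.restrict U) hUn (fun x y => hs _ _)
        (v := u) (by rw [hu]; exact hv) (by omega) (B v v)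
      exact key u.1 ((hU _).1 u.2) ((hs _ _).trans (horth _ _ ((hU _).1 u.2) hev)) hu u'.1 ((hU _).1 u'.2)
        ((hs _ _).trans (horth _ _ ((hU _).1 u'.2) hev)) hu' huu'
  let P : V →ₗ[F] U := U.linearProjOfIsCompl W hc
  let TU : U → U := fun u => P (T u.1)
  have hPid : ∀ u : U, P u.1 = u := fun u => Submodule.linearProjOfIsCompl_apply_left hc u
  have hTU : ∀ u : U, B u.1 u.1 ≠ 0 → ∃ α : F, TU u = α • u ∧ T u.1 = α • u.1 := fun u hu => by
    obtain ⟨α, hα⟩ := hline u.1 hu (Or.inl ((hU _).1 u.2))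
    exact ⟨α, by show P (T u.1) = _; rw [hα, map_smul, hPid], hα⟩
  have hTinj : ∀ u : U, TU u = 0 → u = 0 := by
    -- `T` maps the first eigenspace into itself
    have hmaps : ∀ u : U, T u.1 ∈ U := by
      haveI : Invertible (2 : F) := invertibleOfNonzero h2
      obtain ⟨b, hb⟩ := LinearMap.BilinForm.exists_orthogonal_basis (B := B.restrict U) ⟨fun x y => hs x.1 y.1⟩
      have hne := LinearMap.BilinForm.iIsOrtho.not_isOrtho_basis_self_of_nondegenerate hb hUn
      let S : Submodule F U :=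
        { carrier := {u | T u.1 ∈ U}
          zero_mem' := by
            show T 0 ∈ U
            have := hsmul 0 (0 : V)
            rw [zero_smul, map_zero, zero_smul] at this
            rw [this]; exact U.zero_mem
          add_mem' := fun {x y} hx hy => by
            show T (x.1 + y.1) ∈ U
            rw [hadd]; exact U.add_mem hx hy
          smul_mem' := fun c x hx => by
            show T (c • x.1) ∈ U
            rw [hsmul]; exact U.smul_mem _ hx }
      intro u
      have : ⊤ ≤ S := by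
        rw [← b.span_eq, Submodule.span_le]
        rintro _ ⟨i, rfl⟩
        obtain ⟨α, -, hα⟩ := hTU (b i) (hne i)
        show T (b i).1 ∈ U
        rw [hα]; exact U.smul_mem _ (b i).2
      exact this Submodule.mem_top
    intro u hu
    refine Subtype.ext (hinj _ ?_)
    have h1 : TU u = ⟨T u.1, hmaps u⟩ := hPid ⟨T u.1, hmaps u⟩
    rw [hu] at h1
    exact (congrArg Subtype.val h1).symm
  obtain ⟨hπ, α, hα⟩ := scalar_of_good h2 (B.restrict U) hUn (fun x y => hs _ _) hp (RingHom.id F) 1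
    (μ := 1) (by simp) one_ne_zero (fun e => ⟨e, 0, by simp⟩) (d₀ := 1) one_ne_zero (T := TU)
    (fun x y => by show P (T (x.1 + y.1)) = _; rw [hadd, map_add]) τ.toRingHom
    (fun c x => by show P (T (c • x.1)) = _; rw [hsmul, map_smul]; rfl) hTinj
    (fun u ⟨x, hx, hu⟩ => by
      obtain ⟨α, hα, -⟩ := hTU u (by
        rw [show B u.1 u.1 = 1 * RingHom.id F x from hu]; simpa using hx)
      exact ⟨α, hα⟩)
  have hτ : ∀ c, τ c = c := hπ
  obtain ⟨β, hβ⟩ : ∃ β : F, ∀ w : W, T w.1 = β • w.1 := by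
    let Q : V →ₗ[F] W := W.linearProjOfIsCompl U hc.symm
    have hQid : ∀ w : W, Q w.1 = w := fun w => Submodule.linearProjOfIsCompl_apply_left hc.symm w
    obtain ⟨β, hβ⟩ := scalar_of_basis (B.restrict W) h2 hWn (fun x y => hs _ _) hm (T := fun w => Q (T w.1))
      (fun x y => by show Q (T (x.1 + y.1)) = _; rw [hadd, map_add])
      (fun c x => by show Q (T (c • x.1)) = _; rw [hsmul, hτ, map_smul])
      (fun w hw => by
        obtain ⟨a, ha⟩ := hline w.1 hw (Or.inr ((hW _).1 w.2))
        exact ⟨a, by show Q (T w.1) = _; rw [ha, map_smul, hQid]⟩)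
    haveI : Invertible (2 : F) := invertibleOfNonzero h2
    obtain ⟨b, hb⟩ := LinearMap.BilinForm.exists_orthogonal_basis (B := B.restrict W) ⟨fun x y => hs x.1 y.1⟩
    have hne := LinearMap.BilinForm.iIsOrtho.not_isOrtho_basis_self_of_nondegenerate hb hWn
    let L : V →ₗ[F] V :=
      { toFun := T, map_add' := hadd, map_smul' := fun c x => by rw [hsmul, hτ]; rfl }
    refine ⟨β, fun w => ?_⟩
    have : L.comp W.subtype = β • W.subtype := b.ext fun i => by
      obtain ⟨a, ha⟩ := hline (b i).1 (hne i) (Or.inr ((hW _).1 (b i).2))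
      have h' := hβ (b i)
      simp only [ha, map_smul, hQid] at h'
      have hab : a = β := smul_left_injective F (b.ne_zero i) h'
      show T (b i).1 = β • (b i).1
      rw [ha, hab]
    exact LinearMap.congr_fun this w
  refine ⟨hτ, α, β, fun v hv => ?_, fun v hv => hβ ⟨v, (hW v).2 hv⟩⟩
  have h : ∀ u : U, T u.1 = α • u.1 := by
    haveI : Invertible (2 : F) := invertibleOfNonzero h2
    obtain ⟨b, hb⟩ := LinearMap.BilinForm.exists_orthogonal_basis (B := B.restrict U) ⟨fun x y => hs x.1 y.1⟩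
    have hne := LinearMap.BilinForm.iIsOrtho.not_isOrtho_basis_self_of_nondegenerate hb hUn
    let L : V →ₗ[F] V :=
      { toFun := T, map_add' := hadd, map_smul' := fun c x => by rw [hsmul, hτ]; rfl }
    intro u
    have : L.comp U.subtype = α • U.subtype := b.ext fun i => by
      obtain ⟨a, ha1, ha⟩ := hTU (b i) (hne i)
      have hab : a = α := smul_left_injective F (b.ne_zero i) (ha1.symm.trans (hα (b i)))
      show T (b i).1 = α • (b i).1
      rw [ha, hab]
    exact LinearMap.congr_fun this u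
  exact h ⟨v, (hU v).2 hv⟩

end Square

end Cfsg.Agent.LocalBalance
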