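import Cfsg.Agent.Lib.LocalBalance.Criterion
import Cfsg.Agent.Lib.AutPSL.FieldAut
import Cfsg.Agent.Lib.GL.Simple

/-!
Fixed points of a field automorphism of `PSL_n`.
-/

set_option autoImplicit false
set_option linter.unusedSectionVars false

open Matrix
open scoped MatrixGroups commutatorElement

namespace Cfsg.Agent.LocalBalance

open Cfsg.Agent.AutPSL

variable {m : ℕ} {F : Type*} [Field F] [Fintype F]

local notation "SLn" => Matrix.SpecialLinearGroup (Fin (m + 1)) F
local notation "PSLn" => Matrix.ProjectiveSpecialLinearGroup (Fin (m + 1)) F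
local notation "GLn" => GL (Fin (m + 1)) F

theorem SL_normal_cases {n : ℕ} (hn : 2 ≤ n) {F₀ : Type*} [Field F₀] [Fintype F₀]
    (hF : n = 2 → 4 ≤ Nat.card F₀) (N : Subgroup (Matrix.SpecialLinearGroup (Fin n) F₀)) [N.Normal] :
    N = ⊤ ∨ N ≤ Subgroup.center _ := by
  haveI := GL.PSL_isSimpleGroup (F := F₀) n hn hF
  haveI : (N.map (QuotientGroup.mk' (Subgroup.center (Matrix.SpecialLinearGroup (Fin n) F₀)))).Normal :=
    Subgroup.Normal.map inferInstance _ (QuotientGroup.mk'_surjective _)
  rcases IsSimpleGroup.eq_bot_or_eq_top_of_normal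
    (N.map (QuotientGroup.mk' (Subgroup.center (Matrix.SpecialLinearGroup (Fin n) F₀)))) inferInstance with h | h
  · right
    rw [Subgroup.map_eq_bot_iff, QuotientGroup.ker_mk'] at h
    exact h
  · left
    have hsup : N ⊔ Subgroup.center _ = ⊤ := by
      rw [← QuotientGroup.ker_mk' (Subgroup.center (Matrix.SpecialLinearGroup (Fin n) F₀)), ← Subgroup.comap_map_eq,
        h, Subgroup.comap_top]
    rw [eq_top_iff, ← GL.SL_commutator_eq_top n hn fun h2 => GL.exists_sq_ne_one_of_four_le_card (hF h2),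
      commutator_def, Subgroup.commutator_le]
    intro a _ b _
    have hmem : ∀ x, ∃ u ∈ N, ∃ z ∈ Subgroup.center (Matrix.SpecialLinearGroup (Fin n) F₀), x = u * z := fun x => by
      have hx : x ∈ N ⊔ Subgroup.center _ := hsup ▸ Subgroup.mem_top x
      obtain ⟨u, hu, z, hz, e⟩ := Subgroup.mem_sup_of_normal_left.1 hx
      exact ⟨u, hu, z, hz, e.symm⟩
    obtain ⟨u, hu, z, hz, rfl⟩ := hmem a
    obtain ⟨v, hv, w, hw, rfl⟩ := hmem b
    have e : ⁅u * z, v * w⁆ = ⁅u, v⁆ := by
      have hzc := Subgroup.mem_center_iff.1 hz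
      have hwc := Subgroup.mem_center_iff.1 hw
      rw [commutatorElement_def, commutatorElement_def, _root_.mul_inv_rev, _root_.mul_inv_rev]
      have hz' : ∀ x, z * x = x * z := fun x => (hzc x).symm
      calc u * z * (v * w) * (z⁻¹ * u⁻¹) * (w⁻¹ * v⁻¹)
          = u * (z * (v * w)) * z⁻¹ * u⁻¹ * (w⁻¹ * v⁻¹) := by group
        _ = u * (v * w) * u⁻¹ * w⁻¹ * v⁻¹ := by rw [hz']; group
        _ = u * v * (w * u⁻¹) * w⁻¹ * v⁻¹ := by group
        _ = u * v * u⁻¹ * v⁻¹ := by rw [← hwc u⁻¹]; group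
    rw [e, commutatorElement_def]
    exact N.mul_mem (N.mul_mem (N.mul_mem hu hv) (N.inv_mem hu)) (N.inv_mem hv)

/-- A non-central `p`-element, when `p` divides `n`. -/
theorem exists_pElement {F₀ : Type*} [Field F₀] [Fintype F₀] (hm : 1 ≤ m) {p : ℕ} [Fact p.Prime]
    (hp0 : (p : F₀) ≠ 0) (hn : p ∣ m + 1) :
    ∃ w : Matrix.SpecialLinearGroup (Fin (m + 1)) F₀, (∃ e, w ^ p ^ e = 1) ∧ w ∉ Subgroup.center _ := by
  classical
  have hp : p.Prime := Fact.out
  have hcenter : ∀ {w : Matrix.SpecialLinearGroup (Fin (m + 1)) F₀}, w ∈ Subgroup.center _ → ∀ i j, i ≠ j →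
      w.1 i j = 0 ∧ w.1 i i = w.1 j j := fun {w} hw i j hij => by
    obtain ⟨r, -, hr⟩ := Matrix.SpecialLinearGroup.mem_center_iff.1 hw
    constructor <;> simp [← hr, hij]
  let i0 : Fin (m + 1) := ⟨0, by omega⟩
  let i1 : Fin (m + 1) := ⟨1, by omega⟩
  have h01 : i0 ≠ i1 := by simp [i0, i1, Fin.ext_iff]
  by_cases hd : p ∣ Fintype.card F₀ - 1
  · obtain ⟨ζ, hζ⟩ := exists_prime_orderOf_dvd_card' (G := F₀ˣ) p (by rw [GL.card_units_field]; exact hd)
    have hζp : (ζ : F₀) ^ p = 1 := by rw [← Units.val_pow_eq_pow_val, ← hζ, pow_orderOf_eq_one, Units.val_one]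
    have hζ1 : (ζ : F₀) ≠ 1 := fun h => hp.ne_one (by rw [← hζ, orderOf_eq_one_iff]; exact Units.ext h)
    by_cases hsmall : m = 1 ∧ p = 2
    · obtain ⟨rfl, rfl⟩ := hsmall
      let T : Matrix.SpecialLinearGroup (Fin 2) F₀ := ⟨!![0, 1; -1, 0], by simp [Matrix.det_fin_two]⟩
      refine ⟨T, ⟨2, ?_⟩, fun hc => ?_⟩
      · refine Subtype.ext ?_
        rw [show (2 : ℕ) ^ 2 = 2 + 2 from rfl, pow_add, pow_two, Matrix.SpecialLinearGroup.coe_mul,
          Matrix.SpecialLinearGroup.coe_mul, Matrix.SpecialLinearGroup.coe_one]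
        ext i j
        fin_cases i <;> fin_cases j <;> simp [T, Matrix.mul_apply, Fin.sum_univ_two]
      · simpa [T] using (hcenter hc 0 1 (by decide)).1
    · let v : Fin (m + 1) → F₀ := Function.update (Function.update 1 i0 (ζ : F₀)) i1 (ζ : F₀)⁻¹
      let W : Matrix.SpecialLinearGroup (Fin (m + 1)) F₀ := ⟨Matrix.diagonal v, by
        rw [Matrix.det_diagonal, Finset.prod_update_of_mem (Finset.mem_univ _),
          Finset.prod_update_of_mem (by simp [h01])]
        simp⟩
      refine ⟨W, ⟨1, ?_⟩, fun hc => ?_⟩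
      · refine Subtype.ext ?_
        rw [pow_one, Matrix.SpecialLinearGroup.coe_pow, Matrix.SpecialLinearGroup.coe_one]
        show Matrix.diagonal v ^ p = 1
        rw [Matrix.diagonal_pow, ← Matrix.diagonal_one]
        congr 1
        funext i
        rw [Pi.pow_apply]
        rcases eq_or_ne i i1 with rfl | h1
        · simp [v, hζp]
        rcases eq_or_ne i i0 with rfl | h0
        · simp [v, h01, hζp]
        · simp [v, h0, h1]
      · have h2 : (W.1 i0 i0 : F₀) = W.1 i1 i1 := (hcenter hc i0 i1 h01).2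
        simp [W, v, h01] at h2
        by_cases hm1 : m = 1
        · have hsq : (ζ : F₀) ^ 2 = 1 := by
            rw [sq]; nth_rw 2 [h2]; exact mul_inv_cancel₀ ζ.ne_zero
          refine hsmall ⟨hm1, (Nat.prime_dvd_prime_iff_eq hp Nat.prime_two).1 ?_⟩
          rw [← hζ]
          exact orderOf_dvd_of_pow_eq_one (Units.ext (by simpa using hsq))
        · let i2 : Fin (m + 1) := ⟨2, by omega⟩
          have h02 : i0 ≠ i2 := by simp [i0, i2, Fin.ext_iff]
          have h21 : i2 ≠ i1 := by simp [i1, i2, Fin.ext_iff]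
          have h3 := (hcenter hc i0 i2 h02).2
          simp [W, v, h01, h02.symm, h21] at h3
          exact hζ1 (by simpa using h3)
  · have hp2 : p ≠ 2 := by
      rintro rfl
      refine hd (even_iff_two_dvd.1 ?_)
      have hodd : Odd (Fintype.card F₀) := by
        rw [Nat.odd_iff, FiniteField.odd_card_of_char_ne_two]
        intro h
        haveI : CharP F₀ 2 := h ▸ ringChar.charP F₀
        exact hp0 (CharP.cast_eq_zero F₀ 2)
      obtain ⟨k, hk⟩ := hodd
      exact ⟨k, by omega⟩
    have h3 := hp.two_le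
    have hple : p ≤ m + 1 := Nat.le_of_dvd (by omega) hn
    have hfermat : p ∣ Fintype.card F₀ ^ (p - 1) - 1 := by
      have hcp : Nat.Coprime (Fintype.card F₀) p := by
        refine Nat.Coprime.symm (hp.coprime_iff_not_dvd.2 fun h => hp0 ?_)
        obtain ⟨c, hc⟩ := h
        obtain ⟨r, hr⟩ := CharP.exists F₀
        obtain ⟨k, hr', hk⟩ := FiniteField.card F₀ r
        have : p = r := (Nat.prime_dvd_prime_iff_eq hp hr').1 (hp.dvd_of_dvd_pow (n := (k : ℕ)) (by rw [← hk]; exact ⟨c, hc⟩))
        rw [this]; exact CharP.cast_eq_zero F₀ r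
      have := Nat.ModEq.pow_totient hcp
      rw [Nat.totient_prime hp] at this
      exact (Nat.modEq_iff_dvd' (Nat.one_le_pow _ _ Fintype.card_pos)).1 this.symm
    have hdvd : p ∣ Nat.card (Matrix.SpecialLinearGroup (Fin (m + 1)) F₀) := by
      rw [GL.card_SL_prod]
      exact (hfermat.trans (Finset.dvd_prod_of_mem (fun i => Fintype.card F₀ ^ i - 1) (a := p - 1)
        (Finset.mem_Ico.2 (show 2 ≤ p - 1 ∧ p - 1 < m + 1 + 1 by omega)))).mul_left _
    obtain ⟨w, hw⟩ := exists_prime_orderOf_dvd_card' p hdvd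
    refine ⟨w, ⟨1, by rw [pow_one, ← hw, pow_orderOf_eq_one]⟩, fun hc => hd ?_⟩
    have h4 : p ∣ Nat.card (Subgroup.center (Matrix.SpecialLinearGroup (Fin (m + 1)) F₀)) := by
      have := orderOf_dvd_natCard (⟨w, hc⟩ : Subgroup.center (Matrix.SpecialLinearGroup (Fin (m + 1)) F₀))
      rwa [Subgroup.orderOf_mk, hw] at this
    rw [GL.card_center_SL] at h4
    exact h4.trans (Nat.gcd_dvd_right _ _)

variable (σ : F ≃+* F)

local notation "F₁" => FieldExt.fixedField σ

/-- The rational points. -/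
def ratSL : Matrix.SpecialLinearGroup (Fin (m + 1)) F₁ →* fixK (fieldP σ : MulAut PSLn) :=
  ((QuotientGroup.mk' (Subgroup.center SLn)).comp
    (Matrix.SpecialLinearGroup.map (FieldExt.fixedField σ).subtype)).codRestrict _ fun w => by
    rw [mem_fixK]
    show fieldP σ (QuotientGroup.mk _) = QuotientGroup.mk _
    rw [fieldP_mk]
    exact congrArg QuotientGroup.mk (Subtype.ext (Matrix.ext fun i j => FieldExt.mem_fixedField.1 (w.1 i j).2))

theorem ratSL_coe (w : Matrix.SpecialLinearGroup (Fin (m + 1)) F₁) :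
    ((ratSL σ w : fixK (fieldP σ : MulAut PSLn)) : PSLn) =
      QuotientGroup.mk (Matrix.SpecialLinearGroup.map (FieldExt.fixedField σ).subtype w) := rfl

theorem mem_range_ratSL {s : SLn} (hs : fieldSL σ s = s) {k : fixK (fieldP σ : MulAut PSLn)}
    (hk : (k : PSLn) = QuotientGroup.mk s) : k ∈ (ratSL σ).range := by
  have hs' : ∀ i j, σ (s.1 i j) = s.1 i j := fun i j =>
    congrFun (congrFun (congrArg Subtype.val hs) i) j
  let A : Matrix (Fin (m + 1)) (Fin (m + 1)) F₁ :=
    Matrix.of fun i j => ⟨s.1 i j, FieldExt.mem_fixedField.2 (hs' i j)⟩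
  have hA : A.map (FieldExt.fixedField σ).subtype = s.1 := rfl
  have hdet : A.det = 1 := (FieldExt.fixedField σ).subtype.injective (by
    rw [RingHom.map_det, RingHom.mapMatrix_apply, hA, map_one]; exact s.2)
  exact ⟨⟨A, hdet⟩, Subtype.ext hk.symm⟩

theorem exists_center_of_fixSL (k : fixK (fieldP σ : MulAut PSLn)) :
    ∃ s : SLn, ∃ z ∈ Subgroup.center SLn, (k : PSLn) = QuotientGroup.mk s ∧ fieldSL σ s = s * z := by
  obtain ⟨s, hs⟩ := QuotientGroup.mk_surjective (k : PSLn)
  have e : fieldP σ (QuotientGroup.mk s : PSLn) = QuotientGroup.mk s := by rw [hs]; exact k.2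
  rw [fieldP_mk] at e
  exact ⟨s, s⁻¹ * fieldSL σ s, QuotientGroup.eq.1 e.symm, hs.symm, (mul_inv_cancel_left _ _).symm⟩

theorem conj_ratSL_mem (k : fixK (fieldP σ : MulAut PSLn)) (w : Matrix.SpecialLinearGroup (Fin (m + 1)) F₁) :
    k * ratSL σ w * k⁻¹ ∈ (ratSL σ).range := by
  obtain ⟨s, z, hz, hks, hσ⟩ := exists_center_of_fixSL σ k
  refine mem_range_ratSL σ (s := s * Matrix.SpecialLinearGroup.map (FieldExt.fixedField σ).subtype w * s⁻¹) ?_ ?_
  · have hw : fieldSL σ (Matrix.SpecialLinearGroup.map (FieldExt.fixedField σ).subtype w : SLn) =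
        Matrix.SpecialLinearGroup.map (FieldExt.fixedField σ).subtype w :=
      Subtype.ext (Matrix.ext fun i j => FieldExt.mem_fixedField.1 (w.1 i j).2)
    rw [map_mul, map_mul, map_inv, hw, hσ, _root_.mul_inv_rev, mul_assoc s z,
      ← Subgroup.mem_center_iff.1 hz (Matrix.SpecialLinearGroup.map (FieldExt.fixedField σ).subtype w)]
    group
  · rw [Subgroup.coe_mul, Subgroup.coe_mul, Subgroup.coe_inv, hks, ratSL_coe, QuotientGroup.mk_mul,
      QuotientGroup.mk_mul, QuotientGroup.mk_inv]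

theorem pow_mem_range (k : fixK (fieldP σ : MulAut PSLn)) : k ^ (m + 1) ∈ (ratSL σ).range := by
  obtain ⟨s, z, hz, hks, hσ⟩ := exists_center_of_fixSL σ k
  refine mem_range_ratSL σ (s := s ^ (m + 1)) ?_ (by rw [SubmonoidClass.coe_pow, hks, QuotientGroup.mk_pow])
  have hz1 : z ^ (m + 1) = 1 := by
    obtain ⟨r, hr, hzr⟩ := Matrix.SpecialLinearGroup.mem_center_iff.1 hz
    refine Subtype.ext ?_
    rw [Matrix.SpecialLinearGroup.coe_pow, ← hzr, Matrix.SpecialLinearGroup.coe_one, ← map_pow,
      show r ^ (m + 1) = 1 by simpa using hr, map_one]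
  rw [map_pow, hσ, (show Commute s z from Subgroup.mem_center_iff.1 hz s).mul_pow, hz1, mul_one]

theorem ratSL_eq_one_iff {w : Matrix.SpecialLinearGroup (Fin (m + 1)) F₁} :
    ratSL σ w = 1 ↔ w ∈ Subgroup.center _ := by
  constructor
  · intro h
    have h' := (QuotientGroup.eq_one_iff _).1 (congrArg Subtype.val h)
    obtain ⟨r, -, hr⟩ := Matrix.SpecialLinearGroup.mem_center_iff.1 h'
    have h00 : ((w.1 0 0 : F₁) : F) = r := by
      have := congrFun (congrFun hr 0) 0
      simpa using this.symm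
    refine Matrix.SpecialLinearGroup.mem_center_iff.2 ⟨w.1 0 0, ?_, ?_⟩
    · refine Subtype.ext ?_
      have := h'
      rw [SubmonoidClass.coe_pow, h00]
      obtain ⟨r', hr', e⟩ := Matrix.SpecialLinearGroup.mem_center_iff.1 h'
      have : r' = r := by
        have := congrFun (congrFun (e.trans hr.symm) 0) 0
        simpa using this
      simpa [this] using hr'
    · ext i j
      have := congrFun (congrFun hr i) j
      rw [Matrix.scalar_apply, Matrix.diagonal_apply] at this ⊢
      refine Eq.trans ?_ this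
      split_ifs with h
      · exact h00
      · rfl
  · intro h
    obtain ⟨r, hr, e⟩ := Matrix.SpecialLinearGroup.mem_center_iff.1 h
    refine Subtype.ext ((QuotientGroup.eq_one_iff _).2
      (Matrix.SpecialLinearGroup.mem_center_iff.2 ⟨(r : F), ?_, ?_⟩))
    · rw [← SubmonoidClass.coe_pow, hr, OneMemClass.coe_one]
    · show _ = w.1.map (FieldExt.fixedField σ).subtype
      rw [← e]
      ext i j
      rcases eq_or_ne i j with rfl | hij
      · rw [Matrix.map_apply, Matrix.scalar_apply, Matrix.scalar_apply, Matrix.diagonal_apply_eq,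
          Matrix.diagonal_apply_eq]
        rfl
      · rw [Matrix.map_apply, Matrix.scalar_apply, Matrix.scalar_apply, Matrix.diagonal_apply_ne _ hij,
          Matrix.diagonal_apply_ne _ hij]
        rfl

theorem xel_mem_fix (i j : Fin (m + 1)) (hij : i ≠ j) {t : F} (ht : σ t = t) :
    (xel i j hij t : PSLn) ∈ fixK (fieldP σ : MulAut PSLn) := by
  rw [mem_fixK, fieldP_xel, ht]

theorem fix_ne_bot (hm : 1 ≤ m) : fixK (fieldP σ : MulAut PSLn) ≠ ⊥ := by
  intro h
  have hij : (0 : Fin (m + 1)) ≠ ⟨1, by omega⟩ := by simp [Fin.ext_iff]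
  have h1 : (xel 0 _ hij (1 : F) : PSLn) = 1 := Subgroup.mem_bot.1 (h ▸ xel_mem_fix σ 0 _ hij (map_one σ))
  have h0 : (xel 0 _ hij (0 : F) : PSLn) = 1 := by
    rw [xel, Matrix.SpecialLinearGroup.transvection_coeff_zero]; rfl
  exact one_ne_zero (xel_injective hij (h1.trans h0.symm))

/-- In dimension two inverse-transpose is inner. -/
theorem invP_inner : ∃ g₀ : GL (Fin 2) F,
    (invP : MulAut (Matrix.ProjectiveSpecialLinearGroup (Fin 2) F)) = conjP g₀ := by
  let J : GL (Fin 2) F := Matrix.GeneralLinearGroup.mkOfDetNeZero !![0, 1; -1, 0] (by simp [Matrix.det_fin_two])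
  refine ⟨J, mulAut_ext_xel fun i j hij t => ?_⟩
  rw [xel, invP_mk, conjP_mk]
  refine congrArg QuotientGroup.mk (Subtype.ext ?_)
  have key : (invT (Matrix.SpecialLinearGroup.transvection hij t)).1 * J.val =
      J.val * (Matrix.SpecialLinearGroup.transvection hij t).1 := by
    rw [invT_coe, Matrix.SpecialLinearGroup.transvection_inv, Matrix.SpecialLinearGroup.transvection_coe,
      Matrix.SpecialLinearGroup.transvection_coe]
    ext a b
    simp only [Matrix.mul_apply, Fin.sum_univ_two, Matrix.transpose_apply, Matrix.add_apply, Matrix.one_apply,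
      Matrix.single_apply]
    fin_cases i <;> fin_cases j <;> fin_cases a <;> fin_cases b <;> simp [J] at hij ⊢
  rw [conjSL_coe, ← key, Matrix.mul_assoc, Units.mul_inv, Matrix.mul_one]

/-- An automorphism fixing the rational root elements is a field automorphism. -/
theorem eq_fieldP_of_fixRat (hm : 1 ≤ m) {a : MulAut PSLn}
    (ha : ∀ i j (hij : i ≠ j) (t : F), σ t = t → a (xel i j hij t) = xel i j hij t) :
    ∃ τ : F ≃+* F, (∀ t, σ t = t → τ t = t) ∧ a = fieldP τ := by
  obtain ⟨g, τ, γ, hγ, rfl⟩ := exists_decomposition hm a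
  have hγ' : ∃ g' : GLn, conjP g * fieldP τ * γ = (conjP g' * fieldP τ : MulAut PSLn) := by
    rcases hγ with rfl | rfl
    · exact ⟨g, mul_one _⟩
    by_cases hm2 : 2 ≤ m
    · exfalso
      have key : ∀ i j (hij : i ≠ j), Par (g.val *ᵥ Pi.single j 1) (Pi.single i 1) := by
        intro i j hij
        have h1 : (conjP g * fieldP τ * invP : MulAut PSLn) (xel i j hij 1) = xel i j hij 1 :=
          ha i j hij 1 (map_one σ)
        have hmem : (invP : MulAut PSLn) (xel i j hij 1) ∈
            root (Pi.single j 1) (Pi.single i 1) (dot_single (F := F) hij.symm) := by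
          rw [← invP_root hij]
          exact Subgroup.mem_map_of_mem (invP : PSLn ≃* PSLn).toMonoidHom ((mem_root_single hij).2 ⟨1, rfl⟩)
        obtain ⟨t, ht⟩ := (mem_root_single hij.symm).1 hmem
        rw [MulAut.mul_apply, MulAut.mul_apply, ht, fieldP_xel] at h1
        have hmem2 : (conjP g : MulAut PSLn) (xel j i hij.symm (τ t)) ∈
            root (g.val *ᵥ Pi.single j 1) (Pi.single i 1 ᵥ* (g⁻¹ : GLn).val)
              (dot_conj g (dot_single (F := F) hij.symm)) := by
          rw [← map_conjP_root g (dot_single (F := F) hij.symm)]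
          exact Subgroup.mem_map_of_mem (conjP g : PSLn ≃* PSLn).toMonoidHom ((mem_root_single hij.symm).2 ⟨_, rfl⟩)
        rw [h1] at hmem2
        obtain ⟨c, hc⟩ := hmem2
        change QuotientGroup.mk (tv (Multiplicative.toAdd c • _) _ _) = _ at hc
        rw [xel, ← tv_single hij 1 (dot_smul_zero (dot_single hij) 1)] at hc
        have e := mk_tv_inj hc
        have hc0 : (Multiplicative.toAdd c) ≠ 0 := fun h0 => by
          rw [h0] at e
          have := congrFun (congrFun e i) j
          simp [Matrix.vecMulVec] at this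
        have e' : Par (Multiplicative.toAdd c • (g.val *ᵥ Pi.single j 1)) (Pi.single i 1) := by
          rw [one_smul] at e
          refine (par_of_eq ?_ ?_ e).1
          · refine smul_ne_zero hc0 fun h0 => ?_
            have := congrArg (fun v => (g⁻¹ : GLn).val *ᵥ v) h0
            simp only [Matrix.mulVec_mulVec, Units.inv_mul, Matrix.one_mulVec, Matrix.mulVec_zero] at this
            simpa using congrFun this j
          · intro h0
            have := congrArg (fun v => v ᵥ* g.val) h0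
            simp only [Matrix.vecMul_vecMul, Units.inv_mul, Matrix.vecMul_one, Matrix.zero_vecMul] at this
            simpa using congrFun this i
        exact Par.trans ⟨Multiplicative.toAdd c, hc0, rfl⟩ e'
      let i1 : Fin (m + 1) := ⟨1, by omega⟩
      let i2 : Fin (m + 1) := ⟨2, by omega⟩
      have h := (key i1 0 (by simp [i1, Fin.ext_iff])).symm.trans (key i2 0 (by simp [i2, Fin.ext_iff]))
      simpa [i1, i2, Fin.ext_iff] using par_single h
    · obtain rfl : m = 1 := by omega
      obtain ⟨g₀, hg₀⟩ := invP_inner (F := F)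
      exact ⟨g * FieldExt.glMap τ g₀, by rw [hg₀, mul_assoc, fieldP_mul_conjP, map_mul, mul_assoc]⟩
  obtain ⟨g', hg'⟩ := hγ'
  rw [hg'] at ha ⊢
  obtain ⟨c, rfl⟩ := exists_scalar_of_fix hm g' fun i j hij => by
    have := ha i j hij 1 (map_one σ)
    rwa [MulAut.mul_apply, fieldP_xel, map_one] at this
  rw [conjP_scalar, one_mul] at ha ⊢
  refine ⟨τ, fun t ht => ?_, rfl⟩
  have hij : (0 : Fin (m + 1)) ≠ ⟨1, by omega⟩ := by simp [Fin.ext_iff]
  have := ha 0 _ hij t ht
  rw [fieldP_xel] at this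
  exact xel_injective hij this

theorem conj_injective_PSL (hm : 1 ≤ m) : Function.Injective (MulAut.conj : PSLn → MulAut PSLn) := by
  refine (injective_iff_map_eq_one _).2 fun k hk => ?_
  obtain ⟨s, rfl⟩ := QuotientGroup.mk_surjective k
  rw [← conjP_toGL, conjP_eq_one_iff hm] at hk
  obtain ⟨c, hc⟩ := hk
  refine (QuotientGroup.eq_one_iff s).2 (Subgroup.mem_center_iff.2 fun x => Subtype.ext ?_)
  have := congrArg Units.val (scalar_commutes (m := m) c (Matrix.SpecialLinearGroup.toGL x))
  rw [← hc] at this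
  simpa [Units.val_mul] using this.symm

/-- The core of the fixed points is trivial when `p` divides their number. -/
theorem core_fix_fieldP (hm : 1 ≤ m) {p : ℕ} [Fact p.Prime] (hpr : (p : F) ≠ 0)
    (hdvd : p ∣ Nat.card (fixK (fieldP σ : MulAut PSLn))) :
    Cfsg.pPrimeCore p (fixK (fieldP σ : MulAut PSLn)) = ⊥ := by
  classical
  haveI : Fintype F₁ := Fintype.ofFinite _
  have hp : p.Prime := Fact.out
  have hp0 : (p : F₁) ≠ 0 := fun h => hpr (by
    have := congrArg (Subtype.val : F₁ → F) h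
    simpa using this)
  set L₀ := Cfsg.pPrimeCore p (fixK (fieldP σ : MulAut PSLn))
  have hco : (Nat.card L₀).Coprime p := PCore.coprime_card_pPrimeCore
  obtain ⟨w, ⟨e, hwe⟩, hwc⟩ : ∃ w : Matrix.SpecialLinearGroup (Fin (m + 1)) F₁,
      (∃ e, ratSL σ w ^ p ^ e = 1) ∧ ratSL σ w ≠ 1 := by
    by_cases hpn : p ∣ m + 1
    · obtain ⟨w, ⟨e, hwe⟩, hwc⟩ := exists_pElement hm hp0 hpn
      exact ⟨w, ⟨e, by rw [← map_pow, hwe, map_one]⟩, fun h => hwc ((ratSL_eq_one_iff σ).1 h)⟩
    · obtain ⟨k, hk⟩ := exists_prime_orderOf_dvd_card' p hdvd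
      obtain ⟨w, hw⟩ := pow_mem_range σ k
      refine ⟨w, ⟨1, ?_⟩, fun h => hpn ?_⟩
      · rw [pow_one, hw, ← pow_mul, mul_comm, pow_mul, ← hk, pow_orderOf_eq_one, one_pow]
      · rw [← hk]
        exact orderOf_dvd_of_pow_eq_one (hw ▸ h)
  have hw1 : orderOf (ratSL σ w) ≠ 1 := fun h => hwc (orderOf_eq_one_iff.1 h)
  obtain ⟨i, -, hi⟩ := (Nat.dvd_prime_pow hp).1 (orderOf_dvd_of_pow_eq_one hwe)
  have hpw : p ∣ orderOf (ratSL σ w) := by
    rw [hi] at hw1 ⊢
    exact dvd_pow_self _ fun h0 => hw1 (by rw [h0, pow_zero])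
  have hnot : ratSL σ w ∉ L₀ := fun hmem => by
    have h1 := orderOf_dvd_natCard (⟨_, hmem⟩ : L₀)
    rw [Subgroup.orderOf_mk] at h1
    exact hp.coprime_iff_not_dvd.1 hco.symm (hpw.trans h1)
  have hN : L₀.comap (ratSL σ) ≤ Subgroup.center _ := by
    by_cases hbig : m + 1 = 2 → 4 ≤ Nat.card F₁
    · rcases SL_normal_cases (by omega) hbig (L₀.comap (ratSL σ)) with h | h
      · exact absurd (Subgroup.mem_comap.1 (h ▸ Subgroup.mem_top w)) hnot
      · exact h
    push Not at hbig
    obtain ⟨hm1, hq⟩ := hbig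
    obtain rfl : m = 1 := by omega
    set N := L₀.comap (ratSL σ) with hNdef
    set q := Fintype.card F₁ with hqdef
    have hq' : q = 2 ∨ q = 3 := by
      have := Fintype.one_lt_card (α := F₁)
      rw [Nat.card_eq_fintype_card] at hq
      omega
    have hG : Nat.card (Matrix.SpecialLinearGroup (Fin 2) F₁) = q * (q ^ 2 - 1) := GL.card_SL2
    have hqp : q.Prime := by rcases hq' with h | h <;> rw [h] <;> norm_num
    haveI : Fact q.Prime := ⟨hqp⟩
    have htop_or : ¬ q ∣ Nat.card N := fun hqN => by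
      refine hnot (Subgroup.mem_comap.1 (?_ : w ∈ N))
      have hidx : ¬ q ∣ N.index := fun h => by
        have h2 : q * q ∣ Nat.card N * N.index := Nat.mul_dvd_mul hqN h
        rw [Subgroup.card_mul_index, hG] at h2
        rcases hq' with h' | h' <;> rw [h'] at h2 <;> norm_num at h2
      have hN : N = ⊤ := GL.SL_eq_top_of_transvection_mem fun i j hij c => by
        have hT : (Matrix.SpecialLinearGroup.transvection hij c : Matrix.SpecialLinearGroup (Fin 2) F₁) ^ q = 1 := by
          rw [← Matrix.SpecialLinearGroup.transvection_coeff_zero hij]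
          have : ∀ k : ℕ, (Matrix.SpecialLinearGroup.transvection hij c : Matrix.SpecialLinearGroup (Fin 2) F₁) ^ k =
              Matrix.SpecialLinearGroup.transvection hij ((k : F₁) * c) := by
            intro k
            induction k with
            | zero => simp [Matrix.SpecialLinearGroup.transvection_coeff_zero]
            | succ k ih =>
              rw [pow_succ, ih, ← Matrix.SpecialLinearGroup.transvection_add]
              congr 1
              push_cast
              ring
          rw [this, hqdef, Nat.cast_card_eq_zero, zero_mul]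
        rw [← QuotientGroup.eq_one_iff]
        have h1 : orderOf (QuotientGroup.mk (Matrix.SpecialLinearGroup.transvection hij c) :
            Matrix.SpecialLinearGroup (Fin 2) F₁ ⧸ N) ∣ Nat.gcd q N.index := by
          refine Nat.dvd_gcd (orderOf_dvd_of_pow_eq_one ?_) ?_
          · rw [← QuotientGroup.mk_pow, hT]; rfl
          · rw [Subgroup.index]; exact orderOf_dvd_natCard _
        rwa [Nat.Coprime.gcd_eq_one (hqp.coprime_iff_not_dvd.2 hidx), Nat.dvd_one, orderOf_eq_one_iff] at h1
      exact hN ▸ Subgroup.mem_top w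
    -- `N` has order at most two
    have hker : Nat.card (ratSL (m := 1) σ).ker ∣ 2 := by
      have hle : (ratSL (m := 1) σ).ker = Subgroup.center _ := Subgroup.ext fun x => ratSL_eq_one_iff σ
      rw [hle, GL.card_center_SL, Fintype.card_fin]
      exact Nat.gcd_dvd_left _ _
    have hNd : Nat.card N ∣ 2 := by
      have h1 : Nat.card N ∣ 2 * Nat.card L₀ := (PCore.card_comap_dvd _ L₀).trans (Nat.mul_dvd_mul_right hker _)
      have h2 : Nat.card N ∣ q * (q ^ 2 - 1) := hG ▸ Subgroup.card_subgroup_dvd_card N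
      have h3 : Nat.card N ∣ q ^ 2 - 1 :=
        ((hqp.coprime_iff_not_dvd.2 htop_or).symm).dvd_of_dvd_mul_left h2
      have hpdvd : p ∣ Nat.card (Matrix.SpecialLinearGroup (Fin 2) F₁) :=
        (hpw.trans (orderOf_map_dvd (ratSL σ) w)).trans (orderOf_dvd_natCard w)
      rw [hG] at hpdvd
      have hpq : p ≠ q := fun h => hp0 (by rw [h, hqdef, Nat.cast_card_eq_zero])
      rcases hq' with h' | h' <;> rw [h'] at h3 hpdvd hpq <;> norm_num at hpdvd
      · have hp3 : p = 3 := by
          rcases (Nat.Prime.dvd_mul hp).1 (show p ∣ 2 * 3 from hpdvd) with h | h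
          · exact absurd ((Nat.prime_dvd_prime_iff_eq hp Nat.prime_two).1 h) hpq
          · exact (Nat.prime_dvd_prime_iff_eq hp Nat.prime_three).1 h
        subst hp3
        have h31 : Nat.Coprime (Nat.card N) 3 := by
          refine Nat.Coprime.coprime_dvd_left h1 (Nat.Coprime.mul_left (by norm_num) hco)
        have h3' : Nat.card N ∣ 3 := h3
        exact (Nat.Coprime.eq_one_of_dvd h31 h3').symm ▸ one_dvd _
      · have hp2 : p = 2 := by
          rcases (Nat.Prime.dvd_mul hp).1 (show p ∣ 3 * 8 from hpdvd) with h | h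
          · exact absurd ((Nat.prime_dvd_prime_iff_eq hp Nat.prime_three).1 h) hpq
          · exact (Nat.prime_dvd_prime_iff_eq hp Nat.prime_two).1 (hp.dvd_of_dvd_pow (show p ∣ 2 ^ 3 from h))
        subst hp2
        have h8 : Nat.gcd 8 (2 * Nat.card L₀) = 2 := by
          rw [show (8 : ℕ) = 2 * 4 from rfl, Nat.gcd_mul_left,
            Nat.Coprime.gcd_eq_one ((Nat.Coprime.pow_right 2 hco).symm), mul_one]
        exact h8 ▸ Nat.dvd_gcd (show Nat.card N ∣ 8 from h3) h1
    intro x hx
    rw [Subgroup.mem_center_iff]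
    intro g
    rcases (Nat.dvd_prime Nat.prime_two).1 hNd with h | h
    · obtain rfl : x = 1 := by rwa [Subgroup.card_eq_one.1 h, Subgroup.mem_bot] at hx
      simp
    · by_cases hx1 : x = 1
      · simp [hx1]
      have hgx : g * x * g⁻¹ ∈ N := Subgroup.Normal.conj_mem inferInstance x hx g
      have hgx1 : g * x * g⁻¹ ≠ 1 := fun h0 => hx1 (conj_eq_one_iff.1 h0)
      obtain ⟨u, v, huv, huniv⟩ := Nat.card_eq_two_iff.1 h
      have key : ∀ y : N, y ≠ 1 → ∀ y' : N, y' ≠ 1 → y = y' := by
        intro y hy y' hy'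
        have hy2 : y = u ∨ y = v := by have := huniv.symm ▸ Set.mem_univ y; simpa using this
        have hy2' : y' = u ∨ y' = v := by have := huniv.symm ▸ Set.mem_univ y'; simpa using this
        have h12 : (1 : N) = u ∨ (1 : N) = v := by have := huniv.symm ▸ Set.mem_univ (1 : N); simpa using this
        rcases hy2 with rfl | rfl <;> rcases hy2' with rfl | rfl <;> first | rfl |
          (rcases h12 with h12 | h12 <;> first | exact absurd h12.symm hy | exact absurd h12.symm hy')
      have := congrArg Subtype.val (key ⟨_, hgx⟩ (fun e => hgx1 (congrArg Subtype.val e)) ⟨x, hx⟩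
        (fun e => hx1 (congrArg Subtype.val e)))
      exact mul_inv_eq_iff_eq_mul.1 this
  have hcommute : L₀ ⊓ (ratSL σ).range = ⊥ := by
    refine eq_bot_iff.2 ?_
    rintro k ⟨hk, x, rfl⟩
    exact Subgroup.mem_bot.2 ((ratSL_eq_one_iff σ).2 (hN hk))
  refine eq_bot_iff.2 fun k hk => Subgroup.mem_bot.2 ?_
  obtain ⟨τ, hτ, e⟩ := eq_fieldP_of_fixRat σ hm (a := MulAut.conj (k : PSLn)) fun i j hij t ht => by
    let t₀ : fixK (fieldP σ : MulAut PSLn) := ⟨xel i j hij t, xel_mem_fix σ i j hij ht⟩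
    obtain ⟨x, hx⟩ : t₀ ∈ (ratSL σ).range :=
      mem_range_ratSL σ (s := Matrix.SpecialLinearGroup.transvection hij t) (Subtype.ext (by
        rw [fieldSL_coe, Matrix.SpecialLinearGroup.transvection_coe]
        ext a b
        simp [Matrix.single_apply, Matrix.one_apply]
        split_ifs <;> simp [ht])) rfl
    have h1 : k * t₀ * k⁻¹ * t₀⁻¹ = 1 := by
      rw [← Subgroup.mem_bot, ← hcommute]
      refine ⟨?_, ?_⟩
      · rw [mul_assoc k, mul_assoc k]
        exact L₀.mul_mem hk (Subgroup.Normal.conj_mem inferInstance _ (L₀.inv_mem hk) t₀)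
      · exact Subgroup.mul_mem _ (hx ▸ conj_ratSL_mem σ k x) (Subgroup.inv_mem _ ⟨x, hx⟩)
    exact congrArg Subtype.val (mul_inv_eq_one.1 h1)
  obtain ⟨s, hs⟩ := QuotientGroup.mk_surjective (k : PSLn)
  have hτ1 : τ = 1 := by
    rw [← hs, ← conjP_toGL] at e
    exact fieldP_eq_conjP hm e.symm
  rw [hτ1, fieldP_one, ← map_one (MulAut.conj : PSLn →* MulAut PSLn)] at e
  exact Subtype.ext (conj_injective_PSL hm e)

/-- An automorphism of order prime to `p` fixing the fixed points is trivial. -/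
theorem eq_one_of_fix_fieldP (hm : 1 ≤ m) {p : ℕ} [Fact p.Prime] (hσ : orderOf σ = p) {a : MulAut PSLn}
    (ha : ∀ k ∈ fixK (fieldP σ : MulAut PSLn), a k = k) (hco : (orderOf a).Coprime p) : a = 1 := by
  obtain ⟨τ, hτ, rfl⟩ := eq_fieldP_of_fixRat σ hm (a := a) fun i j hij t ht => ha _ (xel_mem_fix σ i j hij ht)
  haveI := FieldExt.finite_ringAut (F := F)
  let τ' : F ≃ₐ[FixedPoints.subfield (Subgroup.zpowers σ) F] F :=
    AlgEquiv.ofRingEquiv (f := τ) fun t => hτ _ (t.2 ⟨σ, Subgroup.mem_zpowers σ⟩)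
  obtain ⟨g, hg⟩ := FixedPoints.toAlgAut_surjective (Subgroup.zpowers σ) F τ'
  have hmem : τ ∈ Subgroup.zpowers σ := by
    have : (g : F ≃+* F) = τ := RingEquiv.ext fun t => DFunLike.congr_fun hg t
    exact this ▸ g.2
  have h1 : orderOf τ ∣ p := hσ ▸ orderOf_dvd_of_mem_zpowers hmem
  rw [orderOf_fieldP hm] at hco
  have : orderOf τ ∣ Nat.gcd (orderOf τ) p := Nat.dvd_gcd dvd_rfl h1
  rw [hco.gcd_eq_one, Nat.dvd_one, orderOf_eq_one_iff] at this
  rw [this, fieldP_one]

end Cfsg.Agent.LocalBalance
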