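import Cfsg.Agent.Lib.LocalBalance.GraphFix
import Cfsg.Agent.Lib.LocalBalance.PSLField
import Cfsg.Agent.Lib.AutPSL.GraphField
import Cfsg.Agent.Lib.GraphAut.Aut

/-!
An involutory graph or graph-field automorphism of `PSL_n(q)`, `q` odd, has a centraliser with trivial `2'`-core.
-/

set_option autoImplicit false
set_option linter.unusedSectionVars false

open Matrix
open scoped MatrixGroups

namespace Cfsg.Agent.LocalBalance

open Cfsg.Agent.AutPSL Cfsg.Agent.GraphAut

variable {m : ℕ} {F : Type*} [Field F] [Fintype F]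

local notation "SLn" => Matrix.SpecialLinearGroup (Fin (m + 1)) F
local notation "PSLn" => Matrix.ProjectiveSpecialLinearGroup (Fin (m + 1)) F
local notation "GLn" => GL (Fin (m + 1)) F
local notation "Mn" => Matrix (Fin (m + 1)) (Fin (m + 1)) F
local notation "scal" => Matrix.GeneralLinearGroup.scalar (Fin (m + 1))

theorem eq_one_semilinear (hm : 1 ≤ m) {h : GLn} {τ : F ≃+* F} (e : (conjP h * fieldP τ : MulAut PSLn) = 1) :
    τ = 1 ∧ ∃ z : Fˣ, h = scal z := by
  have h1 : τ = 1 := fieldP_eq_conjP hm (g := h⁻¹) (by rw [map_inv]; exact eq_inv_of_mul_eq_one_right e)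
  rw [h1, fieldP_one, mul_one] at e
  exact ⟨h1, (conjP_eq_one_iff hm h).1 e⟩

/-- Automorphisms of odd order are semilinear. -/
theorem exists_semilinear_of_odd (hm : 1 ≤ m) {a : MulAut PSLn} (h : (orderOf a).Coprime 2) :
    ∃ (g : GLn) (τ : F ≃+* F), a = conjP g * fieldP τ := by
  have hsq : ∀ b : MulAut PSLn, ∃ (g : GLn) (τ : F ≃+* F), b * b = conjP g * fieldP τ := by
    intro b
    obtain ⟨g, τ, γ, hγ, rfl⟩ := exists_decomposition hm b
    rcases hγ with rfl | rfl
    · exact ⟨g * FieldExt.glMap τ g, τ * τ, by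
        rw [mul_one, mul_assoc (conjP g), ← mul_assoc (fieldP τ), fieldP_mul_conjP, map_mul, fieldPHom.map_mul τ τ |>
          (show _ → (fieldP (τ * τ) : MulAut PSLn) = fieldP τ * fieldP τ from fun e => e)]
        group⟩
    · refine ⟨g * FieldExt.glMap τ (glIT g), τ * τ, ?_⟩
      have e : (invP : MulAut PSLn) * (conjP g * fieldP τ * invP) = conjP (glIT g) * fieldP τ := by
        rw [← mul_assoc, ← mul_assoc, invP_mul_conjP, mul_assoc (conjP (glIT g)), invP_mul_fieldP,
          ← mul_assoc, mul_assoc _ invP invP, invP_mul_self, mul_one]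
      rw [mul_assoc (conjP g * fieldP τ), e, mul_assoc (conjP g), ← mul_assoc (fieldP τ), fieldP_mul_conjP, map_mul,
        fieldPHom.map_mul τ τ |> (show _ → (fieldP (τ * τ) : MulAut PSLn) = fieldP τ * fieldP τ from fun e => e)]
      group
  obtain ⟨g, τ, e⟩ := hsq (a ^ ((orderOf a + 1) / 2))
  refine ⟨g, τ, ?_⟩
  rw [← e, ← pow_add]
  have hodd : Odd (orderOf a) := Nat.coprime_two_right.1 h
  obtain ⟨k, hk⟩ := hodd
  rw [show (orderOf a + 1) / 2 + (orderOf a + 1) / 2 = orderOf a + 1 by omega, pow_succ, pow_orderOf_eq_one, one_mul]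

theorem glIT_glMap (τ : F ≃+* F) (g : GLn) : glIT (FieldExt.glMap τ g) = FieldExt.glMap τ (glIT g) := by
  refine Units.ext ?_
  rw [glIT_val, ← map_inv (FieldExt.glMap τ), FieldExt.glMap_val, FieldExt.glMap_val, glIT_val, Matrix.transpose_map]

theorem glIT_twistNorm (τ : F ≃+* F) (g : GLn) (k : ℕ) :
    FieldExt.twistNorm τ (glIT g) k = glIT (FieldExt.twistNorm τ g k) := by
  induction k with
  | zero =>
    rw [FieldExt.twistNorm_zero, FieldExt.twistNorm_zero]
    exact Units.ext (by simp [glIT_val])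
  | succ k ih => rw [FieldExt.twistNorm_succ, ih, FieldExt.twistNorm_succ, glIT_mul, glIT_glMap]

theorem fix_of_commute_conj (hm : 1 ≤ m) {x : MulAut PSLn} {k : PSLn} (h : Commute (MulAut.conj k) x) : k ∈ fixK x := by
  have e : MulAut.conj k * x = MulAut.conj (x k) * x := h.eq.trans (mul_conj x k)
  exact (conj_injective_PSL hm (mul_right_cancel e)).symm

/-- A semilinear automorphism of odd order fixing the fixed points gives a twisted relation. -/
theorem twisted_of_fix (hm : 1 ≤ m) {x : MulAut PSLn} {h : GLn} {τ : F ≃+* F}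
    (hfix : ∀ k ∈ fixK x, (conjP h * fieldP τ : MulAut PSLn) k = k) (y : GLn) (hy : y.val.det = 1)
    (hcomm : Commute (conjP y : MulAut PSLn) x) :
    ∃ c : Fˣ, h * FieldExt.glMap τ y * h⁻¹ = y * scal c := by
  let s : SLn := ⟨y.val, hy⟩
  have hs : (conjP y : MulAut PSLn) = MulAut.conj (QuotientGroup.mk s : PSLn) := by
    rw [← conjP_toGL]
    exact congrArg conjP (Units.ext rfl)
  have hk : (QuotientGroup.mk s : PSLn) ∈ fixK x := fix_of_commute_conj hm (hs ▸ hcomm)
  refine (conjP_eq_conjP_iff hm _ _).1 ?_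
  have e := hfix _ hk
  have e2 : (conjP h * fieldP τ : MulAut PSLn) * MulAut.conj (QuotientGroup.mk s : PSLn) =
      MulAut.conj (QuotientGroup.mk s : PSLn) * (conjP h * fieldP τ) := by rw [mul_conj, e]
  rw [← hs, mul_assoc, fieldP_mul_conjP, ← mul_assoc, ← mul_assoc, mul_left_inj] at e2
  rw [map_mul, map_mul, map_inv, e2, mul_inv_cancel_right]

theorem twistNorm_scalar_of_odd (hm : 1 ≤ m) {h : GLn} {τ : F ≃+* F}
    (hco : (orderOf (conjP h * fieldP τ : MulAut PSLn)).Coprime 2) :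
    ∃ k : ℕ, Odd k ∧ τ ^ k = 1 ∧ ∃ z : Fˣ, FieldExt.twistNorm τ h k = scal z := by
  refine ⟨_, Nat.coprime_two_right.1 hco, ?_⟩
  have e := pow_orderOf_eq_one (conjP h * fieldP τ : MulAut PSLn)
  rw [conjP_mul_fieldP_pow] at e
  exact eq_one_semilinear hm e

theorem scal_smul (c : Fˣ) : (scal c : GLn).val = (c : F) • (1 : Mn) := by
  simp [Matrix.GeneralLinearGroup.coe_scalar, Matrix.smul_one_eq_diagonal]

theorem twisted_matrix {h : GLn} {τ : F ≃+* F} {y : GLn} {c : Fˣ} (e : h * FieldExt.glMap τ y * h⁻¹ = y * scal c) :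
    h.val * y.val.map τ = (c : F) • (y.val * h.val) := by
  rw [mul_inv_eq_iff_eq_mul] at e
  have e' := congrArg Units.val e
  rw [Units.val_mul, Units.val_mul, Units.val_mul, scal_smul, FieldExt.glMap_val, Matrix.mul_smul, Matrix.mul_one,
    Matrix.smul_mul] at e'
  exact e'

/-- Graph automorphisms. -/
theorem gaut_facts (hm : 2 ≤ m) (h2 : (2 : F) ≠ 0) (g : GLn) {ε : F} (hε : ε = 1 ∨ ε = -1) (hg : g.valᵀ = ε • g.val) :
    Cfsg.pPrimeCore 2 (fixK (gaut g : MulAut PSLn)) = ⊥ ∧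
      ∀ a : MulAut PSLn, Commute a (gaut g) → (∀ k ∈ fixK (gaut g : MulAut PSLn), a k = k) →
        (orderOf a).Coprime 2 → a = 1 := by
  haveI : Fact (Nat.Prime 2) := ⟨Nat.prime_two⟩
  have hd : g.val.det ≠ 0 := det_ne_zero g
  have hcent : ∀ k : simM g.val, Commute (centHom g k) (gaut g : MulAut PSLn) := fun k => by
    have h : centHom g k ∈ Cfsg.inndiagPSL (m + 1) F ⊓ Subgroup.centralizer {(gaut g : MulAut PSLn)} :=
      range_centHom (by omega) g ▸ ⟨k, rfl⟩
    exact Subgroup.mem_centralizer_singleton_iff.1 h.2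
  refine ⟨core_fix_of_hom (conj_injective_PSL (by omega)) (gaut g) (simM g.val) (isoM g.val) (isoM_le_simM _)
    (centHom g) (ker_centHom (by omega) g) hcent (fun k hk => ?_) (fun N hN hnorm hodd d hd' => ?_),
    fun a hax hfix hco => ?_⟩
  · rw [range_centHom (by omega)]
    exact ⟨inn_le_inndiag ⟨k, rfl⟩, Subgroup.mem_centralizer_singleton_iff.2 (commute_conj hk).eq⟩
  · exact odd_simM (by omega) h2 g.val hd hε hg N hN hnorm
      (fun x hx => by
        obtain ⟨k, hk, hc⟩ := hodd x hx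
        exact ⟨k, Nat.coprime_two_right.1 hk, hc⟩) hd'
  · obtain ⟨h, τ, rfl⟩ := exists_semilinear_of_odd (by omega) hco
    have hT : Twisted (fun W : Mn => Wᵀ * g.val * W = g.val ∧ W.det = 1) (RingHom.id F) τ (glIT h) := by
      intro W hW
      let w : GLn := Matrix.GeneralLinearGroup.mkOfDetNeZero W (by rw [hW.2]; exact one_ne_zero)
      have hdet : (glIT w).val.det = 1 := by
        rw [glIT_val, Matrix.det_transpose]
        have h1 : ((w⁻¹ : GLn).val).det * w.val.det = 1 := by rw [← Matrix.det_mul, Units.inv_mul, Matrix.det_one]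
        rwa [show w.val.det = 1 from hW.2, mul_one] at h1
      obtain ⟨c, hc⟩ := twisted_of_fix (by omega) hfix (glIT w) hdet
        (hcent ⟨w, isoM_le_simM _ hW.1⟩)
      have hc' : glIT h * FieldExt.glMap τ w * (glIT h)⁻¹ = w * scal c⁻¹ := by
        have e := congrArg glIT hc
        rw [glIT_mul, glIT_mul, glIT_mul, glIT_glMap, glIT_glIT, AutPSL.glIT_scalar,
          show glIT h⁻¹ = (glIT h)⁻¹ from eq_inv_of_mul_eq_one_left (by
            rw [← glIT_mul, inv_mul_cancel]; exact Units.ext (by simp [glIT_val]))] at e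
        exact e
      exact ⟨((c⁻¹ : Fˣ) : F), twisted_matrix hc'⟩
    obtain ⟨k, hk, hτk, z, hz⟩ := twistNorm_scalar_of_odd (by omega) hco
    obtain ⟨hτ, z', hz'⟩ := twisted_simM (by omega) h2 g.val hd hε hg hT
      ⟨k, hk, hτk, ((z⁻¹ : Fˣ) : F), by rw [glIT_twistNorm, hz, AutPSL.glIT_scalar, scal_smul]⟩
    have hτ1 : τ = 1 := RingEquiv.ext hτ
    have hz0 : z' ≠ 0 := fun h0 => by
      rw [h0, zero_smul] at hz'
      exact val_ne_zero' (by omega) _ hz'
    have hh : glIT h = scal (Units.mk0 z' hz0) := Units.ext (by rw [hz', scal_smul, Units.val_mk0])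
    have hh' : h = scal (Units.mk0 z' hz0)⁻¹ := by rw [← glIT_glIT h, hh, AutPSL.glIT_scalar]
    rw [hτ1, fieldP_one, mul_one, hh', conjP_scalar]

/-- The standard graph-field automorphism. -/
theorem tau_facts (hm : 2 ≤ m) (h2 : (2 : F) ≠ 0) (σ : F ≃+* F) (hi : ∀ a, σ (σ a) = a) (hne : σ ≠ 1) :
    Cfsg.pPrimeCore 2 (fixK (fieldP σ * invP : MulAut PSLn)) = ⊥ ∧
      ∀ a : MulAut PSLn, Commute a (fieldP σ * invP) → (∀ k ∈ fixK (fieldP σ * invP : MulAut PSLn), a k = k) →
        (orderOf a).Coprime 2 → a = 1 := by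
  haveI : Fact (Nat.Prime 2) := ⟨Nat.prime_two⟩
  set q := Nat.card (FieldExt.fixedField σ)
  have hF : Fintype.card F = q ^ 2 := by
    rw [← FieldExt.card_fixedField_pow σ, FieldExt.orderOf_invol hi hne]
  have hσq : σ = AutPSU.qAut hF := invol_unique (AutPSU.qAut_qAut hF) (AutPSU.qAut_ne_one hF) hi hne
  have hσ : ∀ a, σ a = a ^ q := fun a => by rw [hσq, AutPSU.qAut_apply]
  have hq2 : q ≠ 2 := fun hq => h2 (by
    have h4 : Fintype.card F = 4 := by rw [hF, hq]; rfl
    obtain ⟨r, hr⟩ := CharP.exists F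
    obtain ⟨e, hrp, he⟩ := FiniteField.card F r
    have : r = 2 := (Nat.prime_dvd_prime_iff_eq hrp Nat.prime_two).1
      (hrp.dvd_of_dvd_pow (show r ∣ 2 ^ 2 from ((show 2 ^ 2 = 4 from rfl) ▸ h4 ▸ he ▸ dvd_pow_self r e.ne_zero)))
    subst this
    exact CharTwo.two_eq_zero)
  have hcent : ∀ k : Cfsg.GU (m + 1) F q, Commute (guAut (m := m) q k) (fieldP σ * invP : MulAut PSLn) := fun k => by
    have h : guAut (m := m) q k ∈ Cfsg.inndiagPSL (m + 1) F ⊓ Subgroup.centralizer {(fieldP σ * invP : MulAut PSLn)} :=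
      range_guAut (m := m) (by omega) hF σ hσ hi hne ▸ ⟨k, rfl⟩
    exact Subgroup.mem_centralizer_singleton_iff.1 h.2
  refine ⟨core_fix_of_hom (conj_injective_PSL (by omega)) _ (Cfsg.GU (m + 1) F q) _ le_rfl (guAut (m := m) q)
    (ker_guAut (by omega) q) hcent (fun k hk => ?_) (fun N hN hnorm hodd d hd' => ?_), fun a hax hfix hco => ?_⟩
  · rw [range_guAut (by omega) hF σ hσ hi hne]
    exact ⟨inn_le_inndiag ⟨k, rfl⟩, Subgroup.mem_centralizer_singleton_iff.2 (commute_conj hk).eq⟩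
  · exact odd_GU hF (by omega) h2 hq2 N hN hnorm
      (fun x hx => by
        obtain ⟨k, hk, hc⟩ := hodd x hx
        exact ⟨k, Nat.coprime_two_right.1 hk, hc⟩) hd'
  · obtain ⟨h, τ, rfl⟩ := exists_semilinear_of_odd (by omega) hco
    have hT : Twisted (HermSI σ) (RingHom.id F) τ h := by
      intro W hW
      let w : GLn := Matrix.GeneralLinearGroup.mkOfDetNeZero W (by rw [hW.2]; exact one_ne_zero)
      have hwGU : w ∈ Cfsg.GU (m + 1) F q := (mem_GU_iff hF σ hσ w).2 hW.1
      obtain ⟨c, hc⟩ := twisted_of_fix (by omega) hfix w hW.2 (hcent ⟨w, hwGU⟩)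
      exact ⟨(c : F), twisted_matrix hc⟩
    obtain ⟨k, hk, -, z, hz⟩ := twistNorm_scalar_of_odd (by omega) hco
    obtain ⟨hτ1, z', hz'⟩ := twisted_herm (by omega) h2 σ hi hT ⟨k, hk, (z : F), by rw [hz, scal_smul]⟩
    have hz0 : z' ≠ 0 := fun h0 => by
      rw [h0, zero_smul] at hz'
      exact val_ne_zero' (by omega) _ hz'
    have hh : h = scal (Units.mk0 z' hz0) := Units.ext (by rw [hz', scal_smul, Units.val_mk0])
    rw [hτ1, fieldP_one, mul_one, hh, conjP_scalar]

/-- **The centraliser of an involution outside `PΓL`.** -/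
theorem core_eq_bot_of_graph (hm : 2 ≤ m) (h2 : (2 : F) ≠ 0) (g : GLn) (σ : F ≃+* F)
    (hord : orderOf (conjP g * fieldP σ * invP : MulAut PSLn) = 2) (A : Subgroup (MulAut PSLn))
    (hinn : ∀ k : PSLn, MulAut.conj k ∈ A) :
    Cfsg.pPrimeCore 2 ↥(A ⊓ Subgroup.centralizer {(conjP g * fieldP σ * invP : MulAut PSLn)}) = ⊥ := by
  haveI : Fact (Nat.Prime 2) := ⟨Nat.prime_two⟩
  have hpow : (conjP g * (fieldP σ * invP) : MulAut PSLn) ^ 2 = 1 := by
    rw [← mul_assoc, ← hord, pow_orderOf_eq_one]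
  have hσ2 : σ * σ = 1 := by
    have e : (conjP (g * theta σ g) * fieldP (σ ^ 2) : MulAut PSLn) = 1 := by
      rw [← hpow, ← tau_sq, sq (conjP g * _), mul_assoc (conjP g), ← mul_assoc (fieldP σ * invP), tau_mul_conjP,
        mul_assoc (conjP (theta σ g)), ← sq, ← mul_assoc (conjP g), ← map_mul]
    have := (eq_one_semilinear (by omega) e).1
    rwa [sq] at this
  by_cases hσ : σ = 1
  · subst hσ
    have hβ : (conjP g * fieldP (1 : F ≃+* F) * invP : MulAut PSLn) = gaut g := by rw [fieldP_one, mul_one, gaut]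
    rw [hβ] at hord ⊢
    obtain ⟨g', ε, e, hg, hε⟩ := exists_gaut_of_invol (by omega) _ (isGraph_gaut hm g) hord
    rw [e]
    obtain ⟨h1, h3⟩ := gaut_facts hm h2 g' hε hg
    exact core_eq_bot (conj_injective_PSL (by omega)) _ A hinn h1 h3
  · have hi : ∀ a, σ (σ a) = a := fun a => RingEquiv.congr_fun hσ2 a
    obtain ⟨k, hk⟩ := lang_tau (by omega) σ hi hσ g hpow
    rw [mul_assoc, hk]
    obtain ⟨A₀, hA₀, h⟩ := exists_transport (p := 2) (fieldP σ * invP : MulAut PSLn) (conjP k) A hinn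
    rw [h]
    obtain ⟨h1, h3⟩ := tau_facts hm h2 σ hi hσ
    exact core_eq_bot (conj_injective_PSL (by omega)) _ A₀ hA₀ h1 h3

end Cfsg.Agent.LocalBalance
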