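import Cfsg.Agent.Lib.LocalBalance.GraphRigid
import Cfsg.Agent.Lib.AutPSU.Graph

/-!
Odd subgroups normalised by the symplectic or the unitary group consist of scalars.
-/

set_option autoImplicit false
set_option linter.unusedSectionVars false

open Matrix
open scoped MatrixGroups commutatorElement

namespace Cfsg.Agent.LocalBalance

open Cfsg.Agent.GraphAut

/-- An odd group normalised by a quasisimple group with an involution centralises it. -/
theorem commute_of_perfect {Γ S : Type*} [Group Γ] [Group S] (j : S →* Γ) (hperf : commutator S = ⊤)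
    (hnormal : ∀ M : Subgroup S, M.Normal → M = ⊤ ∨ M ≤ Subgroup.center S)
    (hcen : ∀ z ∈ Subgroup.center S, j z ∈ Subgroup.center Γ) (N : Subgroup Γ)
    (hd : ∀ d ∈ N, ∀ s : S, ∃ s', d * j s * d⁻¹ = j s') (hn : ∀ s : S, ∀ d ∈ N, j s * d * (j s)⁻¹ ∈ N)
    (hodd : ∀ d ∈ N, ∃ k : ℕ, Odd k ∧ d ^ k ∈ Subgroup.center Γ) {w : S} (hw : j w * j w = 1)
    (hwc : j w ∉ Subgroup.center Γ) {d : Γ} (hdN : d ∈ N) (s : S) : d * j s = j s * d := by
  haveI : (N.comap j).Normal := ⟨fun x hx y => by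
    rw [Subgroup.mem_comap, map_mul, map_mul, map_inv]
    exact hn y _ hx⟩
  have hM : N.comap j ≤ Subgroup.center S := by
    refine (hnormal _ inferInstance).resolve_left fun h => ?_
    obtain ⟨k, ⟨e, rfl⟩, hk⟩ := hodd (j w) (Subgroup.mem_comap.1 (h ▸ Subgroup.mem_top w))
    rw [pow_succ, pow_mul, pow_two, hw, one_pow, one_mul] at hk
    exact hwc hk
  have hc : ∀ s, d * j s * d⁻¹ * (j s)⁻¹ ∈ Subgroup.center Γ := fun s => by
    obtain ⟨s', hs'⟩ := hd d hdN s
    have hmem : s' * s⁻¹ ∈ N.comap j := by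
      rw [Subgroup.mem_comap, map_mul, map_inv, ← hs', mul_assoc d, mul_assoc d]
      exact N.mul_mem hdN (hn s _ (N.inv_mem hdN))
    rw [hs', ← map_inv, ← map_mul]
    exact hcen _ (hM hmem)
  let φ : S →* Subgroup.center Γ := MonoidHom.mk' (fun s => ⟨_, hc s⟩) fun a b => Subtype.ext (by
    show d * j (a * b) * d⁻¹ * (j (a * b))⁻¹ = d * j a * d⁻¹ * (j a)⁻¹ * (d * j b * d⁻¹ * (j b)⁻¹)
    have hb := Subgroup.mem_center_iff.1 (hc b) (j a)⁻¹
    rw [mul_assoc (d * j a * d⁻¹), hb, map_mul]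
    group)
  have hker : φ s = 1 := by
    have h1 : commutator S ≤ φ.ker := by
      rw [commutator_def, Subgroup.commutator_le]
      intro a _ b _
      rw [MonoidHom.mem_ker, map_commutatorElement, commutatorElement_eq_one_iff_mul_comm]
      exact Subtype.ext (Subgroup.mem_center_iff.1 (φ b).2 _)
    exact h1 (hperf ▸ Subgroup.mem_top s)
  have h := congrArg Subtype.val hker
  change d * j s * d⁻¹ * (j s)⁻¹ = 1 at h
  rw [mul_inv_eq_one, mul_inv_eq_iff_eq_mul] at h
  exact h

variable {n : ℕ} {F : Type*} [Field F] [Fintype F]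

theorem scalar_central {c : F} (g : GL (Fin n) F) (hg : g.val = c • (1 : Matrix (Fin n) (Fin n) F)) :
    g ∈ Subgroup.center (GL (Fin n) F) :=
  Subgroup.mem_center_iff.2 fun y => Units.ext (by simp [hg])

/-- **Odd groups in a unitary group.** -/
theorem odd_GU {q : ℕ} (hF : Fintype.card F = q ^ 2) (hn : 3 ≤ n) (h2 : (2 : F) ≠ 0) (hq : q ≠ 2)
    (N : Subgroup (GL (Fin n) F)) (hN : N ≤ Cfsg.GU n F q)
    (hnorm : ∀ w ∈ Cfsg.GU n F q, ∀ d ∈ N, w * d * w⁻¹ ∈ N)
    (hodd : ∀ d ∈ N, ∃ k : ℕ, Odd k ∧ ∃ c : F, (d ^ k).val = c • (1 : Matrix (Fin n) (Fin n) F))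
    {d : GL (Fin n) F} (hd : d ∈ N) : ∃ c : F, d.val = c • (1 : Matrix (Fin n) (Fin n) F) := by
  classical
  let j : Cfsg.SU n F q →* GL (Fin n) F := (Cfsg.GU n F q).subtype.comp AutPSU.suGU
  have hcen : ∀ z ∈ Subgroup.center (Cfsg.SU n F q), j z ∈ Subgroup.center (GL (Fin n) F) := fun z hz => by
    have h1 : (AutPSU.conjU (AutPSU.suGU z) : MulAut (Cfsg.PSU n F q)) = 1 := by
      rw [AutPSU.conjU_suGU, (QuotientGroup.eq_one_iff z).2 hz, map_one]
    obtain ⟨c, hc⟩ := (AutPSU.conjU_eq_one_iff hF hn _).1 h1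
    show ((AutPSU.suGU z : Cfsg.GU n F q) : GL (Fin n) F) ∈ _
    rw [hc]
    exact Subgroup.mem_center_iff.2 fun y => (Matrix.GeneralLinearGroup.scalar_commute c y).symm
  let i : Fin n := ⟨0, by omega⟩
  let i' : Fin n := ⟨1, by omega⟩
  let l : Fin n := ⟨2, by omega⟩
  have hii : i ≠ i' := by simp [i, i', Fin.ext_iff]
  let W : Matrix (Fin n) (Fin n) F := Matrix.diagonal fun k => if k = i ∨ k = i' then (-1 : F) else 1
  obtain ⟨hW1, hW2⟩ := hermSI_sign (AutPSU.qAut hF) i i' hii
  let wg : GL (Fin n) F := Matrix.GeneralLinearGroup.mkOfDetNeZero W (by rw [hW2]; exact one_ne_zero)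
  let w : Cfsg.SU n F q := AutPSU.toSU ⟨wg, (AutPSU.mem_GU_iff' hF wg).2 hW1⟩ hW2
  have hjw : (j w).val = W := rfl
  have hw : j w * j w = 1 := Units.ext (by
    rw [Units.val_mul, hjw, Units.val_one, Matrix.diagonal_mul_diagonal, ← Matrix.diagonal_one]
    congr 1
    funext k
    split_ifs <;> simp)
  have hwc : j w ∉ Subgroup.center (GL (Fin n) F) := fun h => by
    let T : GL (Fin n) F := Matrix.SpecialLinearGroup.toGL
      (Matrix.SpecialLinearGroup.transvection (show i ≠ l by simp [i, l, Fin.ext_iff]) (1 : F))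
    have h' : T * j w = j w * T := Subgroup.mem_center_iff.1 h T
    have e := congrFun (congrFun (congrArg (fun X : GL (Fin n) F => X.val) h') i) l
    rw [Units.val_mul, Units.val_mul, hjw] at e
    simp only [W, T, Matrix.mul_diagonal, Matrix.diagonal_mul] at e
    simp [Matrix.SpecialLinearGroup.transvection_coe, i, i', l, Fin.ext_iff] at e
    exact h2 (by linear_combination e)
  have hcomm : ∀ s, d * j s = j s * d := fun s =>
    commute_of_perfect j (ClassicalSimple.SU_perfect hF hn fun h => hq h.2)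
      (fun M hM => ClassicalSimple.SU_normal_eq_top_or_le_center hF hn (fun h => hq h.2) M) hcen N
      (fun d hd s => ⟨AutPSU.conjSU ⟨d, hN hd⟩ s, by
        show _ = ((AutPSU.suGU (AutPSU.conjSU ⟨d, hN hd⟩ s) : Cfsg.GU n F q) : GL (Fin n) F)
        rw [AutPSU.suGU_conjSU]
        rfl⟩)
      (fun s d hd => hnorm _ (AutPSU.suGU s).2 d hd)
      (fun d hd => by
        obtain ⟨k, hk, c, hc⟩ := hodd d hd
        exact ⟨k, hk, scalar_central _ hc⟩) hw hwc hd s
  have h1 : (AutPSU.conjU (⟨d, hN hd⟩ : Cfsg.GU n F q) : MulAut (Cfsg.PSU n F q)) = 1 := MulEquiv.ext fun x => by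
    induction x using QuotientGroup.induction_on with
    | _ s =>
      rw [AutPSU.conjU_mk]
      refine congrArg QuotientGroup.mk (AutPSU.su_ext ?_)
      have h := congrArg Units.val (show d * j s * d⁻¹ = j s by rw [hcomm s, mul_inv_cancel_right])
      exact h
  obtain ⟨c, hc⟩ := (AutPSU.conjU_eq_one_iff hF hn _).1 h1
  exact ⟨c, by
    rw [show d = Matrix.GeneralLinearGroup.scalar (Fin n) c from hc, Matrix.GeneralLinearGroup.coe_scalar]
    simp [Matrix.smul_one_eq_diagonal]⟩

/-- **Odd groups in a symplectic group.** -/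
theorem odd_alt (hn : 3 ≤ n) (h2 : (2 : F) ≠ 0) (M : Matrix (Fin n) (Fin n) F) (hM : M.det ≠ 0)
    (halt : ∀ v, v ⬝ᵥ (M *ᵥ v) = 0) (N : Subgroup (GL (Fin n) F)) (hN : N ≤ simM M)
    (hnorm : ∀ w ∈ isoM M, ∀ d ∈ N, w * d * w⁻¹ ∈ N)
    (hodd : ∀ d ∈ N, ∃ k : ℕ, Odd k ∧ ∃ c : F, (d ^ k).val = c • (1 : Matrix (Fin n) (Fin n) F))
    {d : GL (Fin n) F} (hd : d ∈ N) : ∃ c : F, d.val = c • (1 : Matrix (Fin n) (Fin n) F) := by
  classical
  obtain ⟨m, hm, P, Q, c₀, h1, h2', h3⟩ := alt_matSim M hM halt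
  rw [Fintype.card_fin] at hm
  have hiso : ∀ g, g ∈ isoM M ↔ conjEquiv P Q h1 h2' g ∈ isoM (Matrix.J (Fin m) F) := by
    intro g
    rw [mem_isoM, mem_isoM, conjEquiv_val]
    have key : (Q * g.val * P)ᵀ * (Pᵀ * M * P) * (Q * g.val * P) = Pᵀ * (g.valᵀ * M * g.val) * P := by
      calc _ = Pᵀ * g.valᵀ * (P * Q)ᵀ * M * (P * Q) * g.val * P := by
            simp only [Matrix.transpose_mul, Matrix.mul_assoc]
        _ = _ := by rw [h1]; simp [Matrix.mul_assoc]
    constructor
    · intro h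
      rw [h, h3, Matrix.mul_smul, Matrix.smul_mul] at key
      exact smul_right_injective _ c₀.ne_zero key
    · intro h
      rw [h3, Matrix.mul_smul, Matrix.smul_mul, h, ← h3] at key
      have h' := congrArg (fun X => Qᵀ * X * Q) key
      have e : ∀ A : Matrix (Fin n) (Fin n) F, Qᵀ * (Pᵀ * A * P) * Q = A := fun A => by
        calc Qᵀ * (Pᵀ * A * P) * Q = (P * Q)ᵀ * A * (P * Q) := by
              rw [Matrix.transpose_mul]; simp only [Matrix.mul_assoc]
          _ = A := by rw [h1]; simp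
      simpa only [e] using h'.symm
  let e : isoM M ≃* Matrix.symplecticGroup (Fin m) F :=
    ({ toFun := fun g => ⟨conjEquiv P Q h1 h2' g, (hiso _).1 g.2⟩
       invFun := fun g => ⟨(conjEquiv P Q h1 h2').symm g, (hiso _).2 (by rw [MulEquiv.apply_symm_apply]; exact g.2)⟩
       left_inv := fun g => Subtype.ext ((conjEquiv P Q h1 h2').symm_apply_apply _)
       right_inv := fun g => Subtype.ext ((conjEquiv P Q h1 h2').apply_symm_apply _)
       map_mul' := fun a b => Subtype.ext (map_mul _ (a : GL (Fin n) F) b) } :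
      isoM M ≃* isoM (Matrix.J (Fin m) F)).trans (spIsoEquiv m).symm
  have hm2 : 2 ≤ m := by omega
  have hcard : 3 ≤ Fintype.card F := by
    have hodd2 : ringChar F ≠ 2 := fun h => h2 (by
      haveI : CharP F 2 := h ▸ ringChar.charP F
      exact CharTwo.two_eq_zero)
    have := FiniteField.odd_card_of_char_ne_two hodd2
    have := Fintype.one_lt_card (α := F)
    omega
  have hcond : 3 ≤ m ∨ (m = 2 ∧ 3 ≤ Fintype.card F) ∨ 4 ≤ Fintype.card F := by omega
  have hperf : commutator (isoM M) = ⊤ := by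
    have := congrArg (Subgroup.map e.symm.toMonoidHom) (ClassicalSimple.symplectic_commutator_eq_top hcond)
    rwa [commutator_def, Subgroup.map_commutator,
      Subgroup.map_top_of_surjective e.symm.toMonoidHom e.symm.surjective, ← commutator_def] at this
  have hnormal : ∀ K : Subgroup (isoM M), K.Normal → K = ⊤ ∨ K ≤ Subgroup.center (isoM M) := by
    intro K hK
    haveI : (K.map e.toMonoidHom).Normal := Subgroup.Normal.map inferInstance _ e.surjective
    rcases ClassicalSimple.symplectic_normal_eq_top_or_le_center hcond (K.map e.toMonoidHom) with h | h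
    · exact Or.inl (Subgroup.map_injective e.injective
        (h.trans (Subgroup.map_top_of_surjective e.toMonoidHom e.surjective).symm))
    · refine Or.inr fun x hx => Subgroup.mem_center_iff.2 fun y => e.injective ?_
      rw [map_mul, map_mul]
      exact Subgroup.mem_center_iff.1 (h ⟨x, hx, rfl⟩) (e y)
  -- commuting with the isometries means scalar
  have hscal : ∀ z : GL (Fin n) F, (∀ g ∈ isoM M, z * g = g * z) →
      ∃ c : F, z.val = c • (1 : Matrix (Fin n) (Fin n) F) := fun z hz =>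
    (twisted_alt (f := RingHom.id F) (τ := RingEquiv.refl F) hn M hM halt fun W hW => ⟨1, by
      let g : GL (Fin n) F := Matrix.GeneralLinearGroup.mkOfDetNeZero W (by rw [hW.2]; exact one_ne_zero)
      have h := congrArg Units.val (hz g hW.1)
      rw [one_smul]
      have hgW : g.val = W := rfl
      rw [Units.val_mul, Units.val_mul, hgW] at h
      simpa using h⟩).2
  have hcen : ∀ z ∈ Subgroup.center (isoM M), (isoM M).subtype z ∈ Subgroup.center (GL (Fin n) F) := fun z hz => by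
    obtain ⟨c, hc⟩ := hscal z fun g hg => (congrArg Subtype.val (Subgroup.mem_center_iff.1 hz ⟨g, hg⟩)).symm
    exact scalar_central _ hc
  let s : Fin m → F := fun k => if k = (⟨0, by omega⟩ : Fin m) then -1 else 1
  have hss : ∀ k, s k * s k = 1 := fun k => by simp only [s]; split_ifs <;> simp
  let W : Matrix.symplecticGroup (Fin m) F := ⟨Matrix.fromBlocks (Matrix.diagonal s) 0 0 (Matrix.diagonal s), by
    rw [SymplecticGroup.mem_iff, Matrix.J, Matrix.fromBlocks_transpose, Matrix.fromBlocks_multiply,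
      Matrix.fromBlocks_multiply]
    simp [hss, ← Matrix.diagonal_one, Matrix.diagonal_neg]⟩
  have hWW : W * W = 1 := Subtype.ext (by
    show Matrix.fromBlocks (Matrix.diagonal s) 0 0 (Matrix.diagonal s) *
      Matrix.fromBlocks (Matrix.diagonal s) 0 0 (Matrix.diagonal s) = 1
    rw [Matrix.fromBlocks_multiply]
    simp [hss, Matrix.fromBlocks_one])
  have hwc : (isoM M).subtype (e.symm W) ∉ Subgroup.center (GL (Fin n) F) := fun h => by
    have hz : ∀ X : GL (Fin m ⊕ Fin m) F,
        X * conjEquiv P Q h1 h2' (e.symm W : GL (Fin n) F) = conjEquiv P Q h1 h2' (e.symm W : GL (Fin n) F) * X := by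
      intro X
      obtain ⟨Y, rfl⟩ := (conjEquiv P Q h1 h2').surjective X
      rw [← map_mul, ← map_mul]
      exact congrArg _ (Subgroup.mem_center_iff.1 h Y)
    have hWe : (conjEquiv P Q h1 h2' (e.symm W : GL (Fin n) F)).val = W.1 :=
      congrArg Units.val ((conjEquiv P Q h1 h2').apply_symm_apply _)
    let k0 : Fin m := ⟨0, by omega⟩
    let k1 : Fin m := ⟨1, by omega⟩
    have hk : (Sum.inl k0 : Fin m ⊕ Fin m) ≠ Sum.inl k1 := by simp [k0, k1, Fin.ext_iff]
    have e' := congrArg Units.val (hz (Matrix.SpecialLinearGroup.toGL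
      (Matrix.SpecialLinearGroup.transvection hk (1 : F))))
    rw [Units.val_mul, Units.val_mul, hWe] at e'
    have e'' := congrFun (congrFun e' (Sum.inl k0)) (Sum.inl k1)
    change ((Matrix.SpecialLinearGroup.transvection hk (1 : F)).1 *
        Matrix.fromBlocks (Matrix.diagonal s) 0 0 (Matrix.diagonal s)) _ _ =
      (Matrix.fromBlocks (Matrix.diagonal s) 0 0 (Matrix.diagonal s) *
        (Matrix.SpecialLinearGroup.transvection hk (1 : F)).1) _ _ at e''
    simp [Matrix.SpecialLinearGroup.transvection_coe, Matrix.mul_apply, Fintype.sum_sum_type, Matrix.one_apply,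
      Matrix.single_apply, Matrix.diagonal_apply, s, k0, k1, Fin.ext_iff] at e''
    exact h2 (by linear_combination e'')
  refine hscal d fun g hg => commute_of_perfect (isoM M).subtype hperf hnormal hcen N (fun d hd g => ?_)
    (fun g d hd => hnorm g g.2 d hd) (fun d hd => by
      obtain ⟨k, hk, c, hc⟩ := hodd d hd
      exact ⟨k, hk, scalar_central _ hc⟩) (w := e.symm W)
    (by rw [← map_mul, ← map_mul, hWW, map_one, map_one]) hwc hd ⟨g, hg⟩
  obtain ⟨c, hc⟩ := mem_simM.1 (hN hd)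
  refine ⟨⟨d * (g : GL (Fin n) F) * d⁻¹, mem_isoM.2 ?_⟩, rfl⟩
  have hdinv : (d⁻¹).valᵀ * M * (d⁻¹).val = ((c⁻¹ : Fˣ) : F) • M := by
    have h' := congrArg (fun X => ((c⁻¹ : Fˣ) : F) • ((d⁻¹).valᵀ * X * (d⁻¹).val)) hc
    have e1 : (d⁻¹).valᵀ * (d.valᵀ * M * d.val) * (d⁻¹).val = M := by
      calc _ = (d.val * (d⁻¹).val)ᵀ * M * (d.val * (d⁻¹).val) := by
            rw [Matrix.transpose_mul]; simp only [Matrix.mul_assoc]
        _ = M := by simp
    simp only [e1, Matrix.mul_smul, Matrix.smul_mul, smul_smul, Units.inv_mul, one_smul] at h'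
    exact h'.symm
  calc (d * (g : GL (Fin n) F) * d⁻¹).valᵀ * M * (d * (g : GL (Fin n) F) * d⁻¹).val
      = (d⁻¹).valᵀ * ((g : GL (Fin n) F).valᵀ * (d.valᵀ * M * d.val) * (g : GL (Fin n) F).val) * (d⁻¹).val := by
        simp only [Units.val_mul, Matrix.transpose_mul, Matrix.mul_assoc]
    _ = (c : F) • ((d⁻¹).valᵀ * M * (d⁻¹).val) := by
        rw [hc, Matrix.mul_smul, Matrix.smul_mul, mem_isoM.1 g.2, Matrix.mul_smul, Matrix.smul_mul]
    _ = M := by rw [hdinv, smul_smul, Units.mul_inv, one_smul]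

end Cfsg.Agent.LocalBalance
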