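import Cfsg.Agent.Lib.LocalBalance.FixHom
import Cfsg.Agent.Lib.LocalBalance.OddNormal

/-!
The `2'`-core of the fixed points of a graph automorphism, from a description of its centraliser as a projective
similitude group.
-/

set_option autoImplicit false
set_option linter.unusedSectionVars false

open Matrix
open scoped MatrixGroups

namespace Cfsg.Agent.LocalBalance

open Cfsg.Agent.GraphAut

variable {n : ℕ} {F : Type*} [Field F]

/-- A subgroup of the similitude group of `M` (symmetric or alternating) that is odd modulo scalars and normalised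
by the isometries consists of scalars. -/
theorem odd_simM [Fintype F] (hn : 3 ≤ n) (h2 : (2 : F) ≠ 0) (M : Matrix (Fin n) (Fin n) F) (hM : M.det ≠ 0)
    {ε : F} (hε : ε = 1 ∨ ε = -1) (hMt : Mᵀ = ε • M) (N : Subgroup (GL (Fin n) F)) (hN : N ≤ simM M)
    (hnorm : ∀ w ∈ isoM M, ∀ d ∈ N, w * d * w⁻¹ ∈ N)
    (hodd : ∀ d ∈ N, ∃ k : ℕ, Odd k ∧ ∃ c : F, (d ^ k).val = c • (1 : Matrix (Fin n) (Fin n) F))
    {d : GL (Fin n) F} (hd : d ∈ N) : ∃ c : F, d.val = c • (1 : Matrix (Fin n) (Fin n) F) := by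
  classical
  rcases hε with rfl | rfl
  · rw [one_smul] at hMt
    obtain ⟨k, rfl⟩ : ∃ k, n = k + 1 := ⟨n - 1, by omega⟩
    let δ : Fin (k + 1) → F := Function.update 1 0 M.det
    have hδdet : (Matrix.diagonal δ).det = M.det := by
      rw [Matrix.det_diagonal, Finset.prod_update_of_mem (Finset.mem_univ _)]
      simp
    obtain ⟨P, hP⟩ := cong_of_det h2 M (Matrix.diagonal δ) hMt (Matrix.diagonal_transpose δ) hM
      (by rw [hδdet]; exact hM) ⟨M.det, by rw [hδdet]⟩
    have htr : ∀ (g : GL (Fin (k + 1)) F) (c : F), g.valᵀ * M * g.val = c • M ↔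
        (P⁻¹ * g * P).valᵀ * Matrix.diagonal δ * (P⁻¹ * g * P).val = c • Matrix.diagonal δ := by
      intro g c
      have e : (P⁻¹ * g * P).valᵀ * Matrix.diagonal δ * (P⁻¹ * g * P).val = P.valᵀ * (g.valᵀ * M * g.val) * P.val := by
        rw [← hP]
        calc _ = P.valᵀ * g.valᵀ * (P.val * (P⁻¹).val)ᵀ * M * (P.val * (P⁻¹).val) * g.val * P.val := by
              simp only [Units.val_mul, Matrix.transpose_mul, Matrix.mul_assoc]
          _ = _ := by simp [Matrix.mul_assoc]
      rw [e]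
      constructor
      · intro h; rw [h, Matrix.mul_smul, Matrix.smul_mul, hP]
      · intro h
        rw [← hP, ← Matrix.smul_mul, ← Matrix.mul_smul] at h
        have h' := congrArg (fun X => (P⁻¹).valᵀ * X * (P⁻¹).val) h
        have e' : ∀ A : Matrix (Fin (k + 1)) (Fin (k + 1)) F, (P⁻¹).valᵀ * (P.valᵀ * A * P.val) * (P⁻¹).val = A := by
          intro A
          calc _ = (P.val * (P⁻¹).val)ᵀ * A * (P.val * (P⁻¹).val) := by
                rw [Matrix.transpose_mul]; simp only [Matrix.mul_assoc]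
            _ = A := by simp
        simpa only [e'] using h'
    let N' : Subgroup (GL (Fin (k + 1)) F) := N.map (MulAut.conj P⁻¹).toMonoidHom
    have hN' : ∀ x, x ∈ N → P⁻¹ * x * P ∈ N' := fun x hx => ⟨x, hx, by
      show P⁻¹ * x * P⁻¹⁻¹ = _
      rw [inv_inv]⟩
    have hdata : OddData δ N' :=
      { two := h2
        ne := fun i => by
          rcases eq_or_ne i 0 with rfl | hi
          · simpa [δ] using hM
          · simp [δ, hi]
        sim := by
          rintro _ ⟨x, hx, rfl⟩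
          show P⁻¹ * x * P⁻¹⁻¹ ∈ _
          rw [inv_inv]
          obtain ⟨c, hc⟩ := mem_simM.1 (hN hx)
          exact mem_simM.2 ⟨c, (htr x c).1 hc⟩
        odd := by
          rintro _ ⟨x, hx, rfl⟩
          obtain ⟨t, ht, c, hc⟩ := hodd x hx
          refine ⟨t, ht, c, ?_⟩
          rw [← map_pow]
          show (P⁻¹ * x ^ t * P⁻¹⁻¹).val = _
          rw [inv_inv, Units.val_mul, Units.val_mul, hc]
          simp
        norm := by
          rintro w hw _ ⟨x, hx, rfl⟩
          have hw' : P * w * P⁻¹ ∈ isoM M := by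
            have h1 : (P⁻¹ * (P * w * P⁻¹) * P).valᵀ * Matrix.diagonal δ * (P⁻¹ * (P * w * P⁻¹) * P).val =
                (1 : F) • Matrix.diagonal δ := by
              rw [show P⁻¹ * (P * w * P⁻¹) * P = w by group, one_smul]
              exact hw
            have h2 := (htr _ 1).2 h1
            rwa [one_smul] at h2
          refine ⟨_, hnorm _ hw' x hx, ?_⟩
          show P⁻¹ * (P * w * P⁻¹ * x * (P * w * P⁻¹)⁻¹) * P⁻¹⁻¹ = w * (P⁻¹ * x * P⁻¹⁻¹) * w⁻¹
          group }
    obtain ⟨c, hc⟩ := hdata.eq_scalar (by simpa using hn) (hN' d hd)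
    refine ⟨c, ?_⟩
    have h' := congrArg (fun X => P.val * X * (P⁻¹).val) hc
    simpa [Units.val_mul, Matrix.mul_assoc] using h'
  · have halt : ∀ v, v ⬝ᵥ (M *ᵥ v) = 0 := fun v => by
      have h : v ⬝ᵥ (Mᵀ *ᵥ v) = v ⬝ᵥ (M *ᵥ v) := by
        rw [Matrix.mulVec_transpose, dotProduct_comm, Matrix.dotProduct_mulVec]
      rw [hMt, Matrix.smul_mulVec, dotProduct_smul, smul_eq_mul] at h
      exact (mul_eq_zero.1 (show (2 : F) * (v ⬝ᵥ (M *ᵥ v)) = 0 by linear_combination -h)).resolve_left h2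
    exact odd_alt hn h2 M hM halt N hN hnorm hodd hd

/-- Rigidity for a symmetric or alternating form over a subfield. -/
theorem twisted_simM {F₀ : Type*} [Field F₀] [Fintype F₀] (hn : 3 ≤ n) (h2 : (2 : F₀) ≠ 0)
    (M : Matrix (Fin n) (Fin n) F₀) (hM : M.det ≠ 0) {ε : F₀} (hε : ε = 1 ∨ ε = -1) (hMt : Mᵀ = ε • M)
    {f : F₀ →+* F} {τ : F ≃+* F} {g : GL (Fin n) F}
    (hT : Twisted (fun W => Wᵀ * M * W = M ∧ W.det = 1) f τ g)
    (hodd : ∃ k : ℕ, Odd k ∧ τ ^ k = 1 ∧ ∃ z : F, (FieldExt.twistNorm τ g k).val = z • (1 : Matrix (Fin n) (Fin n) F)) :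
    (∀ x, τ (f x) = f x) ∧ ∃ z : F, g.val = z • (1 : Matrix (Fin n) (Fin n) F) := by
  classical
  rcases hε with rfl | rfl
  · rw [one_smul] at hMt
    obtain ⟨k₁, rfl⟩ : ∃ k, n = k + 1 := ⟨n - 1, by omega⟩
    let δ : Fin (k₁ + 1) → F₀ := Function.update 1 0 M.det
    have hδdet : (Matrix.diagonal δ).det = M.det := by
      rw [Matrix.det_diagonal, Finset.prod_update_of_mem (Finset.mem_univ _)]
      simp
    have hδ : ∀ i, δ i ≠ 0 := fun i => by
      rcases eq_or_ne i 0 with rfl | hi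
      · simpa [δ] using hM
      · simp [δ, hi]
    obtain ⟨P, hP⟩ := cong_of_det h2 M (Matrix.diagonal δ) hMt (Matrix.diagonal_transpose δ) hM
      (by rw [hδdet]; exact hM) ⟨M.det, by rw [hδdet]⟩
    let Q : GL (Fin (k₁ + 1)) F := Matrix.GeneralLinearGroup.map f P
    have hQ : Q.val = P.val.map f := rfl
    have hQi : (Q⁻¹).val = (P⁻¹).val.map f := rfl
    set g' : GL (Fin (k₁ + 1)) F := Q⁻¹ * g * FieldExt.glMap τ Q with hg'
    have hT' : Twisted (SymSI δ) f τ g' := by
      intro W hW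
      have hW' : (P.val * W * (P⁻¹).val)ᵀ * M * (P.val * W * (P⁻¹).val) = M ∧ (P.val * W * (P⁻¹).val).det = 1 := by
        constructor
        · calc _ = (P⁻¹).valᵀ * (Wᵀ * (P.valᵀ * M * P.val) * W) * (P⁻¹).val := by
                simp only [Matrix.transpose_mul, Matrix.mul_assoc]
            _ = (P⁻¹).valᵀ * (P.valᵀ * M * P.val) * (P⁻¹).val := by rw [hP, hW.1]
            _ = (P.val * (P⁻¹).val)ᵀ * M * (P.val * (P⁻¹).val) := by
                rw [Matrix.transpose_mul]; simp only [Matrix.mul_assoc]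
            _ = M := by simp
        · rw [Matrix.det_conj_of_mul_eq_one P.mul_inv P.inv_mul]; exact hW.2
      obtain ⟨c, hc⟩ := hT _ hW'
      refine ⟨c, ?_⟩
      rw [hg', Units.val_mul, Units.val_mul, FieldExt.glMap_val]
      rw [Matrix.map_mul, Matrix.map_mul, Matrix.map_mul, Matrix.map_mul, ← hQ, ← hQi] at hc
      have hQQ : (Q⁻¹).val.map τ * Q.val.map τ = 1 := by
        rw [← Matrix.map_mul, Units.inv_mul, Matrix.map_one τ (map_zero τ) (map_one τ)]
      have h' := congrArg (fun X => (Q⁻¹).val * X * Q.val.map τ) hc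
      simp only [Matrix.mul_assoc, hQQ, Matrix.mul_one, Matrix.mul_smul, Matrix.smul_mul, Units.inv_mul_cancel_left]
        at h'
      simp only [Matrix.mul_assoc]
      exact h'
    have hnorm : ∀ k, FieldExt.twistNorm τ g' k = Q⁻¹ * FieldExt.twistNorm τ g k * FieldExt.glMap (τ ^ k) Q := by
      intro k
      induction k with
      | zero => rw [FieldExt.twistNorm_zero, FieldExt.twistNorm_zero, pow_zero, FieldExt.glMap_one, mul_one,
          inv_mul_cancel]
      | succ k ih =>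
        rw [FieldExt.twistNorm_succ, ih, map_mul, map_mul, map_inv, FieldExt.twistNorm_succ, ← FieldExt.glMap_mul,
          ← pow_succ', hg']
        group
    obtain ⟨k, hk, hτk, z, hz⟩ := hodd
    have hodd' : ∃ k : ℕ, Odd k ∧ ∃ z : F,
        (FieldExt.twistNorm τ g' k).val = z • (1 : Matrix (Fin (k₁ + 1)) (Fin (k₁ + 1)) F) := by
      refine ⟨k, hk, z, ?_⟩
      rw [hnorm, hτk, FieldExt.glMap_one, Units.val_mul, Units.val_mul, hz]
      simp
    obtain ⟨hτ, z', hz'⟩ := twisted_sym hn h2 δ hδ hT' hodd'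
    refine ⟨hτ, z', ?_⟩
    have hfix : FieldExt.glMap τ Q = Q := Units.ext (Matrix.ext fun a b => hτ _)
    rw [hg', hfix, Units.val_mul, Units.val_mul] at hz'
    have h' := congrArg (fun X => Q.val * X * (Q⁻¹).val) hz'
    simpa [Matrix.mul_assoc] using h'
  · have halt : ∀ v, v ⬝ᵥ (M *ᵥ v) = 0 := fun v => by
      have h : v ⬝ᵥ (Mᵀ *ᵥ v) = v ⬝ᵥ (M *ᵥ v) := by
        rw [Matrix.mulVec_transpose, dotProduct_comm, Matrix.dotProduct_mulVec]
      rw [hMt, Matrix.smul_mulVec, dotProduct_smul, smul_eq_mul] at h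
      exact (mul_eq_zero.1 (show (2 : F₀) * (v ⬝ᵥ (M *ᵥ v)) = 0 by linear_combination -h)).resolve_left h2
    exact twisted_alt hn M hM halt hT

end Cfsg.Agent.LocalBalance
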