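import Cfsg.Agent.Lib.LocalBalance.SymOdd
import Cfsg.Agent.Lib.GraphAut.Char2
import Cfsg.Agent.Lib.ClassicalSimple.SympMatrix
import Cfsg.Agent.Lib.ClassicalSimple.UnitaryMatrix
import Cfsg.Agent.Lib.AutPSU.Basic
import Cfsg.Agent.Lib.Field.Descent

/-!
A semilinear map commuting up to scalars with the special isometries of a symmetric, alternating or hermitian
form; odd normal subgroups of symplectic and unitary groups.
-/

set_option autoImplicit false
set_option linter.unusedSectionVars false

open Matrix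
open scoped MatrixGroups

namespace Cfsg.Agent.LocalBalance

open Cfsg.Agent.GraphAut

variable {n : ℕ} {F : Type*} [Field F] {F₀ : Type*} [Field F₀]

local notation "V₀" => Fin n → F₀
local notation "M₀" => Matrix (Fin n) (Fin n) F₀
local notation "Mn" => Matrix (Fin n) (Fin n) F

/-- `g ∘ τ` commutes up to scalars with the members of `P`. -/
def Twisted (P : M₀ → Prop) (f : F₀ →+* F) (τ : F ≃+* F) (g : GL (Fin n) F) : Prop :=
  ∀ W : M₀, P W → ∃ c : F, g.val * (W.map f).map τ = c • (W.map f * g.val)

variable {P : Matrix (Fin n) (Fin n) F₀ → Prop} {f : F₀ →+* F} {τ : F ≃+* F} {g : GL (Fin n) F}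

theorem val_ne_zero' (hn : 1 ≤ n) (h : GL (Fin n) F) : h.val ≠ 0 := by
  intro h0
  haveI hne : Nonempty (Fin n) := ⟨⟨0, hn⟩⟩
  have := (Matrix.isUnit_iff_isUnit_det _).1 h.isUnit
  rw [h0, Matrix.det_zero] at this
  exact not_isUnit_zero this

/-- The value of the scalar at a fixed sign matrix. -/
theorem Twisted.scalar_eq_one (hn : 1 ≤ n) (hT : Twisted P f τ g) {W : M₀} (hW : P W) (hfix : (W.map f).map τ = W.map f)
    (hWW : W * W = 1) (hodd : ∃ k : ℕ, Odd k ∧ ∃ z : F, (FieldExt.twistNorm τ g k).val = z • (1 : Mn)) :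
    g.val * W.map f = W.map f * g.val := by
  obtain ⟨c, hc⟩ := hT W hW
  rw [hfix] at hc
  set V := W.map f
  have hVV : V * V = 1 := by
    rw [← Matrix.map_mul, hWW, Matrix.map_one f (map_zero f) (map_one f)]
  have hcc : c * c = 1 := by
    refine smul_left_injective F (val_ne_zero' hn g) ?_
    show (c * c) • g.val = (1 : F) • g.val
    rw [one_smul]
    symm
    calc g.val = g.val * V * V := by rw [Matrix.mul_assoc, hVV, Matrix.mul_one]
      _ = c • (V * g.val) * V := by rw [hc]
      _ = c • (V * (g.val * V)) := by rw [Matrix.smul_mul, Matrix.mul_assoc]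
      _ = (c * c) • g.val := by
        rw [hc, Matrix.mul_smul, smul_smul, ← Matrix.mul_assoc, hVV, Matrix.one_mul]
  have hτc : τ c = c := by
    rcases mul_self_eq_one_iff.1 hcc with h | h <;> simp [h]
  have hpow : ∀ k, (FieldExt.twistNorm τ g k).val * V = c ^ k • (V * (FieldExt.twistNorm τ g k).val) := by
    intro k
    induction k with
    | zero => simp
    | succ k ih =>
      have h1 : ((FieldExt.twistNorm τ g k).val.map τ) * V = c ^ k • (V * (FieldExt.twistNorm τ g k).val.map τ) := by
        have h2 := congrArg (fun A : Mn => A.map τ) ih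
        rw [Matrix.map_mul, hfix] at h2
        rw [h2]
        ext i j
        have hV : ∀ a b, τ (V a b) = V a b := fun a b => congrFun (congrFun hfix a) b
        simp [Matrix.mul_apply, hV, hτc]
      rw [FieldExt.twistNorm_succ, Units.val_mul, FieldExt.glMap_val, Matrix.mul_assoc, h1, Matrix.mul_smul,
        ← Matrix.mul_assoc, hc, Matrix.smul_mul, smul_smul, Matrix.mul_assoc, pow_succ]
  obtain ⟨k, hk, z, hz⟩ := hodd
  have h := hpow k
  rw [hz, Matrix.smul_mul, Matrix.one_mul, Matrix.mul_smul, Matrix.mul_one, smul_smul] at h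
  have hV0 : z • V ≠ 0 := by
    intro h0
    refine val_ne_zero' hn (FieldExt.twistNorm τ g k) ?_
    have h1 := congrArg (· * V) h0
    simp only [Matrix.smul_mul, hVV, Matrix.zero_mul] at h1
    rw [hz, h1]
  have hck : c ^ k = 1 := by
    refine (smul_left_injective F hV0 ?_).symm
    show (1 : F) • z • V = c ^ k • z • V
    rw [one_smul, smul_smul]
    exact h
  have hc1 : c = 1 := by
    rcases mul_self_eq_one_iff.1 hcc with h' | h'
    · exact h'
    · rw [h', hk.neg_one_pow] at hck
      rw [h', hck]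
  rw [hc, hc1, one_smul]

/-- Sign changes force a diagonal matrix. -/
theorem Twisted.diag (hn : 3 ≤ n) (h2 : (2 : F) ≠ 0)
    (hP : ∀ a b : Fin n, a ≠ b → P (Matrix.diagonal fun k => if k = a ∨ k = b then (-1 : F₀) else 1))
    (hT : Twisted P f τ g) (hodd : ∃ k : ℕ, Odd k ∧ ∃ z : F, (FieldExt.twistNorm τ g k).val = z • (1 : Mn))
    {a b : Fin n} (hab : a ≠ b) : g.val a b = 0 := by
  classical
  obtain ⟨x, hx⟩ : ∃ x : Fin n, x ∉ ({a, b} : Finset (Fin n)) := by
    by_contra hall
    push Not at hall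
    have : Fintype.card (Fin n) ≤ ({a, b} : Finset (Fin n)).card := by
      rw [← Finset.card_univ]; exact Finset.card_le_card fun k _ => hall k
    rw [Fintype.card_fin, Finset.card_pair hab] at this
    omega
  simp only [Finset.mem_insert, Finset.mem_singleton, not_or] at hx
  set s : Fin n → F₀ := fun k => if k = a ∨ k = x then -1 else 1
  have hmap : (Matrix.diagonal s).map f = Matrix.diagonal fun k => if k = a ∨ k = x then (-1 : F) else 1 := by
    rw [Matrix.diagonal_map (map_zero f)]
    congr 1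
    funext k
    simp only [Function.comp_apply, s]
    split_ifs <;> simp
  have h := hT.scalar_eq_one (by omega) (hP a x (fun e => hx.1 e.symm))
    (by
      rw [hmap, Matrix.diagonal_map (map_zero τ)]
      congr 1
      funext k
      split_ifs <;> simp)
    (by
      rw [Matrix.diagonal_mul_diagonal, ← Matrix.diagonal_one]
      congr 1
      funext k
      split_ifs <;> simp) hodd
  have h' := congrFun (congrFun h a) b
  rw [hmap, Matrix.mul_diagonal, Matrix.diagonal_mul, if_neg (by simp [hab.symm, Ne.symm hx.2]),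
    if_pos (Or.inl rfl)] at h'
  exact (mul_eq_zero.1 (show (2 : F) * g.val a b = 0 by linear_combination h')).resolve_left h2

theorem Twisted.entry (hd : ∀ a b : Fin n, a ≠ b → g.val a b = 0) {W : M₀} {c : F}
    (hc : g.val * (W.map f).map τ = c • (W.map f * g.val)) (k l : Fin n) :
    g.val k k * τ (f (W k l)) = c * (f (W k l) * g.val l l) := by
  have h := congrFun (congrFun hc k) l
  rw [Matrix.mul_apply, Finset.sum_eq_single k (fun j _ hj => by rw [hd k j hj.symm, zero_mul]) (by simp),
    Matrix.smul_apply, Matrix.mul_apply, Finset.sum_eq_single l (fun j _ hj => by rw [hd j l hj, mul_zero]) (by simp)]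
    at h
  simpa using h

theorem diag_ne_zero (hd : ∀ a b : Fin n, a ≠ b → g.val a b = 0) (k : Fin n) : g.val k k ≠ 0 := by
  intro h0
  have h : g.val *ᵥ Pi.single k (1 : F) = 0 := funext fun j => by
    rcases eq_or_ne j k with rfl | hj
    · simpa using h0
    · simpa using hd j k hj
  simpa using congrFun (mulVec_eq_zero g h) k

theorem eq_scalar_of_diag (hd : ∀ a b : Fin n, a ≠ b → g.val a b = 0) (i0 : Fin n)
    (heq : ∀ a b : Fin n, a ≠ b → g.val a a = g.val b b) : g.val = g.val i0 i0 • (1 : Mn) := by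
  ext a b
  rcases eq_or_ne a b with rfl | hab
  · rcases eq_or_ne a i0 with rfl | h
    · simp
    · simp [heq a i0 h]
  · simp [hd a b hab, hab]

/-! ### Symmetric forms -/

/-- The special isometries of `diag δ`. -/
def SymSI (δ : Fin n → F₀) (W : M₀) : Prop :=
  Wᵀ * Matrix.diagonal δ * W = Matrix.diagonal δ ∧ W.det = 1

theorem det_one_sub_vecMulVec (u v : V₀) : (1 - Matrix.vecMulVec u v).det = 1 - v ⬝ᵥ u := by
  rw [sub_eq_add_neg, ← Matrix.neg_vecMulVec, Matrix.vecMulVec_eq Unit,
    Matrix.det_one_add_replicateCol_mul_replicateRow, dotProduct_neg, sub_eq_add_neg]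

/-- The product of the reflection along `v` with the one along `e i`. -/
def rotMat (δ : Fin n → F₀) (v : V₀) (i : Fin n) : M₀ :=
  (1 - Matrix.vecMulVec ((2 / fD δ v v) • v) fun k => δ k * v k) * Matrix.diagonal (Function.update 1 i (-1))

theorem rotMat_apply (δ : Fin n → F₀) (v : V₀) (i k l : Fin n) :
    rotMat δ v i k l = ((if k = l then 1 else 0) - 2 / fD δ v v * v k * (δ l * v l)) * (if l = i then -1 else 1) := by
  rw [rotMat, Matrix.mul_diagonal, Matrix.sub_apply, Matrix.one_apply, Matrix.vecMulVec_apply, Pi.smul_apply,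
    smul_eq_mul, Function.update_apply, Pi.one_apply]

theorem rotMat_mem (δ : Fin n → F₀) {v : V₀} (hv : fD δ v v ≠ 0) (i : Fin n) : SymSI δ (rotMat δ v i) := by
  set R : M₀ := 1 - Matrix.vecMulVec ((2 / fD δ v v) • v) fun k => δ k * v k
  have hR : Rᵀ * Matrix.diagonal δ * R = Matrix.diagonal δ := by
    refine bil_inj fun u w => ?_
    rw [← bil_mulVec, dot_diag, dot_diag]
    have hR' : ∀ u : V₀, R *ᵥ u = u - ((2 / fD δ v v) * fD δ v u) • v := fun u => by
      simp only [R, Matrix.sub_mulVec, Matrix.one_mulVec, Matrix.vecMulVec_mulVec]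
      congr 1
      funext k
      simp only [Pi.smul_apply, smul_eq_mul, op_smul_eq_smul, fD, dotProduct]
      rw [show (∑ j, δ j * v j * u j) = ∑ j, δ j * (v j * u j) from Finset.sum_congr rfl fun j _ => by ring]
      ring
    rw [hR' u, hR' w]
    have hexp : ∀ a c : F₀, fD δ (u - a • v) (w - c • v) =
        fD δ u w - c * fD δ u v - a * fD δ v w + a * c * fD δ v v := fun a c => by
      simp only [fD, Finset.mul_sum, ← Finset.sum_sub_distrib, ← Finset.sum_add_distrib, Pi.sub_apply,
        Pi.smul_apply, smul_eq_mul]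
      exact Finset.sum_congr rfl fun k _ => by ring
    rw [hexp, show fD δ u v = fD δ v u from Finset.sum_congr rfl fun k _ => by ring]
    field_simp
    ring
  have hS : (Matrix.diagonal (Function.update 1 i (-1)) : M₀)ᵀ * Matrix.diagonal δ *
      Matrix.diagonal (Function.update 1 i (-1)) = Matrix.diagonal δ := by
    rw [Matrix.diagonal_transpose, Matrix.diagonal_mul_diagonal, Matrix.diagonal_mul_diagonal]
    congr 1
    funext k
    rcases eq_or_ne k i with rfl | h <;> simp [*]
  constructor
  · show (R * _)ᵀ * Matrix.diagonal δ * (R * _) = _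
    rw [Matrix.transpose_mul]
    calc _ = (Matrix.diagonal (Function.update 1 i (-1)) : M₀)ᵀ * (Rᵀ * Matrix.diagonal δ * R) *
          Matrix.diagonal (Function.update 1 i (-1)) := by simp only [Matrix.mul_assoc]
      _ = _ := by rw [hR, hS]
  · rw [rotMat, Matrix.det_mul, det_one_sub_vecMulVec, Matrix.det_diagonal,
      Finset.prod_update_of_mem (Finset.mem_univ i), dotProduct_smul]
    simp only [Pi.one_apply, Finset.prod_const_one, smul_eq_mul, mul_one]
    rw [show (fun k => δ k * v k) ⬝ᵥ v = fD δ v v from Finset.sum_congr rfl fun k _ => by ring]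
    field_simp
    ring

theorem symSI_sign (δ : Fin n → F₀) (a b : Fin n) (hab : a ≠ b) :
    SymSI δ (Matrix.diagonal fun k => if k = a ∨ k = b then (-1 : F₀) else 1) := by
  constructor
  · rw [Matrix.diagonal_transpose, Matrix.diagonal_mul_diagonal, Matrix.diagonal_mul_diagonal]
    congr 1
    funext k
    split_ifs <;> ring
  · rw [Matrix.det_diagonal,
      ← Finset.prod_subset (Finset.subset_univ {a, b}) (fun k _ hk => by
        simp only [Finset.mem_insert, Finset.mem_singleton] at hk
        rw [if_neg hk]), Finset.prod_pair hab]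
    simp

/-- **Rigidity for a symmetric form.** -/
theorem twisted_sym (hn : 3 ≤ n) (h2 : (2 : F₀) ≠ 0) (δ : Fin n → F₀) (hδ : ∀ i, δ i ≠ 0)
    (hT : Twisted (SymSI δ) f τ g)
    (hodd : ∃ k : ℕ, Odd k ∧ ∃ z : F, (FieldExt.twistNorm τ g k).val = z • (1 : Mn)) :
    (∀ x, τ (f x) = f x) ∧ ∃ z : F, g.val = z • (1 : Mn) := by
  classical
  have h2' : (2 : F) ≠ 0 := fun h => h2 (f.injective (by rw [map_ofNat, h, map_zero]))
  have hd : ∀ a b : Fin n, a ≠ b → g.val a b = 0 := fun a b hab =>
    hT.diag hn h2' (symSI_sign δ) hodd hab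
  have hne := diag_ne_zero hd
  let i : Fin n := ⟨0, by omega⟩
  let j : Fin n := ⟨1, by omega⟩
  let x : Fin n := ⟨2, by omega⟩
  have hij : i ≠ j := by simp [i, j, Fin.ext_iff]
  have hxi : x ≠ i := by simp [i, x, Fin.ext_iff]
  have hxj : x ≠ j := by simp [j, x, Fin.ext_iff]
  have hδi := hδ i
  -- the subfield is fixed
  have hfix : ∀ t : F₀, τ (f (δ j * t ^ 2 / δ i)) = f (δ j * t ^ 2 / δ i) := by
    intro t
    set x₀ := δ j * t ^ 2 / δ i with hx₀
    by_cases ht : δ i + δ j * t ^ 2 = 0
    · have : x₀ = -1 := by rw [hx₀, div_eq_iff hδi]; linear_combination ht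
      rw [this, map_neg, map_one, map_neg, map_one]
    set v : V₀ := Pi.single i 1 + t • Pi.single j 1
    have hf : fD δ v v = δ i + δ j * t ^ 2 := by
      rw [fD, Fintype.sum_eq_add i j hij fun k hk => by simp [v, hk.1, hk.2]]
      simp only [v, Pi.add_apply, Pi.smul_apply, Pi.single_eq_same, Pi.single_eq_of_ne hij,
        Pi.single_eq_of_ne hij.symm, smul_eq_mul]
      ring
    obtain ⟨c, hc⟩ := hT _ (rotMat_mem δ (v := v) (hf ▸ ht) i)
    have hc1 : c = 1 := by
      have h := Twisted.entry hd hc x x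
      rw [rotMat_apply] at h
      simp [v, hxi, hxj] at h
      exact (mul_eq_right₀ (hne x)).1 h.symm
    have hjj := Twisted.entry hd hc j j
    rw [rotMat_apply, hf] at hjj
    simp [v, hij, hij.symm, hc1] at hjj
    simp only [map_ofNat] at hjj
    set A : F₀ := 1 - 2 / (δ i + δ j * t ^ 2) * t * (δ j * t)
    have hA : τ (f A) = f A := by
      refine mul_left_cancel₀ (hne j) ?_
      simp only [A, map_sub, map_one, map_mul, map_div₀, map_add, map_pow, map_ofNat]
      linear_combination hjj
    have hAx : x₀ * (A + 1) = 1 - A := by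
      simp only [A, hx₀]
      field_simp
      ring
    have hA1 : f (A + 1) ≠ 0 := by
      rw [map_ne_zero]
      intro h0
      rw [h0, mul_zero] at hAx
      exact h2 (by linear_combination h0 - hAx)
    have e : f x₀ * f (A + 1) = f (1 - A) := by rw [← map_mul, hAx]
    have e' : τ (f x₀) * τ (f (A + 1)) = τ (f (1 - A)) := by rw [← map_mul, e]
    rw [map_sub, map_sub, map_add, map_add, map_one, map_one, hA] at e'
    rw [map_add, map_one] at hA1
    rw [map_sub, map_add, map_one] at e
    exact mul_right_cancel₀ hA1 (e'.trans e.symm)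
  have hsq : ∀ t : F₀, τ (f (t ^ 2)) = f (t ^ 2) := by
    intro t
    have h1 := hfix 1
    have ht := hfix t
    rw [one_pow, mul_one] at h1
    rw [show δ j * t ^ 2 / δ i = δ j / δ i * t ^ 2 by ring, map_mul, map_mul, h1] at ht
    exact mul_left_cancel₀ (by rw [map_ne_zero]; exact div_ne_zero (hδ j) hδi) ht
  have hall : ∀ t : F₀, τ (f t) = f t := fun t => by
    refine mul_left_cancel₀ h2' ?_
    have e : (t + 1) ^ 2 - t ^ 2 - 1 = 2 * t := by ring
    have h : τ (f (2 * t)) = f (2 * t) := by rw [← e]; simp only [map_sub, map_one, hsq]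
    rwa [map_mul, map_mul, map_ofNat, map_ofNat] at h
  refine ⟨hall, g.val i i, eq_scalar_of_diag hd i ?_⟩
  intro a b hab
  have hent : ∀ {v : V₀} {c : F}, g.val * ((rotMat δ v a).map f).map τ = c • ((rotMat δ v a).map f * g.val) →
      fD δ v v ≠ 0 → ∀ k l, k ≠ l → l ≠ a → v k ≠ 0 → v l ≠ 0 → g.val k k = c * g.val l l := by
    intro v c hc hv k l hkl hla hk hl
    have h := Twisted.entry hd hc k l
    have hw : f (rotMat δ v a k l) ≠ 0 := by
      rw [map_ne_zero, rotMat_apply, if_neg hkl, if_neg hla, mul_one, zero_sub, neg_ne_zero]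
      exact mul_ne_zero (mul_ne_zero (div_ne_zero h2 hv) hk) (mul_ne_zero (hδ l) hl)
    rw [hall] at h
    exact mul_right_cancel₀ hw (by linear_combination h)
  by_cases hsum : δ a + δ b = 0
  · obtain ⟨y, hy⟩ : ∃ y : Fin n, y ∉ ({a, b} : Finset (Fin n)) := by
      by_contra hall'
      push Not at hall'
      have : Fintype.card (Fin n) ≤ ({a, b} : Finset (Fin n)).card := by
        rw [← Finset.card_univ]; exact Finset.card_le_card fun k _ => hall' k
      rw [Fintype.card_fin, Finset.card_pair hab] at this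
      omega
    simp only [Finset.mem_insert, Finset.mem_singleton, not_or] at hy
    set v : V₀ := Pi.single a 1 + Pi.single b 1 + Pi.single y 1
    have hv : fD δ v v ≠ 0 := by
      rw [fD, ← Finset.sum_subset (Finset.subset_univ {a, b, y}) (fun k _ hk => by
          simp only [Finset.mem_insert, Finset.mem_singleton, not_or] at hk
          simp [v, hk.1, hk.2.1, hk.2.2]),
        Finset.sum_insert (by simp [hab, Ne.symm hy.1]), Finset.sum_pair (Ne.symm hy.2)]
      simp [v, hab, hab.symm, hy.1, hy.2, Ne.symm hy.1, Ne.symm hy.2]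
      rw [← add_assoc, hsum, zero_add]
      exact hδ y
    obtain ⟨c, hc⟩ := hT _ (rotMat_mem δ hv a)
    have e1 := hent hc hv a b hab hab.symm (by simp [v, hab, Ne.symm hy.1]) (by simp [v, hab.symm, Ne.symm hy.2])
    have e2 := hent hc hv a y (Ne.symm hy.1) hy.1 (by simp [v, hab, Ne.symm hy.1]) (by simp [v, hy.1, hy.2])
    have e3 := hent hc hv y b hy.2 hab.symm (by simp [v, hy.1, hy.2]) (by simp [v, hab.symm, Ne.symm hy.2])
    have hc1 : c = 1 := by
      have hc0 : c ≠ 0 := fun h0 => hne a (by rw [e1, h0, zero_mul])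
      rw [e3, ← mul_assoc, e1] at e2
      exact mul_left_cancel₀ hc0 ((mul_right_cancel₀ (hne b) e2).symm.trans (mul_one c).symm)
    rw [e1, hc1, one_mul]
  · set v : V₀ := Pi.single a 1 + Pi.single b 1
    have hv : fD δ v v ≠ 0 := by
      rw [fD, Fintype.sum_eq_add a b hab fun k hk => by simp [v, hk.1, hk.2]]
      simpa [v, hab, hab.symm] using hsum
    obtain ⟨c, hc⟩ := hT _ (rotMat_mem δ hv a)
    obtain ⟨y, hy⟩ : ∃ y : Fin n, y ∉ ({a, b} : Finset (Fin n)) := by
      by_contra hall'
      push Not at hall'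
      have : Fintype.card (Fin n) ≤ ({a, b} : Finset (Fin n)).card := by
        rw [← Finset.card_univ]; exact Finset.card_le_card fun k _ => hall' k
      rw [Fintype.card_fin, Finset.card_pair hab] at this
      omega
    simp only [Finset.mem_insert, Finset.mem_singleton, not_or] at hy
    have hc1 : c = 1 := by
      have h := Twisted.entry hd hc y y
      rw [rotMat_apply] at h
      simp [v, hy.1, hy.2] at h
      exact (mul_eq_right₀ (hne y)).1 h.symm
    rw [hent hc hv a b hab hab.symm (by simp [v, hab]) (by simp [v, hab.symm]), hc1, one_mul]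

/-! ### Alternating forms -/

/-- The special isometries of `M`. -/
def AltSI (M : M₀) (W : M₀) : Prop := Wᵀ * M * W = M ∧ W.det = 1

theorem transv_altSI (M : M₀) (halt : ∀ v, v ⬝ᵥ (M *ᵥ v) = 0) (v : V₀) :
    AltSI M (1 + Matrix.vecMulVec v (v ᵥ* M)) := by
  have hanti : ∀ u w : V₀, u ⬝ᵥ (M *ᵥ w) = -(w ⬝ᵥ (M *ᵥ u)) := fun u w => by
    have h := halt (u + w)
    rw [Matrix.mulVec_add, dotProduct_add, add_dotProduct, add_dotProduct, halt, halt] at h
    linear_combination h
  refine ⟨bil_inj fun u w => ?_, ?_⟩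
  · rw [← bil_mulVec]
    have happ : ∀ u : V₀, (1 + Matrix.vecMulVec v (v ᵥ* M)) *ᵥ u = u + (v ⬝ᵥ (M *ᵥ u)) • v := fun u => by
      rw [Matrix.add_mulVec, Matrix.one_mulVec, Matrix.vecMulVec_mulVec, ← Matrix.dotProduct_mulVec]
      congr 1
      funext k
      simp [mul_comm]
    rw [happ, happ, Matrix.mulVec_add, Matrix.mulVec_smul, dotProduct_add, add_dotProduct, add_dotProduct,
      dotProduct_smul, dotProduct_smul, smul_dotProduct, smul_dotProduct, halt, hanti u v]
    simp only [smul_eq_mul]
    ring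
  · rw [Matrix.vecMulVec_eq Unit, Matrix.det_one_add_replicateCol_mul_replicateRow, ← Matrix.dotProduct_mulVec,
      halt, add_zero]

/-- **Rigidity for an alternating form.** -/
theorem twisted_alt (hn : 3 ≤ n) (M : M₀) (hM : M.det ≠ 0) (halt : ∀ v, v ⬝ᵥ (M *ᵥ v) = 0)
    (hT : Twisted (AltSI M) f τ g) : (∀ x, τ (f x) = f x) ∧ ∃ z : F, g.val = z • (1 : Mn) := by
  classical
  have hpar : ∀ v : V₀, v ≠ 0 → ∃ a : F, g.val *ᵥ (τ ∘ f ∘ v) = a • (f ∘ v) := by
    intro v hv
    obtain ⟨c, hc⟩ := hT _ (transv_altSI M halt v)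
    set φ : V₀ := v ᵥ* M
    have hφ : φ ≠ 0 := fun h0 => hv (Matrix.eq_zero_of_vecMul_eq_zero hM h0)
    set u : Fin n → F := g.val *ᵥ (τ ∘ f ∘ v)
    set ψ : Fin n → F := τ ∘ f ∘ φ
    have hl : g.val * (((1 : M₀) + Matrix.vecMulVec v φ).map f).map τ = g.val + Matrix.vecMulVec u ψ := by
      rw [Matrix.map_add _ (map_add f), Matrix.map_one f (map_zero f) (map_one f), Matrix.map_add _ (map_add τ),
        Matrix.map_one τ (map_zero τ) (map_one τ), Matrix.mul_add, Matrix.mul_one]
      congr 1
      rw [← Matrix.mul_vecMulVec]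
      congr 1
      ext a b
      simp [Matrix.vecMulVec, ψ]
    have hr : c • (((1 : M₀) + Matrix.vecMulVec v φ).map f * g.val) =
        c • g.val + c • Matrix.vecMulVec (f ∘ v) ((f ∘ φ) ᵥ* g.val) := by
      rw [Matrix.map_add _ (map_add f), Matrix.map_one f (map_zero f) (map_one f), Matrix.add_mul, Matrix.one_mul,
        smul_add]
      congr 2
      ext a b
      rw [Matrix.vecMulVec_apply, Matrix.mul_apply, Matrix.vecMul, dotProduct, Finset.mul_sum]
      refine Finset.sum_congr rfl fun l _ => ?_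
      simp only [Matrix.map_apply, Matrix.vecMulVec_apply, Function.comp_apply, map_mul, mul_assoc]
    rw [hl, hr] at hc
    set φ' := (f ∘ φ) ᵥ* g.val
    obtain ⟨b, hb⟩ : ∃ b, ψ b ≠ 0 := by
      obtain ⟨b, hb⟩ : ∃ b, φ b ≠ 0 := by
        by_contra hall; push Not at hall; exact hφ (funext hall)
      exact ⟨b, by simpa [ψ] using hb⟩
    -- the scalar is one
    have hc1 : c = 1 := by
      by_contra hc1
      obtain ⟨y, hy0, hyψ, hyφ⟩ : ∃ y : Fin n → F, y ≠ 0 ∧ ψ ⬝ᵥ y = 0 ∧ φ' ⬝ᵥ y = 0 := by
        let L : (Fin n → F) →ₗ[F] (Fin 2 → F) := (Matrix.of ![ψ, φ']).mulVecLin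
        have hker : LinearMap.ker L ≠ ⊥ := LinearMap.ker_ne_bot_of_finrank_lt (by simp; omega)
        obtain ⟨y, hy, hy0⟩ := Submodule.exists_mem_ne_zero_of_ne_bot hker
        exact ⟨y, hy0, congrFun hy 0, congrFun hy 1⟩
      have h := congrArg (fun A : Mn => A *ᵥ y) hc
      simp only [Matrix.add_mulVec, Matrix.smul_mulVec, Matrix.vecMulVec_mulVec, hyψ, hyφ] at h
      have h' : (1 - c) • (g.val *ᵥ y) = 0 := by
        rw [sub_smul, one_smul, sub_eq_zero]
        simpa using h
      exact hy0 (mulVec_eq_zero g ((smul_eq_zero.1 h').resolve_left (sub_ne_zero.2 (Ne.symm hc1))))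
    rw [hc1, one_smul, one_smul, add_right_inj] at hc
    refine ⟨φ' b / ψ b, funext fun a => ?_⟩
    have h := congrFun (congrFun hc a) b
    simp only [Matrix.vecMulVec_apply] at h
    rw [Pi.smul_apply, smul_eq_mul, div_mul_eq_mul_div, eq_div_iff hb, h, mul_comm]
  have hsingle : ∀ a : Fin n, (τ ∘ f ∘ (Pi.single a 1 : V₀)) = Pi.single a 1 ∧ (f ∘ (Pi.single a 1 : V₀)) = Pi.single a 1 :=
    fun a => ⟨funext fun k => by rcases eq_or_ne k a with rfl | h <;> simp [*],
      funext fun k => by rcases eq_or_ne k a with rfl | h <;> simp [*]⟩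
  have hd : ∀ a b : Fin n, a ≠ b → g.val a b = 0 := by
    intro a b hab
    obtain ⟨c, hc⟩ := hpar (Pi.single b 1) (by simp)
    rw [(hsingle b).1, (hsingle b).2] at hc
    simpa [hab] using congrFun hc a
  have hne := diag_ne_zero hd
  have hmul : ∀ (y : Fin n → F) k, (g.val *ᵥ y) k = g.val k k * y k := fun y k => by
    rw [Matrix.mulVec, dotProduct, Finset.sum_eq_single k (fun l _ hl => by rw [hd k l hl.symm, zero_mul]) (by simp)]
  have hline : ∀ i j : Fin n, i ≠ j → ∀ t : F₀, g.val j j * τ (f t) = g.val i i * f t := by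
    intro i j hij t
    obtain ⟨c, hc⟩ := hpar (Pi.single i 1 + t • Pi.single j 1) (fun e => by simpa [hij] using congrFun e i)
    have hi := congrFun hc i
    have hj := congrFun hc j
    rw [hmul] at hi hj
    simp [hij, hij.symm] at hi hj
    rw [hj, hi]
  let i0 : Fin n := ⟨0, by omega⟩
  let i1 : Fin n := ⟨1, by omega⟩
  have h01 : i0 ≠ i1 := by simp [i0, i1, Fin.ext_iff]
  have heq : ∀ a b : Fin n, a ≠ b → g.val a a = g.val b b := fun a b hab => by
    have h := hline b a hab.symm 1
    rwa [map_one, map_one, mul_one, mul_one] at h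
  refine ⟨fun x => ?_, g.val i0 i0, eq_scalar_of_diag hd i0 heq⟩
  have h := hline i0 i1 h01 x
  rw [heq i1 i0 h01.symm] at h
  exact mul_left_cancel₀ (hne i0) h

/-! ### Hermitian forms -/

/-- The special isometries of the standard hermitian form. -/
def HermSI (s : F ≃+* F) (W : Mn) : Prop := W * (W.map s)ᵀ = 1 ∧ W.det = 1

/-- The product of the unitary reflection along `v` with the one along `e i`. -/
def hrotMat (s : F ≃+* F) (v : Fin n → F) (i : Fin n) : Mn :=
  (1 - Matrix.vecMulVec ((2 / (v ⬝ᵥ (s ∘ v))) • v) (s ∘ v)) * Matrix.diagonal (Function.update 1 i (-1))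

theorem hrotMat_apply (s : F ≃+* F) (v : Fin n → F) (i k l : Fin n) :
    hrotMat s v i k l = ((if k = l then 1 else 0) - 2 / (v ⬝ᵥ (s ∘ v)) * v k * s (v l)) * (if l = i then -1 else 1) := by
  rw [hrotMat, Matrix.mul_diagonal, Matrix.sub_apply, Matrix.one_apply, Matrix.vecMulVec_apply, Pi.smul_apply,
    smul_eq_mul, Function.update_apply, Pi.one_apply, Function.comp_apply]

theorem hermSI_sign (s : F ≃+* F) (a b : Fin n) (hab : a ≠ b) :
    HermSI s (Matrix.diagonal fun k => if k = a ∨ k = b then (-1 : F) else 1) := by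
  constructor
  · rw [Matrix.diagonal_map (map_zero s), Matrix.diagonal_transpose, Matrix.diagonal_mul_diagonal, ← Matrix.diagonal_one]
    congr 1
    funext k
    split_ifs <;> simp
  · rw [Matrix.det_diagonal,
      ← Finset.prod_subset (Finset.subset_univ {a, b}) (fun k _ hk => by
        simp only [Finset.mem_insert, Finset.mem_singleton] at hk
        rw [if_neg hk]), Finset.prod_pair hab]
    simp

theorem hrotMat_mem (s : F ≃+* F) (hs : ∀ a, s (s a) = a) {v : Fin n → F} (hv : v ⬝ᵥ (s ∘ v) ≠ 0) (i : Fin n) :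
    HermSI s (hrotMat s v i) := by
  set N₀ := v ⬝ᵥ (s ∘ v) with hN₀
  set R : Mn := 1 - Matrix.vecMulVec ((2 / N₀) • v) (s ∘ v)
  have hfix : s N₀ = N₀ := by
    simp only [hN₀, dotProduct, map_sum, map_mul, Function.comp_apply, hs]
    exact Finset.sum_congr rfl fun k _ => mul_comm _ _
  have hR : R * (R.map s)ᵀ = 1 := by
    have hRs : (R.map s)ᵀ = R := by
      ext a b
      simp only [R, Matrix.transpose_apply, Matrix.map_apply, Matrix.sub_apply, Matrix.one_apply,
        Matrix.vecMulVec_apply, Pi.smul_apply, smul_eq_mul, Function.comp_apply, map_sub, map_mul, map_div₀, hs, hfix,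
        map_ofNat]
      rcases eq_or_ne a b with rfl | h
      · simp; ring
      · simp [h, h.symm]; ring
    rw [hRs]
    refine Matrix.ext_iff_mulVec.2 fun y => ?_
    have happ : ∀ y : Fin n → F, R *ᵥ y = y - (2 / N₀ * ((s ∘ v) ⬝ᵥ y)) • v := fun y => by
      simp only [R, Matrix.sub_mulVec, Matrix.one_mulVec, Matrix.vecMulVec_mulVec]
      congr 1
      funext k
      simp only [Pi.smul_apply, smul_eq_mul, op_smul_eq_smul]
      ring
    rw [← Matrix.mulVec_mulVec, happ y, Matrix.mulVec_sub, Matrix.mulVec_smul, happ y, happ v,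
      show (s ∘ v) ⬝ᵥ v = N₀ from dotProduct_comm _ _, Matrix.one_mulVec]
    funext k
    simp only [Pi.sub_apply, Pi.smul_apply, smul_eq_mul]
    field_simp
    ring
  have hS : (Matrix.diagonal (Function.update 1 i (-1)) : Mn) *
      (((Matrix.diagonal (Function.update 1 i (-1)) : Mn)).map s)ᵀ = 1 := by
    rw [Matrix.diagonal_map (map_zero s), Matrix.diagonal_transpose, Matrix.diagonal_mul_diagonal, ← Matrix.diagonal_one]
    congr 1
    funext k
    rcases eq_or_ne k i with rfl | h <;> simp [*]
  constructor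
  · show R * _ * ((R * _).map s)ᵀ = 1
    rw [Matrix.map_mul, Matrix.transpose_mul, ← Matrix.mul_assoc, Matrix.mul_assoc R, hS, Matrix.mul_one, hR]
  · rw [hrotMat, Matrix.det_mul, det_one_sub_vecMulVec, Matrix.det_diagonal,
      Finset.prod_update_of_mem (Finset.mem_univ i), dotProduct_smul]
    simp only [Pi.one_apply, Finset.prod_const_one, smul_eq_mul, mul_one]
    rw [dotProduct_comm (s ∘ v) v, ← hN₀]
    field_simp
    ring

/-- **Rigidity for the hermitian form.** -/
theorem twisted_herm (hn : 3 ≤ n) (h2 : (2 : F) ≠ 0) (s : F ≃+* F) (hs : ∀ a, s (s a) = a)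
    (hT : Twisted (HermSI s) (RingHom.id F) τ g)
    (hodd : ∃ k : ℕ, Odd k ∧ ∃ z : F, (FieldExt.twistNorm τ g k).val = z • (1 : Mn)) :
    τ = 1 ∧ ∃ z : F, g.val = z • (1 : Mn) := by
  classical
  have hd : ∀ a b : Fin n, a ≠ b → g.val a b = 0 := fun a b hab =>
    hT.diag hn h2 (hermSI_sign s) hodd hab
  have hne := diag_ne_zero hd
  -- the entry `(i, j)` of the rotation along `e i + t e j`
  have key : ∀ i j : Fin n, i ≠ j → ∀ t : F, 1 + t * s t ≠ 0 →
      g.val i i * τ (2 / (1 + t * s t) * s t) = 2 / (1 + t * s t) * s t * g.val j j ∧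
        g.val j j * τ (2 / (1 + t * s t) * t) = 2 / (1 + t * s t) * t * g.val i i ∧
          τ (1 - 2 / (1 + t * s t) * t * s t) = 1 - 2 / (1 + t * s t) * t * s t := by
    intro i j hij t ht
    set v : Fin n → F := Pi.single i 1 + t • Pi.single j 1
    have hN : v ⬝ᵥ (s ∘ v) = 1 + t * s t := by
      rw [dotProduct, Fintype.sum_eq_add i j hij fun k hk => by simp [v, hk.1, hk.2]]
      simp [v, hij, hij.symm]
    obtain ⟨c, hc⟩ := hT _ (hrotMat_mem s hs (v := v) (hN ▸ ht) i)
    obtain ⟨x, hx⟩ : ∃ x : Fin n, x ∉ ({i, j} : Finset (Fin n)) := by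
      by_contra hall
      push Not at hall
      have : Fintype.card (Fin n) ≤ ({i, j} : Finset (Fin n)).card := by
        rw [← Finset.card_univ]; exact Finset.card_le_card fun k _ => hall k
      rw [Fintype.card_fin, Finset.card_pair hij] at this
      omega
    simp only [Finset.mem_insert, Finset.mem_singleton, not_or] at hx
    have hc1 : c = 1 := by
      have h := Twisted.entry hd hc x x
      rw [hrotMat_apply] at h
      simp [v, hx.1, hx.2] at h
      exact (mul_eq_right₀ (hne x)).1 h.symm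
    have h1 := Twisted.entry hd hc i j
    have h3 := Twisted.entry hd hc j i
    have h4 := Twisted.entry hd hc j j
    rw [hrotMat_apply, hN] at h1 h3 h4
    simp [v, hij, hij.symm, hc1] at h1 h3 h4
    simp only [map_ofNat] at h1 h3 h4
    simp only [map_mul, map_div₀, map_add, map_sub, map_one, map_ofNat]
    exact ⟨by linear_combination h1, by linear_combination h3,
      mul_left_cancel₀ (hne j) (by linear_combination h4)⟩
  have heq : ∀ i j : Fin n, i ≠ j → g.val i i = g.val j j := fun i j hij => by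
    have h11 : (1 : F) + 1 * s 1 ≠ 0 := by rw [map_one, one_mul, one_add_one_eq_two]; exact h2
    have h := (key i j hij 1 h11).1
    rw [map_one, one_mul, mul_one, one_add_one_eq_two, div_self h2, map_one, mul_one, one_mul] at h
    exact h
  let i : Fin n := ⟨0, by omega⟩
  let j : Fin n := ⟨1, by omega⟩
  have hij : i ≠ j := by simp [i, j, Fin.ext_iff]
  have hgen : ∀ t : F, 1 + t * s t ≠ 0 → τ (2 / (1 + t * s t) * t) = 2 / (1 + t * s t) * t := by
    intro t ht
    have h := (key i j hij t ht).2.1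
    rw [heq i j hij] at h
    exact mul_left_cancel₀ (hne j) (by linear_combination h)
  have hnorm : ∀ t : F, 1 + t * s t ≠ 0 → τ t = t := by
    intro t ht
    have hA := (key i j hij t ht).2.2
    have hu := hgen t ht
    set N₁ := 1 + t * s t with hN₁
    have hA' : 1 - 2 / N₁ * t * s t = -1 + 2 / N₁ := by field_simp; rw [hN₁]; ring
    have hinv : τ (2 / N₁) = 2 / N₁ := by
      rw [hA', map_add, map_neg, map_one] at hA
      exact add_left_cancel hA
    rw [map_mul, hinv] at hu
    exact mul_left_cancel₀ (div_ne_zero h2 ht) hu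
  refine ⟨RingEquiv.ext fun t => ?_, g.val i i, eq_scalar_of_diag hd i heq⟩
  show τ t = t
  by_cases ht : 1 + t * s t = 0
  · by_cases htp : 1 + (t + 1) * s (t + 1) = 0
    · have htm : 1 + (t - 1) * s (t - 1) ≠ 0 := by
        intro h
        rw [map_add, map_one] at htp
        rw [map_sub, map_one] at h
        exact h2 (by linear_combination h + htp - 2 * ht)
      have h := hnorm _ htm
      rw [map_sub, map_one] at h
      exact sub_left_inj.1 h
    · have h := hnorm _ htp
      rw [map_add, map_one] at h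
      exact add_right_cancel h
  · exact hnorm t ht

end Cfsg.Agent.LocalBalance
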