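import Cfsg.Agent.Lib.LocalBalance.GraphFix

/-!
Coordinate-free forms of the two rigidity statements for nondegenerate symmetric forms: odd similitude groups
normalised by all isometries are scalar, and semilinear maps fixing enough anisotropic lines are scalar.
-/

set_option autoImplicit false
set_option maxHeartbeats 400000
set_option linter.unusedSectionVars false

namespace Cfsg.Agent.LocalBalance

open Module (finrank)
open scoped Matrix MatrixGroups

variable {E W : Type*} [Field E] [AddCommGroup W] [Module E W]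

section Perp

variable [Fintype E] [FiniteDimensional E W]

/-- Symmetric forms in dimension two and more are universal. -/
theorem exists_value_two (h2 : (2 : E) ≠ 0) (B : LinearMap.BilinForm E W) (hB : B.Nondegenerate)
    (hs : ∀ x y, B x y = B y x) (hd : 2 ≤ finrank E W) (e : E) : ∃ u, B u u = e := by
  classical
  haveI : Invertible (2 : E) := invertibleOfNonzero h2
  obtain ⟨b, hb⟩ := LinearMap.BilinForm.exists_orthogonal_basis (B := B) ⟨fun x y => hs x y⟩
  have hne := LinearMap.BilinForm.iIsOrtho.not_isOrtho_basis_self_of_nondegenerate hb hB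
  let i : Fin (finrank E W) := ⟨0, by omega⟩
  let j : Fin (finrank E W) := ⟨1, by omega⟩
  have hij : i ≠ j := by simp [i, j, Fin.ext_iff]
  have hdi : B (b i) (b i) ≠ 0 := hne i
  have hdj : B (b j) (b j) ≠ 0 := hne j
  have hodd : Fintype.card E % 2 = 1 := FiniteField.odd_card_of_char_ne_two fun h =>
    h2 (by
      haveI := ringChar.charP E
      exact_mod_cast (CharP.cast_eq_zero_iff E (ringChar E) 2).2 (by rw [h]))
  obtain ⟨x, y, hxy⟩ := FiniteField.exists_root_sum_quadratic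
    (f := Polynomial.C (B (b i) (b i)) * Polynomial.X ^ 2)
    (g := Polynomial.C (B (b j) (b j)) * Polynomial.X ^ 2 - Polynomial.C e)
    (Polynomial.degree_C_mul_X_pow 2 hdi)
    (by
      rw [Polynomial.degree_sub_eq_left_of_degree_lt (by
        rw [Polynomial.degree_C_mul_X_pow 2 hdj]
        exact lt_of_le_of_lt Polynomial.degree_C_le (by norm_num))]
      exact Polynomial.degree_C_mul_X_pow 2 hdj) hodd
  refine ⟨x • b i + y • b j, ?_⟩
  have h1 : B (b i) (b j) = 0 := hb hij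
  simp only [map_add, map_smul, LinearMap.add_apply, LinearMap.smul_apply, smul_eq_mul, h1,
    (hs _ _).trans h1]
  simp at hxy
  linear_combination hxy

/-- The orthogonal complement of an anisotropic vector. -/
theorem perp_facts (B : LinearMap.BilinForm E W) (hB : B.Nondegenerate) (hs : ∀ x y, B x y = B y x) {v : W}
    (hv : B v v ≠ 0) :
    (B.restrict (B.orthogonal (E ∙ v))).Nondegenerate ∧
      finrank E (B.orthogonal (E ∙ v)) = finrank E W - 1 ∧ ∀ x, x ∈ B.orthogonal (E ∙ v) ↔ B v x = 0 := by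
  have hr : B.IsRefl := fun x y h => by rw [hs, h]
  refine ⟨LinearMap.BilinForm.restrict_nondegenerate_orthogonal_spanSingleton B hB hr hv, ?_, fun x => ?_⟩
  · rw [LinearMap.BilinForm.finrank_orthogonal hB, finrank_span_singleton fun h => hv (by simp [h])]
  · rw [LinearMap.BilinForm.orthogonal_span_singleton_eq_toLin_ker]
    rfl

theorem exists_perp_one (h2 : (2 : E) ≠ 0) (B : LinearMap.BilinForm E W) (hB : B.Nondegenerate)
    (hs : ∀ x y, B x y = B y x) {v : W} (hv : B v v ≠ 0) (hd : 3 ≤ finrank E W) (e : E) :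
    ∃ u, B u u = e ∧ B v u = 0 := by
  obtain ⟨hn, hf, hm⟩ := perp_facts B hB hs hv
  obtain ⟨u, hu⟩ := exists_value_two h2 _ hn (fun x y => hs x.1 y.1) (by omega) e
  exact ⟨u.1, hu, (hm _).1 u.2⟩

theorem exists_perp_two (h2 : (2 : E) ≠ 0) (B : LinearMap.BilinForm E W) (hB : B.Nondegenerate)
    (hs : ∀ x y, B x y = B y x) {v w : W} (hv : B v v ≠ 0) (hw : B w w ≠ 0) (hvw : B v w = 0)
    (hd : 4 ≤ finrank E W) (e : E) : ∃ u, B u u = e ∧ B v u = 0 ∧ B w u = 0 := by
  obtain ⟨hn, hf, hm⟩ := perp_facts B hB hs hv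
  obtain ⟨u, hu, hwu⟩ := exists_perp_one h2 _ hn (fun x y => hs x.1 y.1) (v := ⟨w, (hm w).2 hvw⟩) hw
    (by omega) e
  exact ⟨u.1, hu, (hm _).1 u.2, hwu⟩

theorem exists_perp_three (h2 : (2 : E) ≠ 0) (B : LinearMap.BilinForm E W) (hB : B.Nondegenerate)
    (hs : ∀ x y, B x y = B y x) {v w z : W} (hv : B v v ≠ 0) (hw : B w w ≠ 0) (hz : B z z ≠ 0) (hvw : B v w = 0)
    (hvz : B v z = 0) (hwz : B w z = 0) (hd : 5 ≤ finrank E W) (e : E) :
    ∃ u, B u u = e ∧ B v u = 0 ∧ B w u = 0 ∧ B z u = 0 := by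
  obtain ⟨hn, hf, hm⟩ := perp_facts B hB hs hv
  obtain ⟨u, hu, hwu, hzu⟩ := exists_perp_two h2 _ hn (fun x y => hs x.1 y.1) (v := ⟨w, (hm w).2 hvw⟩)
    (w := ⟨z, (hm z).2 hvz⟩) hw hz hwz (by omega) e
  exact ⟨u.1, hu, (hm _).1 u.2, hwu, hzu⟩

end Perp

section Lines

variable (B : LinearMap.BilinForm E W)

theorem coeff_of_perp {v w : W} (hs : ∀ x y, B x y = B y x) (hw : B w w ≠ 0) (hvw : B v w = 0) {a b : E}
    (h : a • v + b • w = 0) : b = 0 := by
  have h' := congrArg (B w) h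
  simp only [map_add, map_smul, smul_eq_mul, (hs w v).trans hvw, map_zero, mul_zero, zero_add] at h'
  exact (mul_eq_zero.1 h').resolve_right hw

/-- A combination of eigenvectors that is an eigenvector. -/
theorem eq_of_pair (hs : ∀ x y, B x y = B y x) {T : W → W} (hadd : ∀ x y, T (x + y) = T x + T y) (π : E → E)
    (hsmul : ∀ (c : E) x, T (c • x) = π c • T x) {v w : W} {α β γ c : E} (hv : T v = α • v) (hw : T w = β • w)
    (hvv : B v v ≠ 0) (hww : B w w ≠ 0) (hvw : B v w = 0) (h : T (v + c • w) = γ • (v + c • w)) :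
    γ = α ∧ π c * β = α * c := by
  rw [hadd, hsmul, hv, hw, smul_add, smul_smul, smul_smul] at h
  have h0 : (α - γ) • v + (π c * β - γ * c) • w = 0 := by
    rw [sub_smul, sub_smul, sub_add_sub_comm, h, sub_self]
  have e2 := sub_eq_zero.1 (coeff_of_perp B hs hww hvw h0)
  have e1 := sub_eq_zero.1 (coeff_of_perp B hs hvv ((hs w v).trans hvw) ((add_comm _ _).trans h0))
  exact ⟨e1.symm, by rw [e2, e1]⟩

/-- Three orthogonal eigenvectors with an eigenvector for their sum. -/
theorem eq_of_triple (hs : ∀ x y, B x y = B y x) {T : W → W} (hadd : ∀ x y, T (x + y) = T x + T y)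
    {v w z : W} {α β δ γ : E} (hv : T v = α • v) (hw : T w = β • w) (hz : T z = δ • z)
    (hvv : B v v ≠ 0) (hww : B w w ≠ 0) (hzz : B z z ≠ 0) (hvw : B v w = 0) (hvz : B v z = 0) (hwz : B w z = 0)
    (h : T (v + w + z) = γ • (v + w + z)) : α = β := by
  rw [hadd, hadd, hv, hw, hz] at h
  have e1 := congrArg (B v) h
  have e2 := congrArg (B w) h
  simp only [map_add, map_smul, smul_eq_mul, hvw, hvz, hwz, (hs w v).trans hvw, mul_zero, add_zero,
    zero_add] at e1 e2
  rw [mul_right_cancel₀ hvv e1, mul_right_cancel₀ hww e2]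

/-- A semilinear map fixing every anisotropic line of an orthogonal basis and of their short combinations. -/
theorem scalar_of_basis [FiniteDimensional E W] (h2 : (2 : E) ≠ 0) (hB : B.Nondegenerate)
    (hs : ∀ x y, B x y = B y x) (hd : finrank E W ≠ 2) {T : W → W} (hadd : ∀ x y, T (x + y) = T x + T y)
    (hsmul : ∀ (c : E) x, T (c • x) = c • T x) (hline : ∀ v, B v v ≠ 0 → ∃ α : E, T v = α • v) :
    ∃ α : E, ∀ v, T v = α • v := by
  classical
  haveI : Invertible (2 : E) := invertibleOfNonzero h2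
  obtain ⟨b, hb⟩ := LinearMap.BilinForm.exists_orthogonal_basis (B := B) ⟨fun x y => hs x y⟩
  have hne : ∀ i, B (b i) (b i) ≠ 0 :=
    LinearMap.BilinForm.iIsOrtho.not_isOrtho_basis_self_of_nondegenerate hb hB
  choose α hα using fun i => hline _ (hne i)
  have hlink : ∀ i j, α i = α j := by
    intro i j
    rcases eq_or_ne i j with rfl | hij
    · rfl
    have h1 : B (b i) (b j) = 0 := hb hij
    by_cases hsum : B (b i) (b i) + B (b j) (b j) = 0
    · obtain ⟨l, hli, hlj⟩ : ∃ l, l ≠ i ∧ l ≠ j := by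
        have h3 : 2 < (Finset.univ : Finset (Fin (finrank E W))).card := by
          rw [Finset.card_univ, Fintype.card_fin]
          have := Finset.card_le_univ ({i, j} : Finset (Fin (finrank E W)))
          rw [Finset.card_pair hij, Fintype.card_fin] at this
          omega
        obtain ⟨l, -, hl⟩ := Finset.exists_mem_notMem_of_card_lt_card
          (s := ({i, j} : Finset _)) (t := Finset.univ) (by rw [Finset.card_pair hij]; exact h3)
        simp at hl
        exact ⟨l, hl.1, hl.2⟩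
      have h2' : B (b i) (b l) = 0 := hb hli.symm
      have h3' : B (b j) (b l) = 0 := hb hlj.symm
      obtain ⟨γ, hγ⟩ := hline (b i + b j + b l) (by
        simp only [map_add, LinearMap.add_apply, h1, h2', h3', (hs _ _).trans h1, (hs _ _).trans h2',
          (hs _ _).trans h3', add_zero, zero_add, hsum]
        exact hne l)
      exact eq_of_triple B hs hadd (hα i) (hα j) (hα l) (hne i) (hne j) (hne l) h1 h2' h3' hγ
    · obtain ⟨γ, hγ⟩ := hline (b i + (1 : E) • b j) (by
        simp only [map_add, one_smul, LinearMap.add_apply, h1, (hs _ _).trans h1, add_zero, zero_add]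
        exact hsum)
      have := (eq_of_pair B hs hadd id hsmul (hα i) (hα j) (hne i) (hne j) h1 hγ).2
      simpa using this.symm
  rcases isEmpty_or_nonempty (Fin (finrank E W)) with hI | ⟨⟨i0⟩⟩
  · exact ⟨1, fun v => by
      rw [one_smul]
      haveI := Module.finrank_zero_iff (R := E) (M := W) |>.1 (by
        have := Fintype.card_eq_zero_iff.2 hI
        rwa [Fintype.card_fin] at this)
      exact Subsingleton.elim _ _⟩
  refine ⟨α i0, fun v => ?_⟩
  let L : W →ₗ[E] W := { toFun := T, map_add' := hadd, map_smul' := hsmul }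
  have : L = α i0 • LinearMap.id := b.ext fun i => by
    simp only [LinearMap.smul_apply, LinearMap.id_apply, hlink i0 i]
    exact hα i
  exact LinearMap.congr_fun this v

end Lines

section Good

variable [Fintype E] [FiniteDimensional E W] {F : Type*} [Field F]

/-- A semilinear map fixing every line whose value lies in `d₀ F` is scalar and linear. -/
theorem scalar_of_good (h2 : (2 : E) ≠ 0) (B : LinearMap.BilinForm E W) (hB : B.Nondegenerate)
    (hs : ∀ x y, B x y = B y x) (hd : 5 ≤ finrank E W) (f : F →+* E) (θ : E) {μ : F} (hθ : θ * θ = f μ)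
    (hμ : μ ≠ 0) (hgen : ∀ e : E, ∃ x y : F, e = f x + f y * θ) {d₀ : E} (hd₀ : d₀ ≠ 0) {T : W → W}
    (hadd : ∀ x y, T (x + y) = T x + T y) (π : E →+* E) (hsmul : ∀ (c : E) x, T (c • x) = π c • T x)
    (hinj : ∀ x, T x = 0 → x = 0)
    (hline : ∀ v, (∃ x : F, x ≠ 0 ∧ B v v = d₀ * f x) → ∃ α : E, T v = α • v) :
    (∀ c, π c = c) ∧ ∃ α : E, ∀ v, T v = α • v := by
  have hgood : ∀ v : W, B v v = d₀ → ∃ α : E, T v = α • v := fun v hv =>
    hline v ⟨1, one_ne_zero, by rw [map_one, mul_one, hv]⟩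
  have hnz : ∀ {v : W} {x : F}, x ≠ 0 → B v v = d₀ * f x → B v v ≠ 0 := fun hx h => by
    rw [h]; exact mul_ne_zero hd₀ ((map_ne_zero f).2 hx)
  -- orthogonal good vectors have the same eigenvalue
  have link : ∀ {v w : W} {x y : F} {α β : E}, x ≠ 0 → y ≠ 0 → B v v = d₀ * f x → B w w = d₀ * f y → B v w = 0 →
      T v = α • v → T w = β • w → α = β := by
    intro v w x y α β hx hy hv hw hvw hα hβ
    by_cases hsum : x + y = 0
    · obtain ⟨z, hz, hvz, hwz⟩ := exists_perp_two h2 B hB hs (hnz hx hv) (hnz hy hw) hvw (by omega) d₀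
      obtain ⟨δ, hδ⟩ := hgood z hz
      have hval : B (v + w + z) (v + w + z) = d₀ := by
        simp only [map_add, LinearMap.add_apply, hvw, hvz, hwz, (hs w v).trans hvw, (hs z v).trans hvz,
          (hs z w).trans hwz, add_zero, zero_add, hv, hw, hz]
        rw [← mul_add, ← map_add, hsum, map_zero, mul_zero, zero_add]
      obtain ⟨γ, hγ⟩ := hgood _ hval
      exact eq_of_triple B hs hadd hα hβ hδ (hnz hx hv) (hnz hy hw) (by rw [hz]; exact hd₀) hvw hvz hwz hγ
    · obtain ⟨γ, hγ⟩ := hline (v + (1 : E) • w) ⟨x + y, hsum, by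
        simp only [map_add, one_smul, LinearMap.add_apply, hvw, (hs w v).trans hvw, add_zero, zero_add, hv, hw,
          mul_add]⟩
      have := (eq_of_pair B hs hadd π hsmul hα hβ (hnz hx hv) (hnz hy hw) hvw hγ).2
      simpa using this.symm
  -- the scalars from `F`
  have hf : ∀ c : F, π (f c) = f c := by
    intro c
    rcases eq_or_ne c 0 with rfl | hc
    · simp
    obtain ⟨y, hy0, hy1, hy2⟩ : ∃ y : F, y ≠ 0 ∧ 1 + y ≠ 0 ∧ 1 + c * c * y ≠ 0 := by
      have h20 : (2 : F) ≠ 0 := fun h => h2 (by rw [← map_ofNat f 2, h, map_zero])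
      by_cases hcc : 1 + c * c = 0
      · refine ⟨c, hc, fun h => h20 ?_, fun h => h20 ?_⟩
        · linear_combination hcc + (1 - c) * h
        · have hc1 : c = 1 := by linear_combination c * hcc - h
          subst hc1
          linear_combination h
      · exact ⟨1, one_ne_zero, by rw [one_add_one_eq_two]; exact h20, by rwa [mul_one]⟩
    obtain ⟨v, hv⟩ := exists_value_two h2 B hB hs (by omega) d₀
    obtain ⟨w, hw, hvw⟩ := exists_perp_one h2 B hB hs (v := v) (by rw [hv]; exact hd₀) (by omega) (d₀ * f y)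
    obtain ⟨α, hα⟩ := hgood v hv
    obtain ⟨β, hβ⟩ := hline w ⟨y, hy0, hw⟩
    have hv' : B v v = d₀ * f 1 := by rw [map_one, mul_one, hv]
    have hαβ := link one_ne_zero hy0 hv' hw hvw hα hβ
    obtain ⟨γ, hγ⟩ := hline (v + f c • w) ⟨1 + c * c * y, hy2, by
      simp only [map_add, map_smul, LinearMap.add_apply, LinearMap.smul_apply, smul_eq_mul, hvw,
        (hs w v).trans hvw, hv, hw, map_one, map_mul]
      ring⟩
    have h := (eq_of_pair B hs hadd π hsmul hα hβ (hnz one_ne_zero hv') (hnz hy0 hw) hvw hγ).2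
    rw [← hαβ, mul_comm α] at h
    exact mul_right_cancel₀ (fun h0 => hd₀ (by
      rw [← hv, hinj v (by rw [hα, h0, zero_smul]), map_zero])) h
  -- the eigenvalue seen from an orthogonal good vector
  obtain ⟨v₀, hv₀⟩ := exists_value_two h2 B hB hs (by omega) d₀
  obtain ⟨α₀, hα₀⟩ := hgood v₀ hv₀
  have hv₀' : B v₀ v₀ = d₀ * f 1 := by rw [map_one, mul_one, hv₀]
  have hθ' : π θ = θ := by
    obtain ⟨w, hw, hvw⟩ := exists_perp_one h2 B hB hs (v := v₀) (by rw [hv₀]; exact hd₀) (by omega) d₀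
    obtain ⟨β, hβ⟩ := hgood w hw
    have hw' : B w w = d₀ * f 1 := by rw [map_one, mul_one, hw]
    have hab := link one_ne_zero one_ne_zero hv₀' hw' hvw hα₀ hβ
    have hθv : B (θ • v₀) (θ • v₀) = d₀ * f μ := by
      simp only [map_smul, LinearMap.smul_apply, smul_eq_mul, hv₀, ← hθ]; ring
    obtain ⟨γ, hγ⟩ := hline _ ⟨μ, hμ, hθv⟩
    have hgb := link hμ one_ne_zero hθv hw' (by rw [map_smul, LinearMap.smul_apply, hvw, smul_zero]) hγ hβ
    rw [hsmul, hα₀, hgb, ← hab, smul_smul, smul_smul] at hγ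
    have h0 : v₀ ≠ 0 := fun e => hd₀ (by rw [← hv₀, e, map_zero])
    rw [mul_comm α₀] at hγ
    exact mul_right_cancel₀ (fun e => h0 (hinj _ (by rw [hα₀, e, zero_smul]))) (smul_left_injective E h0 hγ)
  have hπ : ∀ c, π c = c := fun c => by
    obtain ⟨x, y, rfl⟩ := hgen c
    rw [map_add, map_mul, hf, hf, hθ']
  refine ⟨hπ, scalar_of_basis B h2 hB hs (by omega) hadd (fun c x => by rw [hsmul, hπ]) fun e he => ?_⟩
  obtain ⟨u₁, hu₁, heu₁⟩ := exists_perp_one h2 B hB hs he (by omega) d₀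
  obtain ⟨u₂, hu₂, heu₂, hu₁₂⟩ := exists_perp_two h2 B hB hs he (by rw [hu₁]; exact hd₀) heu₁ (by omega) d₀
  obtain ⟨u₃, hu₃, heu₃, hu₁₃, hu₂₃⟩ := exists_perp_three h2 B hB hs he (by rw [hu₁]; exact hd₀)
    (by rw [hu₂]; exact hd₀) heu₁ heu₂ hu₁₂ (by omega) d₀
  obtain ⟨a₁, ha₁⟩ := hgood u₁ hu₁
  obtain ⟨a₂, ha₂⟩ := hgood u₂ hu₂
  obtain ⟨a₃, ha₃⟩ := hgood u₃ hu₃
  have hu₁' : B u₁ u₁ = d₀ * f 1 := by rw [map_one, mul_one, hu₁]
  have hu₂' : B u₂ u₂ = d₀ * f 1 := by rw [map_one, mul_one, hu₂]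
  have hu₃' : B u₃ u₃ = d₀ * f 1 := by rw [map_one, mul_one, hu₃]
  obtain ⟨s, t, hst⟩ : ∃ s t : E, B e e + d₀ * (s * s + t * t) = d₀ := by
    obtain ⟨x, y, hxy⟩ := FiniteField.exists_root_sum_quadratic (f := Polynomial.X ^ 2)
      (g := Polynomial.X ^ 2 - Polynomial.C (1 - B e e / d₀)) (Polynomial.degree_X_pow 2)
      (Polynomial.degree_X_pow_sub_C (by norm_num) _)
      (FiniteField.odd_card_of_char_ne_two fun h => h2 (by
        haveI := ringChar.charP E
        exact_mod_cast (CharP.cast_eq_zero_iff E (ringChar E) 2).2 (by rw [h])))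
    refine ⟨x, y, ?_⟩
    simp at hxy
    field_simp at hxy
    linear_combination hxy
  have hx : B (e + s • u₁ + t • u₂) (e + s • u₁ + t • u₂) = d₀ := by
    simp only [map_add, map_smul, LinearMap.add_apply, LinearMap.smul_apply, smul_eq_mul, heu₁, heu₂, hu₁₂,
      (hs _ _).trans heu₁, (hs _ _).trans heu₂, (hs _ _).trans hu₁₂, hu₁, hu₂]
    linear_combination hst
  obtain ⟨γ, hγ⟩ := hgood _ hx
  have e12 := link one_ne_zero one_ne_zero hu₁' hu₂' hu₁₂ ha₁ ha₂
  have e13 := link one_ne_zero one_ne_zero hu₁' hu₃' hu₁₃ ha₁ ha₃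
  have eγ := link one_ne_zero one_ne_zero (by rw [map_one, mul_one, hx]) hu₃'
    (by simp [heu₃, hu₁₃, hu₂₃]) hγ ha₃
  refine ⟨a₁, ?_⟩
  rw [hadd, hadd, hsmul, hsmul, hπ, hπ, ha₁, ha₂, ← e12, eγ, ← e13, smul_comm s a₁, smul_comm t a₁, smul_add,
    smul_add] at hγ
  exact add_right_cancel (add_right_cancel hγ)

end Good

section Odd

variable [Fintype E] [FiniteDimensional E W]

/-- An odd group of similitudes normalised by all isometries consists of scalars. -/
theorem odd_bilin (h2 : (2 : E) ≠ 0) (B : LinearMap.BilinForm E W) (hB : B.Nondegenerate)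
    (hs : ∀ x y, B x y = B y x) (hd : finrank E W ≠ 2) (N : Subgroup (W ≃ₗ[E] W))
    (hsim : ∀ d ∈ N, ∃ c : E, c ≠ 0 ∧ ∀ x y, B (d x) (d y) = c * B x y)
    (hnorm : ∀ w : W ≃ₗ[E] W, (∀ x y, B (w x) (w y) = B x y) → ∀ d ∈ N, w * d * w⁻¹ ∈ N)
    (hodd : ∀ d ∈ N, ∃ k : ℕ, Odd k ∧ ∃ c : E, ∀ x, (d ^ k) x = c • x) :
    ∀ d ∈ N, ∃ c : E, ∀ x, d x = c • x := by
  classical
  intro d₀ hd₀
  let b := Module.finBasis E W
  by_cases h3 : finrank E W ≤ 1
  · obtain ⟨v, hv⟩ := finrank_le_one_iff.1 h3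
    obtain ⟨c, hc⟩ := hv (d₀ v)
    refine ⟨c, fun x => ?_⟩
    obtain ⟨a, rfl⟩ := hv x
    rw [map_smul, ← hc, smul_comm]
  let φ : (W ≃ₗ[E] W) →* GL (Fin (finrank E W)) E :=
    (Units.map (LinearMap.toMatrixAlgEquiv b).toRingEquiv.toRingHom.toMonoidHom).comp
      (LinearMap.GeneralLinearGroup.generalLinearEquiv E W).symm.toMonoidHom
  have hφ : ∀ w : W ≃ₗ[E] W, (φ w).val = LinearMap.toMatrix b b (w : W →ₗ[E] W) := fun w => rfl
  set M := LinearMap.BilinForm.toMatrix b B
  have hform : ∀ (w : W ≃ₗ[E] W) (c : E), (φ w).valᵀ * M * (φ w).val = c • M ↔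
      ∀ x y, B (w x) (w y) = c * B x y := by
    intro w c
    rw [hφ, ← LinearMap.BilinForm.toMatrix_comp b, ← map_smul, EmbeddingLike.apply_eq_iff_eq]
    exact ⟨fun h x y => LinearMap.congr_fun₂ h x y, fun h => LinearMap.ext₂ fun x y => h x y⟩
  have hlift : ∀ m : GL (Fin (finrank E W)) E, ∃ w, φ w = m := by
    intro m
    refine ⟨LinearMap.GeneralLinearGroup.generalLinearEquiv E W
      (Units.map (LinearMap.toMatrixAlgEquiv b).symm.toRingEquiv.toRingHom.toMonoidHom m), Units.ext ?_⟩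
    show LinearMap.toMatrixAlgEquiv b ((LinearMap.toMatrixAlgEquiv b).symm m.val) = m.val
    exact AlgEquiv.apply_symm_apply _ _
  have key := LocalBalance.odd_simM (n := finrank E W) (by omega) h2 M
    ((LinearMap.BilinForm.nondegenerate_iff_det_ne_zero b).1 hB) (ε := 1) (Or.inl rfl)
    (by
      rw [one_smul]; ext i j
      show M j i = M i j
      exact (LinearMap.BilinForm.toMatrix_apply b B j i).trans ((hs _ _).trans
        (LinearMap.BilinForm.toMatrix_apply b B i j).symm))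
    (N.map φ)
    (by
      rintro _ ⟨w, hw, rfl⟩
      obtain ⟨c, hc0, hc⟩ := hsim w hw
      exact GraphAut.mem_simM.2 ⟨Units.mk0 c hc0, (hform w c).2 hc⟩)
    (by
      rintro m hm _ ⟨w, hw, rfl⟩
      obtain ⟨i, rfl⟩ := hlift m
      refine ⟨i * w * i⁻¹, hnorm i (fun x y => ?_) w hw, by rw [map_mul, map_mul, map_inv]⟩
      rw [(hform i 1).1 (by rw [one_smul]; exact hm) x y, one_mul])
    (by
      rintro _ ⟨w, hw, rfl⟩
      obtain ⟨k, hk, c, hc⟩ := hodd w hw
      refine ⟨k, hk, c, ?_⟩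
      rw [← map_pow, hφ, show ((w ^ k : W ≃ₗ[E] W) : W →ₗ[E] W) = c • LinearMap.id from LinearMap.ext hc,
        map_smul, LinearMap.toMatrix_id])
    ⟨d₀, hd₀, rfl⟩
  obtain ⟨c, hc⟩ := key
  refine ⟨c, fun x => ?_⟩
  have h : (d₀ : W →ₗ[E] W) = c • LinearMap.id := (LinearMap.toMatrix b b).injective (by
    rw [← hφ, hc, map_smul, LinearMap.toMatrix_id])
  exact LinearMap.congr_fun h x

end Odd

end Cfsg.Agent.LocalBalance
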