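import Cfsg.Agent.Lib.LocalBalance.Simple
import Cfsg.Agent.Lib.LocalBalance.FixHom
import Cfsg.Agent.Lib.AutPOmega.OutOdd
import Cfsg.Agent.Lib.AutPO.OddSplit

/-!
The centraliser of a standard field automorphism of `POmega(Q)`, for a form defined over the fixed field.
-/

set_option autoImplicit false
set_option linter.unusedSectionVars false

open scoped Matrix MatrixGroups

namespace Cfsg.Agent.LocalBalance

open ClassicalSimple (GO simAut scalarSub bil bil_nondegenerate ker_simAut)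
open AutPO (Fixes fieldA semiA gmap semi_one mapGO embGO mapIso isoGO)

variable {ι : Type} [Fintype ι] [DecidableEq ι]

theorem fieldA_eq_one {F : Type*} [Field F] [Finite F] {Q : QuadraticForm F (ι → F)} {σ : F ≃+* F} (h : Fixes Q σ)
    (e : σ = 1) : fieldA h = 1 := by
  have := AutPO.fieldA_pow_eq_one h (k := 1) (by rw [pow_one, e])
  rwa [pow_one] at this

/-- `Omega` inside the similarities. -/
def omegaGO {F : Type*} [Field F] (Q : QuadraticForm F (ι → F)) : Omega F ⇑Q →* GO Q :=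
  (isoGO Q).comp (Omega F ⇑Q).subtype

theorem simAut_omega {F : Type*} [Field F] (Q : QuadraticForm F (ι → F)) (t : Omega F ⇑Q) :
    simAut Q (omegaGO Q t) = MulAut.conj (QuotientGroup.mk t : POmega F ⇑Q) :=
  MulEquiv.ext fun y => QuotientGroup.induction_on y fun _ => rfl

theorem conj_injective_orth {F : Type*} [Field F] [Fintype F] {Q : QuadraticForm F (ι → F)}
    (hQ : (QuadraticMap.polarBilin Q).Nondegenerate) (h5 : 5 ≤ Fintype.card ι) :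
    Function.Injective (MulAut.conj : POmega F ⇑Q → MulAut (POmega F ⇑Q)) := by
  refine (injective_iff_map_eq_one _).2 fun k hk => Subgroup.mem_bot.1 ?_
  rw [← AutPOmega.center_POmega (bil_nondegenerate Q hQ) h5]
  refine Subgroup.mem_center_iff.2 fun y => ?_
  have h : k * y * k⁻¹ = y := DFunLike.congr_fun hk y
  exact (mul_inv_eq_iff_eq_mul.1 h).symm

variable {F : Type*} [Field F] [Fintype F] {Q : QuadraticForm F (ι → F)}
  {F₀ : Type*} [Field F₀] [Fintype F₀] {Q₀ : QuadraticForm F₀ (ι → F₀)} (f : F₀ →+* F)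
  (hQ₀ : ∀ w, Q (f ∘ w) = f (Q₀ w)) {σ : F ≃+* F} (hσ : Fixes Q σ)
  (hQ : (QuadraticMap.polarBilin Q).Nondegenerate) (hQ₀n : (QuadraticMap.polarBilin Q₀).Nondegenerate)
  (h5 : 5 ≤ Fintype.card ι) (hf : ∀ x : F, σ x = x ↔ x ∈ Set.range f)

include hQ₀ in
omit [Fintype F] [Fintype F₀] in
theorem hQ₀_one (w : ι → F₀) : Q ((1 : GL ι F).val *ᵥ (f ∘ w)) = ((1 : Fˣ) : F) * f (Q₀ w) := by
  rw [Units.val_one, Matrix.one_mulVec, Units.val_one, one_mul, hQ₀]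

/-- The similarities over the fixed field. -/
abbrev emb₁ : GO Q₀ →* GO Q := embGO f 1 1 (hQ₀_one f hQ₀)

/-- Their automorphisms. -/
noncomputable abbrev Phi : GO Q₀ →* MulAut (POmega F ⇑Q) := (simAut Q).comp (emb₁ f hQ₀)

omit [Fintype F₀] in
theorem emb₁_coe (g : GO Q₀) : (emb₁ f hQ₀ g).1 = Matrix.GeneralLinearGroup.map f g.1 := by
  rw [AutPO.embGO_coe, one_mul, inv_one, mul_one]

/-- `Omega` over the fixed field. -/
noncomputable def mapOmega : Omega F₀ ⇑Q₀ →* Omega F ⇑Q :=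
  ((mapIso f hQ₀).comp (Omega F₀ ⇑Q₀).subtype).codRestrict _ fun t => by
    have h : (commutator (isometryGroup F₀ ⇑Q₀)).map (mapIso f hQ₀) ≤ commutator (isometryGroup F ⇑Q) := by
      rw [commutator_def, commutator_def, Subgroup.map_commutator]
      exact Subgroup.commutator_mono le_top le_top
    exact h ⟨t.1, t.2, rfl⟩

theorem Phi_omega (t : Omega F₀ ⇑Q₀) :
    Phi f hQ₀ (omegaGO Q₀ t) = MulAut.conj (QuotientGroup.mk (mapOmega f hQ₀ t) : POmega F ⇑Q) := by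
  rw [← simAut_omega]
  show simAut Q _ = simAut Q _
  congr 1
  exact Subtype.ext (by rw [emb₁_coe]; rfl)

include hQ hQ₀n h5 in
theorem Phi_eq_iff (a b : GO Q₀) : Phi f hQ₀ a = Phi f hQ₀ b ↔ simAut Q₀ a = simAut Q₀ b := by
  rw [MonoidHom.eq_iff, MonoidHom.eq_iff, AutPO.ker_embGO hQ h5 f 1 1 (hQ₀_one f hQ₀), ker_simAut Q₀ hQ₀n h5]

include hf in
theorem mapOmega_mem_fixK (t : Omega F₀ ⇑Q₀) :
    (QuotientGroup.mk (mapOmega f hQ₀ t) : POmega F ⇑Q) ∈ fixK (fieldA hσ) := by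
  rw [mem_fixK, fieldA, AutPO.semiA_mk]
  refine congrArg QuotientGroup.mk (Subtype.ext (Subtype.ext ?_))
  show 1 * gmap σ (Matrix.GeneralLinearGroup.map f t.1.1) * 1⁻¹ = Matrix.GeneralLinearGroup.map f t.1.1
  rw [one_mul, inv_one, mul_one, AutPO.gmap_map f hf]

include hQ hQ₀n h5 hf hQ₀ in
theorem fix_ne_bot_orth : fixK (fieldA hσ) ≠ ⊥ := by
  intro hbot
  haveI := ClassicalSimple.POmega_isSimpleGroup Q₀ (bil_nondegenerate Q₀ hQ₀n) h5
  obtain ⟨k, hk⟩ := exists_ne (1 : POmega F₀ ⇑Q₀)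
  obtain ⟨t, rfl⟩ := QuotientGroup.mk_surjective k
  refine hk (conj_injective_orth hQ₀n h5 ?_)
  have h := mapOmega_mem_fixK f hQ₀ hσ hf t
  rw [hbot, Subgroup.mem_bot] at h
  rw [← simAut_omega, map_one, ← map_one (simAut Q₀), ← Phi_eq_iff f hQ₀ hQ hQ₀n h5, Phi_omega, h, map_one,
    map_one]

include hQ h5 hf in
theorem range_Phi : (Phi f hQ₀).range = pgoAut F ⇑Q ⊓ Subgroup.centralizer {fieldA hσ} := by
  have h := AutPO.map_inf_centralizer hσ hQ h5 f 1 1 (hQ₀_one f hQ₀) hf (1 : GO Q)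
    (by rw [map_one, OneMemClass.coe_one, one_mul]) ⊤ le_top
  rw [map_one, one_mul, Subgroup.comap_top, ← MonoidHom.range_eq_map, ← MonoidHom.range_eq_map] at h
  rw [ClassicalSimple.pgoAut_eq, h]

include hQ hQ₀n h5 in
/-- The prime divisor is also one of the order of `POmega` over the fixed field. -/
theorem dvd_card_POmega₀ {p : ℕ} [Fact p.Prime] (h2 : (2 : F₀) ≠ 0) {k : POmega F ⇑Q} (hk : orderOf k = p)
    {g : GO Q₀} (hg : Phi f hQ₀ g = MulAut.conj k) (hsq : ∀ g : GO Q₀, ∃ (c : F₀ˣ) (y : isometryGroup F₀ ⇑Q₀),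
      g.1 = AutPO.scl c * y.1) (heven : 2 ∣ Nat.card (POmega F₀ ⇑Q₀)) : p ∣ Nat.card (POmega F₀ ⇑Q₀) := by
  have hp : p.Prime := Fact.out
  by_cases hp2 : p = 2
  · exact hp2 ▸ heven
  have hord : orderOf (simAut Q₀ g) = p := by
    rw [← hk, ← orderOf_injective (MulAut.conj : POmega F ⇑Q →* _) (conj_injective_orth hQ h5) k, ← hg]
    refine orderOf_eq_orderOf_iff.2 fun j => ?_
    rw [← map_pow, ← map_pow, ← map_one (simAut Q₀), ← Phi_eq_iff f hQ₀ hQ hQ₀n h5, map_one]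
  obtain ⟨c, y, hy⟩ := hsq g
  have hF : Fintype.card F₀ ≠ 2 ∨ Fintype.card ι ≠ 4 := Or.inr (by omega)
  have hyy : y * y ∈ Omega F₀ ⇑Q₀ := by
    show y * y ∈ commutator _
    rw [← Abelianization.ker_of, MonoidHom.mem_ker, map_mul]
    exact QForm.of_mul_self hQ₀n hF y
  have he : simAut Q₀ g = simAut Q₀ (isoGO Q₀ y) :=
    AutPO.simAut_eq_of_scl hQ₀n h5 (c := c) (by rw [AutPO.isoGO_coe, hy, AutPO.scl_commute])
  have h2' : orderOf (MulAut.conj (QuotientGroup.mk ⟨y * y, hyy⟩ : POmega F₀ ⇑Q₀)) = p := by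
    rw [← simAut_omega, show omegaGO Q₀ ⟨y * y, hyy⟩ = isoGO Q₀ y * isoGO Q₀ y from map_mul (isoGO Q₀) y y, map_mul, ← he,
      ← sq, Nat.Coprime.orderOf_pow (by rw [hord]; exact (Nat.coprime_primes hp Nat.prime_two).2 hp2), hord]
  rw [← h2', orderOf_injective (MulAut.conj : POmega F₀ ⇑Q₀ →* _) (conj_injective_orth hQ₀n h5)]
  exact orderOf_dvd_natCard _

include hQ hQ₀n h5 hf hQ₀ in
theorem core_fix_orth {p : ℕ} [Fact p.Prime] (h2 : (2 : F₀) ≠ 0)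
    (hsq : ∀ g : GO Q₀, ∃ (c : F₀ˣ) (y : isometryGroup F₀ ⇑Q₀), g.1 = AutPO.scl c * y.1)
    (heven : 2 ∣ Nat.card (POmega F₀ ⇑Q₀)) (hdvd : p ∣ Nat.card (fixK (fieldA hσ))) :
    Cfsg.pPrimeCore p (fixK (fieldA hσ)) = ⊥ := by
  classical
  have hrange := range_Phi f hQ₀ hσ hQ h5 hf
  have hmemr : ∀ k ∈ fixK (fieldA hσ), MulAut.conj k ∈ (Phi f hQ₀).range := fun k hk => by
    rw [hrange]
    exact ⟨AutPOmega.inn_le_pgoAut ⟨k, rfl⟩, Subgroup.mem_centralizer_singleton_iff.2 (commute_conj hk).eq⟩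
  refine core_fix_of_hom (conj_injective_orth hQ h5) _ (GO Q₀) _ le_rfl (Phi f hQ₀)
    (AutPO.ker_embGO hQ h5 f 1 1 (hQ₀_one f hQ₀)) (fun k => ?_) hmemr (fun N hN hnorm hodd d hd => ?_)
  · have h : Phi f hQ₀ k ∈ pgoAut F ⇑Q ⊓ Subgroup.centralizer {fieldA hσ} := hrange ▸ ⟨k, rfl⟩
    exact Subgroup.mem_centralizer_singleton_iff.1 h.2
  haveI := ClassicalSimple.POmega_isSimpleGroup Q₀ (bil_nondegenerate Q₀ hQ₀n) h5
  obtain ⟨⟨k, hk⟩, hko⟩ := exists_prime_orderOf_dvd_card' p hdvd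
  replace hko : orderOf k = p := (Subgroup.orderOf_coe _).trans hko
  obtain ⟨g, hg⟩ := hmemr k hk
  have hdvd₀ := dvd_card_POmega₀ f hQ₀ hQ hQ₀n h5 h2 hko hg hsq heven
  have h1 : simAut Q₀ ⟨d, hN hd⟩ = 1 := by
    refine eq_one_of_normalised (conj_injective_orth hQ₀n h5) hdvd₀ ((N.subgroupOf (GO Q₀)).map (simAut Q₀)) ?_ ?_
      (Subgroup.mem_map_of_mem _ (Subgroup.mem_subgroupOf.2 hd))
    · rintro x _ ⟨y, hy, rfl⟩
      obtain ⟨t, rfl⟩ := QuotientGroup.mk_surjective x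
      refine ⟨omegaGO Q₀ t * y * (omegaGO Q₀ t)⁻¹, Subgroup.mem_subgroupOf.2 ?_, ?_⟩
      · exact hnorm _ (omegaGO Q₀ t).2 _ (Subgroup.mem_subgroupOf.1 hy)
      · rw [map_mul, map_mul, map_inv, simAut_omega]
    · rintro _ ⟨y, hy, rfl⟩
      obtain ⟨j, hj, c, hc⟩ := hodd _ (Subgroup.mem_subgroupOf.1 hy)
      refine ⟨j, hj, ?_⟩
      rw [← map_pow, ← MonoidHom.mem_ker, ker_simAut Q₀ hQ₀n h5]
      haveI : Nonempty ι := Fintype.card_pos_iff.1 (by omega)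
      let i : ι := Classical.arbitrary ι
      have hc0 : c ≠ 0 := fun h0 => by
        rw [h0, zero_smul] at hc
        exact ((Matrix.isUnit_iff_isUnit_det _).1 ((y : GL ι F₀) ^ j).isUnit).ne_zero (by
          rw [hc, Matrix.det_zero])
      refine ⟨Units.mk0 c hc0, Units.ext ?_⟩
      show (AutPO.scl (Units.mk0 c hc0) : GL ι F₀).val = ((y ^ j : GO Q₀) : GL ι F₀).val
      rw [AutPO.scl_val, SubmonoidClass.coe_pow, hc, Units.val_mk0]
  rw [← MonoidHom.mem_ker, ker_simAut Q₀ hQ₀n h5] at h1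
  obtain ⟨c, hc⟩ := h1
  refine ⟨(c : F₀), ?_⟩
  rw [← AutPO.scl_val]
  exact congrArg Units.val hc.symm

include hQ hQ₀n h5 hf hQ₀ in
theorem eq_one_of_fix_orth (hall : ∀ τ : F ≃+* F, Fixes Q τ) (hall₀ : ∀ τ : F₀ ≃+* F₀, Fixes Q₀ τ)
    (Γ : MulAut (POmega F ⇑Q) →* (F ≃+* F)) (hΓ : Γ.ker = pgoAut F ⇑Q) (hΓf : ∀ τ, Γ (fieldA (hall τ)) = τ)
    (Γ₀ : MulAut (POmega F₀ ⇑Q₀) →* (F₀ ≃+* F₀)) (hΓ₀ : Γ₀.ker = pgoAut F₀ ⇑Q₀)
    (hΓ₀f : ∀ τ, Γ₀ (fieldA (hall₀ τ)) = τ) {p : ℕ} (hp : orderOf σ = p) {a : MulAut (POmega F ⇑Q)}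
    (hax : Commute a (fieldA hσ)) (hfix : ∀ k ∈ fixK (fieldA hσ), a k = k) (hco : (orderOf a).Coprime p) :
    a = 1 := by
  classical
  set τ := Γ a
  have hτσ : τ * σ = σ * τ := by
    have h := congrArg Γ hax.eq
    rwa [map_mul, map_mul, show Γ (fieldA hσ) = σ from hΓf σ] at h
  obtain ⟨g, hg⟩ : a * (fieldA (hall τ))⁻¹ ∈ (simAut Q).range := by
    rw [← ClassicalSimple.pgoAut_eq, ← hΓ, MonoidHom.mem_ker, map_mul, map_inv, hΓf, mul_inv_cancel]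
  rw [eq_mul_inv_iff_mul_eq] at hg
  have hcc : fieldA (hall τ) * fieldA hσ = fieldA hσ * fieldA (hall τ) := by
    refine MulEquiv.ext fun x => QuotientGroup.induction_on x fun s => ?_
    simp only [MulAut.mul_apply, fieldA, AutPO.semiA_mk]
    refine congrArg QuotientGroup.mk (Subtype.ext (Subtype.ext ?_))
    show 1 * gmap τ (1 * gmap σ s.1.1 * 1⁻¹) * 1⁻¹ = 1 * gmap σ (1 * gmap τ s.1.1 * 1⁻¹) * 1⁻¹
    simp only [one_mul, inv_one, mul_one]
    rw [← AutPO.gmap_mul, ← AutPO.gmap_mul, hτσ]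
  obtain ⟨g₀, hg₀⟩ : simAut Q g ∈ (Phi f hQ₀).range := by
    rw [range_Phi f hQ₀ hσ hQ h5 hf]
    refine ⟨ClassicalSimple.pgoAut_eq Q ▸ ⟨g, rfl⟩, Subgroup.mem_centralizer_singleton_iff.2 ?_⟩
    refine mul_right_cancel (b := fieldA (hall τ)) ?_
    rw [mul_assoc, ← hcc, ← mul_assoc, hg, hax.eq, ← hg, mul_assoc]
  have hrest : ∀ x : F₀, ∃ y : F₀, f y = τ (f x) := fun x => (hf _).1 (by
    rw [← RingAut.mul_apply, ← hτσ, RingAut.mul_apply, (hf _).2 ⟨x, rfl⟩])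
  choose τf hτf using hrest
  let τh : F₀ →+* F₀ :=
    { toFun := τf
      map_one' := f.injective (by rw [hτf, map_one, map_one])
      map_zero' := f.injective (by rw [hτf, map_zero, map_zero])
      map_add' := fun x y => f.injective (by rw [hτf, map_add, map_add, map_add, hτf, hτf])
      map_mul' := fun x y => f.injective (by rw [hτf, map_mul, map_mul, map_mul, hτf, hτf]) }
  let τ₀ : F₀ ≃+* F₀ := RingEquiv.ofBijective τh (Finite.injective_iff_bijective.1 τh.injective)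
  have hτ₀ : ∀ x, f (τ₀ x) = τ (f x) := hτf
  have hemb : ∀ x, mapGO (hall τ) (emb₁ f hQ₀ x) = emb₁ f hQ₀ (mapGO (hall₀ τ₀) x) := fun x =>
    Subtype.ext (Units.ext (Matrix.ext fun i j => by
      rw [AutPO.mapGO_coe, emb₁_coe, emb₁_coe]
      exact (hτ₀ _).symm))
  have h₀ : simAut Q₀ g₀ * fieldA (hall₀ τ₀) = 1 := by
    refine MulEquiv.ext fun x => QuotientGroup.induction_on x fun t => ?_
    have e := mul_conj a (QuotientGroup.mk (mapOmega f hQ₀ t) : POmega F ⇑Q)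
    rw [hfix _ (mapOmega_mem_fixK f hQ₀ hσ hf t), ← Phi_omega f hQ₀ t, ← hg, ← hg₀, mul_assoc,
      show Phi f hQ₀ (omegaGO Q₀ t) = simAut Q (emb₁ f hQ₀ (omegaGO Q₀ t)) from rfl, AutPO.fieldA_mul_simAut,
      hemb, ← mul_assoc, ← mul_assoc, mul_left_inj] at e
    change Phi f hQ₀ g₀ * Phi f hQ₀ (mapGO (hall₀ τ₀) (omegaGO Q₀ t)) = Phi f hQ₀ (omegaGO Q₀ t) * Phi f hQ₀ g₀ at e
    rw [← map_mul, ← map_mul, Phi_eq_iff f hQ₀ hQ hQ₀n h5, map_mul, map_mul] at e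
    refine conj_injective_orth hQ₀n h5 (mul_right_cancel (b := simAut Q₀ g₀ * fieldA (hall₀ τ₀)) ?_)
    rw [MulAut.one_apply, ← mul_conj, ← simAut_omega, mul_assoc, AutPO.fieldA_mul_simAut, ← mul_assoc, e,
      mul_assoc]
  have hτ1 : τ₀ = 1 := by
    have h := congrArg Γ₀ h₀
    rwa [map_mul, MonoidHom.mem_ker.1 (hΓ₀.symm ▸ (ClassicalSimple.pgoAut_eq Q₀ ▸ ⟨g₀, rfl⟩) :
      simAut Q₀ g₀ ∈ Γ₀.ker), hΓ₀f, one_mul, map_one] at h
  have hτ1' : τ = 1 := by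
    refine eq_one_of_fix_field hp (fun t ht => ?_) (k := orderOf a) ?_ hco
    · obtain ⟨t₀, rfl⟩ := (hf t).1 ht
      rw [← hτ₀, hτ1, RingAut.one_apply]
    · rw [show τ = Γ a from rfl, ← map_pow, pow_orderOf_eq_one, map_one]
  rw [fieldA_eq_one _ hτ1, mul_one, ← map_one (simAut Q₀), ← Phi_eq_iff f hQ₀ hQ hQ₀n h5, map_one, hg₀] at h₀
  rw [← hg, h₀, one_mul, fieldA_eq_one _ hτ1']

end Cfsg.Agent.LocalBalance
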