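import Cfsg.Agent.Lib.LocalBalance.Orth

/-!
The odd-dimensional orthogonal groups: the centraliser of an automorphism outside `PGO`.
-/

set_option autoImplicit false
set_option linter.unusedSectionVars false

open scoped Matrix MatrixGroups

namespace Cfsg.Agent.LocalBalance

open ClassicalSimple (GO simAut bil_nondegenerate)
open AutPO (Fixes fieldA semi_one fixes_odd coe_quadOdd nondeg_odd card_odd isoGO)

variable {m : ℕ} {F : Type*} [Field F] [Fintype F]

local notation "Io" => Unit ⊕ (Fin m ⊕ Fin m)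
local notation "QO" => Forms.quadOdd m F

/-- `POmega_{2m+1}` has even order. -/
theorem two_dvd_card_odd (h2 : (2 : F) ≠ 0) (hm : 3 ≤ m) : 2 ∣ Nat.card (POmega F ⇑QO) := by
  classical
  haveI : Fact (Nat.Prime 2) := ⟨Nat.prime_two⟩
  have hQ := nondeg_odd (m := m) h2
  let i : Fin m := ⟨0, by omega⟩
  let j : Fin m := ⟨1, by omega⟩
  let e : Fin m → Io → F := fun k => Pi.single (.inr (.inl k)) 1 + Pi.single (.inr (.inr k)) 1
  have hval : ∀ k, QO (e k) = 1 := fun k => by
    simp [e, Forms.quadOdd_apply, quadFormOdd, Pi.single_apply]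
  have hne : ∀ k, QO (e k) ≠ 0 := fun k => by rw [hval]; exact one_ne_zero
  set y := QForm.refl QO (e i) (hne i) * QForm.refl QO (e j) (hne j) with hy
  have hmem : y ∈ Omega F ⇑QO := by
    rw [QForm.mem_omega_iff_abelianization, hy, map_mul,
      QForm.of_refl_eq hQ (hne i) (hne j) (by rw [hval, hval, one_mul]; exact IsSquare.one),
      ← map_mul, QForm.refl_mul_self, map_one]
  have hp0 : ∀ k, QuadraticMap.polar ⇑QO (e k) (Pi.single (.inl ()) 1) = 0 := fun k => by
    simp [QuadraticMap.polar, Forms.quadOdd_apply, e, quadFormOdd, Pi.single_apply, add_mul, Finset.sum_add_distrib]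
  have hij : i ≠ j := by simp [i, j, Fin.ext_iff]
  have hact : ∀ x, QForm.act QO y x = QForm.act QO (QForm.refl QO (e i) (hne i))
      (QForm.act QO (QForm.refl QO (e j) (hne j)) x) := fun x => (Matrix.mulVec_mulVec _ _ _).symm
  have hz : QForm.act QO y (Pi.single (.inl ()) 1) = Pi.single (.inl ()) 1 := by
    rw [hact, QForm.act_refl, QForm.act_refl, hp0]
    simp [hp0]
  have hpij : QuadraticMap.polar ⇑QO (e j) (e i) = 0 := by
    simp [QuadraticMap.polar, Forms.quadOdd_apply, e, quadFormOdd, Pi.single_apply, mul_add, add_mul,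
      Finset.sum_add_distrib, hij, hij.symm]
  have hpii : QuadraticMap.polar ⇑QO (e i) (e i) = 2 := by
    simp [QuadraticMap.polar, Forms.quadOdd_apply, e, quadFormOdd, Pi.single_apply, mul_add, add_mul,
      Finset.sum_add_distrib]
    ring
  have hneg : QForm.act QO y (e i) = -e i := by
    rw [hact, QForm.act_refl, QForm.act_refl, hpij, mul_zero, zero_smul, sub_zero, hpii, hval, inv_one, one_mul,
      two_smul, ← sub_sub, sub_self, zero_sub]
  have hyy : y * y = 1 := by
    have hofself : QForm.act QO (y * y) (e i) = e i := by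
      rw [show QForm.act QO (y * y) (e i) = QForm.act QO y (QForm.act QO y (e i)) from
        (Matrix.mulVec_mulVec _ _ _).symm, hneg]
      show _ *ᵥ (-e i) = _
      rw [Matrix.mulVec_neg]
      show -(QForm.act QO y (e i)) = _
      rw [hneg, neg_neg]
    have hcomm : QForm.refl QO (e i) (hne i) * QForm.refl QO (e j) (hne j) =
        QForm.refl QO (e j) (hne j) * QForm.refl QO (e i) (hne i) := by
      refine Subtype.ext (Units.ext (Matrix.ext_of_mulVec_single fun k => ?_))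
      show (_ * _ : Matrix Io Io F) *ᵥ _ = (_ * _ : Matrix Io Io F) *ᵥ _
      rw [← Matrix.mulVec_mulVec, ← Matrix.mulVec_mulVec]
      show QForm.act QO (QForm.refl QO (e i) (hne i)) (QForm.act QO (QForm.refl QO (e j) (hne j)) _) =
        QForm.act QO (QForm.refl QO (e j) (hne j)) (QForm.act QO (QForm.refl QO (e i) (hne i)) _)
      simp only [QForm.act_refl]
      have hl : ∀ (u : Io → F) (a : Io → F) (t : F),
          QuadraticMap.polar ⇑QO u (a - t • e i) = QuadraticMap.polar ⇑QO u a - t * QuadraticMap.polar ⇑QO u (e i) ∧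
          QuadraticMap.polar ⇑QO u (a - t • e j) = QuadraticMap.polar ⇑QO u a - t * QuadraticMap.polar ⇑QO u (e j) :=
        fun u a t => by
          constructor <;>
            simp [sub_eq_add_neg, QuadraticMap.polar_add_right, QuadraticMap.polar_smul_right, ← neg_smul]
      rw [(hl (e i) _ _).2, (hl (e j) _ _).1, hpij, QuadraticMap.polar_comm ⇑QO (e i) (e j), hpij]
      simp only [mul_zero, sub_zero]
      abel
    rw [hy]
    conv_lhs => arg 2; rw [hcomm]
    rw [mul_assoc, ← mul_assoc (QForm.refl QO (e j) (hne j)), QForm.refl_mul_self, one_mul, QForm.refl_mul_self]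
  have hne1 : (QuotientGroup.mk ⟨y, hmem⟩ : POmega F ⇑QO) ≠ 1 := fun h => by
    have h1 := simAut_omega QO ⟨y, hmem⟩
    rw [h, map_one, ← MonoidHom.mem_ker, ClassicalSimple.ker_simAut QO hQ (card_odd hm)] at h1
    obtain ⟨c, hc⟩ := h1
    have hv : ∀ x, QForm.act QO y x = (c : F) • x := fun x => by
      show y.1.val *ᵥ x = _
      rw [show y.1 = AutPO.scl c from hc.symm, AutPO.scl_mulVec]
    have e1 := congrFun (hz ▸ hv (Pi.single (.inl ()) 1)) (.inl ())
    have e2 := congrFun (hneg ▸ hv (e i)) (.inr (.inl i))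
    simp [e] at e1 e2
    exact h2 (by linear_combination e1 - e2)
  have hsq : (QuotientGroup.mk ⟨y, hmem⟩ : POmega F ⇑QO) ^ 2 = 1 := by
    rw [← QuotientGroup.mk_pow, show (⟨y, hmem⟩ : Omega F ⇑QO) ^ 2 = 1 from Subtype.ext (by
      rw [SubmonoidClass.coe_pow, sq, hyy, OneMemClass.coe_one]), QuotientGroup.mk_one]
  have hdvd := orderOf_dvd_natCard (QuotientGroup.mk ⟨y, hmem⟩ : POmega F ⇑QO)
  rwa [orderOf_eq_prime hsq hne1] at hdvd

set_option maxHeartbeats 1000000 in
/-- **The criterion in odd dimension.** -/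
theorem core_ne_bot_iff_odd (h2 : (2 : F) ≠ 0) (hm : 3 ≤ m) (A : Subgroup (MulAut (POmega F ⇑QO)))
    (hinn : ∀ k : POmega F ⇑QO, MulAut.conj k ∈ A) {p : ℕ} [Fact p.Prime] (x : MulAut (POmega F ⇑QO))
    (hord : orderOf x = p) (hnot : ¬ IsSimilarityInducedAutPOmega ⇑QO x) :
    IsFieldAutClassPOmega ⇑QO x ∧ (Cfsg.pPrimeCore p ↥(A ⊓ Subgroup.centralizer {x}) ≠ ⊥ ↔
      Nat.Coprime p (Nat.card (fixK x))) := by
  classical
  have D := AutPOmega.autData_odd h2 hm (m := m) (F := F)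
  obtain ⟨Γ, hΓ, hΓv⟩ := AutPOmega.exists_galPart D
  have hΓf : ∀ τ, Γ (fieldA (fixes_odd (m := m) τ)) = τ := fun τ => hΓv 1 τ (semi_one (fixes_odd τ))
  have hQ := nondeg_odd (m := m) h2
  set σ := Γ x
  obtain ⟨g, hg⟩ : x * (fieldA (fixes_odd (m := m) σ))⁻¹ ∈ (simAut QO).range := by
    rw [← ClassicalSimple.pgoAut_eq, ← hΓ, MonoidHom.mem_ker, map_mul, map_inv, hΓf, mul_inv_cancel]
  rw [eq_mul_inv_iff_mul_eq] at hg
  have hσ1 : σ ≠ 1 := fun e => hnot (by
    rw [← hg, fieldA_eq_one _ e, mul_one]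
    exact ⟨g.1, g.2, (ClassicalSimple.induced_iff QO g.2).2 rfl⟩)
  have hσ : orderOf σ = p := by
    refine orderOf_eq_prime ?_ hσ1
    rw [show σ = Γ x from rfl, ← map_pow, ← hord, pow_orderOf_eq_one, map_one]
  obtain ⟨c, -, hc⟩ := AutPO.lang_odd h2 hm σ g (by rw [hσ, hg, ← hord, pow_orderOf_eq_one])
  rw [hg] at hc
  refine ⟨⟨c⁻¹, fieldA (fixes_odd σ), σ, hσ1, ?_, by rw [hc]; group⟩, ?_⟩
  · intro s s' e
    rw [fieldA, AutPO.semiA_mk]
    refine congrArg QuotientGroup.mk (Subtype.ext (Subtype.ext ?_))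
    show 1 * AutPO.gmap σ s.1.1 * 1⁻¹ = s'.1.1
    rw [one_mul, inv_one, mul_one]
    exact Units.ext e.symm
  let f := (FieldExt.fixedField σ).subtype
  haveI : Fintype (FieldExt.fixedField σ) := Fintype.ofFinite _
  have hf : ∀ t : F, σ t = t ↔ t ∈ Set.range f := fun t =>
    ⟨fun h => ⟨⟨t, FieldExt.mem_fixedField.2 h⟩, rfl⟩, fun ⟨y, hy⟩ => hy ▸ FieldExt.mem_fixedField.1 y.2⟩
  have h20 : (2 : FieldExt.fixedField σ) ≠ 0 := fun h => h2 (by
    have := congrArg f h
    rwa [map_ofNat, map_zero] at this)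
  have hQ₀ : ∀ w, QO (f ∘ w) = f (Forms.quadOdd m (FieldExt.fixedField σ) w) := AutPO.quadOdd_map f
  have hQ₀n := nondeg_odd (m := m) h20
  obtain ⟨Γ₀, hΓ₀, hΓ₀v⟩ := AutPOmega.exists_galPart (AutPOmega.autData_odd h20 hm (m := m))
  rw [hc]
  exact core_ne_bot_iff_conj (conj_injective_orth hQ (card_odd hm)) _ c A hinn
    (fix_ne_bot_orth f hQ₀ (fixes_odd σ) hQ hQ₀n (card_odd hm) hf)
    (core_fix_orth f hQ₀ (fixes_odd σ) hQ hQ₀n (card_odd hm) hf h20
      (fun g => by
        obtain ⟨a, y, hy, -⟩ := AutPOmega.exists_so h20 g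
        exact ⟨a, y, hy⟩)
      (two_dvd_card_odd h20 hm))
    (fun a hax hfix hco => eq_one_of_fix_orth f hQ₀ (fixes_odd σ) hQ hQ₀n (card_odd hm) hf fixes_odd fixes_odd
      Γ hΓ hΓf Γ₀ hΓ₀ (fun τ => hΓ₀v 1 τ (semi_one (fixes_odd τ))) hσ hax hfix hco)

end Cfsg.Agent.LocalBalance
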