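import Cfsg.Agent.Lib.AutPSU.FieldAut
import Cfsg.Agent.S0282

/-!
Normalised `3'`-subgroups of `GU_3(2)` consist of scalars.
-/

set_option autoImplicit false
set_option linter.unusedSectionVars false

open Matrix
open scoped MatrixGroups

namespace Cfsg.Agent.LocalBalance

open Cfsg.Agent.AutPSU

theorem mem_of_pow_mem_coprime {G : Type*} [Group G] {C : Subgroup G} {x : G} {a b : ℕ} (ha : x ^ a ∈ C)
    (hb : x ^ b ∈ C) (h : a.Coprime b) : x ∈ C := by
  have e := Nat.gcd_eq_gcd_ab a b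
  rw [h.gcd_eq_one, Nat.cast_one] at e
  rw [← zpow_one x, e, _root_.zpow_add, _root_.zpow_mul, _root_.zpow_mul, zpow_natCast, zpow_natCast]
  exact C.mul_mem (C.zpow_mem ha _) (C.zpow_mem hb _)

theorem mem_scal_range_iff {n : ℕ} {F : Type*} [Field F] (hn : 1 ≤ n) {g : GL (Fin n) F} :
    g ∈ (Matrix.GeneralLinearGroup.scalar (Fin n) : Fˣ →* GL (Fin n) F).range ↔
      ∃ c : F, g.val = c • (1 : Matrix (Fin n) (Fin n) F) := by
  constructor
  · rintro ⟨c, rfl⟩
    exact ⟨c, GraphAut.scalar_transpose c⟩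
  · rintro ⟨c, hc⟩
    have hc0 : c ≠ 0 := fun h0 => AutPSU.val_ne_zero hn g (by rw [hc, h0, zero_smul])
    exact ⟨Units.mk0 c hc0, Units.ext (by rw [GraphAut.scalar_transpose, Units.val_mk0, hc])⟩

/-- **`3'`-groups in `GU_3(2)`.** -/
theorem scalar_three_two {F : Type*} [Field F] [Fintype F] (hF : Fintype.card F = 2 ^ 2)
    (N : Subgroup (GL (Fin 3) F)) (hN : N ≤ Cfsg.GU 3 F 2)
    (hnorm : ∀ w ∈ Cfsg.GU 3 F 2, ∀ d ∈ N, w * d * w⁻¹ ∈ N)
    (hodd : ∀ d ∈ N, ∃ k : ℕ, k.Coprime 3 ∧ ∃ c : F, (d ^ k).val = c • (1 : Matrix (Fin 3) (Fin 3) F))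
    {d : GL (Fin 3) F} (hd : d ∈ N) : ∃ c : F, d.val = c • (1 : Matrix (Fin 3) (Fin 3) F) := by
  classical
  set C := (Matrix.GeneralLinearGroup.scalar (Fin 3) : Fˣ →* GL (Fin 3) F).range
  rw [← mem_scal_range_iff (by omega)]
  have hpowC : ∀ y ∈ N, ∃ k : ℕ, k.Coprime 3 ∧ y ^ k ∈ C := fun y hy => by
    obtain ⟨k, hk, hc⟩ := hodd y hy
    exact ⟨k, hk, (mem_scal_range_iff (by omega)).2 hc⟩
  have hu : ∀ x : Fˣ, x ^ 3 = 1 := fun x => by
    refine Units.ext ?_
    have h := FiniteField.pow_card_sub_one_eq_one (x : F) x.ne_zero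
    rw [hF] at h
    simpa using h
  have hcube : ∀ x : F, x ≠ 0 → x ^ 3 = 1 := fun x hx => by
    have h := FiniteField.pow_card_sub_one_eq_one x hx
    rw [hF] at h
    exact h
  have htwo : (1 : F) + 1 = 0 := by
    have h : ((2 ^ 2 : ℕ) : F) = 0 := hF ▸ FiniteField.cast_card_eq_zero F
    rw [Nat.cast_pow, Nat.cast_ofNat] at h
    rw [one_add_one_eq_two]
    exact pow_eq_zero_iff (n := 2) two_ne_zero |>.1 h
  -- the diagonal subgroup
  let D : (Fin 3 → Fˣ) →* GL (Fin 3) F :=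
    { toFun := fun v => ⟨Matrix.diagonal fun i => (v i : F), Matrix.diagonal fun i => ((v i)⁻¹ : Fˣ),
        by rw [Matrix.diagonal_mul_diagonal, ← Matrix.diagonal_one]; congr 1; funext i; simp,
        by rw [Matrix.diagonal_mul_diagonal, ← Matrix.diagonal_one]; congr 1; funext i; simp⟩
      map_one' := Units.ext (by show Matrix.diagonal _ = _; simp)
      map_mul' := fun v w => Units.ext (by
        show Matrix.diagonal _ = _ * _
        rw [Matrix.diagonal_mul_diagonal]
        congr 1) }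
  have hDval : ∀ v, (D v).val = Matrix.diagonal fun i => (v i : F) := fun v => rfl
  have hDGU : ∀ v, D v ∈ Cfsg.GU 3 F 2 := fun v => by
    rw [mem_GU_iff hF, hDval, Matrix.diagonal_transpose, Matrix.diagonal_map (map_zero _),
      Matrix.diagonal_mul_diagonal, ← Matrix.diagonal_one]
    congr 1
    funext i
    rw [qAut_apply, ← pow_succ']
    exact hcube _ (v i).ne_zero
  have hDconj : ∀ (v : Fin 3 → Fˣ) (g : GL (Fin 3) F) (i j : Fin 3),
      (D v * g * (D v)⁻¹).val i j = (v i : F) * g.val i j * ((v j)⁻¹ : Fˣ) := fun v g i j => by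
    rw [← map_inv, Units.val_mul, Units.val_mul, hDval, hDval, Matrix.mul_diagonal, Matrix.diagonal_mul]
    rfl
  have hdiag : ∀ y ∈ N, (∀ i j, i ≠ j → y.val i j = 0) → y ∈ C := fun y hy hy0 => by
    obtain ⟨k, hk, hkC⟩ := hpowC y hy
    have hyd : y.val = Matrix.diagonal fun i => y.val i i := by
      ext i j
      rcases eq_or_ne i j with rfl | hij
      · simp
      · simp [hy0 i j hij, hij]
    have hne : ∀ i, y.val i i ≠ 0 := fun i h0 => by
      have hdet := ((Matrix.isUnit_iff_isUnit_det _).1 y.isUnit).ne_zero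
      rw [hyd, Matrix.det_diagonal] at hdet
      exact hdet (Finset.prod_eq_zero (Finset.mem_univ i) h0)
    have hy1 : y = D fun i => Units.mk0 _ (hne i) := Units.ext (by rw [hDval]; simpa using hyd)
    refine mem_of_pow_mem_coprime hkC (b := 3) ?_ hk
    rw [hy1, ← map_pow, show (fun i => Units.mk0 _ (hne i)) ^ 3 = 1 from funext fun i => hu _, map_one]
    exact one_mem _
  -- a diagonal element commuting with `d`
  obtain ⟨v, hv1, hcomm⟩ : ∃ v : Fin 3 → Fˣ, (¬ (v 1 = v 0 ∧ v 2 = v 0)) ∧ D v * d * (D v)⁻¹ = d := by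
    let N' : Subgroup (MulAut (Cfsg.PSU 3 F 2)) := (N.subgroupOf (Cfsg.GU 3 F 2)).map conjU
    have hGU : Nat.card (Cfsg.GU 3 F 2) = 648 := by
      rw [← Forms.card_PSU_mul hF (by norm_num : 1 ≤ 3), (S0282.result (by rw [hF]; norm_num)).1]
      rfl
    have hN8 : Nat.card N' ∣ 8 := by
      have h1 : Nat.card N' ∣ 8 * 81 := by
        rw [show 8 * 81 = 648 from rfl, ← hGU]
        exact (Subgroup.card_map_dvd _ _).trans (Subgroup.card_subgroup_dvd_card _)
      refine Nat.Coprime.dvd_of_dvd_mul_right ?_ h1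
      rw [show (81 : ℕ) = 3 ^ 4 from rfl]
      refine Nat.Coprime.pow_right _ (Nat.Coprime.symm ((Nat.Prime.coprime_iff_not_dvd Nat.prime_three).2 fun h3 => ?_))
      haveI : Fact (Nat.Prime 3) := ⟨Nat.prime_three⟩
      obtain ⟨⟨_, y, hy, rfl⟩, hyo⟩ := exists_prime_orderOf_dvd_card' 3 h3
      replace hyo : orderOf (conjU y : MulAut (Cfsg.PSU 3 F 2)) = 3 := (Subgroup.orderOf_coe _).trans hyo
      obtain ⟨k, hk, c, hc⟩ := hpowC _ (Subgroup.mem_subgroupOf.1 hy)
      have h1 : (conjU y : MulAut (Cfsg.PSU 3 F 2)) ^ k = 1 := by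
        rw [← map_pow]
        exact conjU_of_scalar _ (c := c) (by rw [SubmonoidClass.coe_pow]; exact hc.symm)
      have := orderOf_dvd_of_pow_eq_one h1
      rw [hyo] at this
      exact absurd (Nat.dvd_gcd this dvd_rfl) (by rw [hk.gcd_eq_one]; norm_num)
    let t : Fˣ × Fˣ → Fin 3 → Fˣ := fun x => ![1, x.1, x.2]
    have hdU : ∀ x, D (t x) * d * (D (t x))⁻¹ ∈ N := fun x => hnorm _ (hDGU _) d hd
    let f : Fˣ × Fˣ → N' := fun x =>
      ⟨conjU ⟨_, hN (hdU x)⟩, ⟨⟨_, hN (hdU x)⟩, Subgroup.mem_subgroupOf.2 (hdU x), rfl⟩⟩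
    have hf : ¬ Function.Injective f := fun hf => by
      have h1 := Nat.card_le_card_of_injective f hf
      rw [Nat.card_prod, Nat.card_units, Nat.card_eq_fintype_card, hF] at h1
      have h2 := Nat.le_of_dvd (by norm_num) hN8
      omega
    obtain ⟨x, x', he, hne⟩ := Function.not_injective_iff.1 hf
    obtain ⟨c, -, hc⟩ := guMap_eq_mul_scal hF le_rfl _ _ (congrArg Subtype.val he).symm
    refine ⟨(t x)⁻¹ * t x', fun h => hne ?_, ?_⟩
    · have h1 := h.1
      have h2 := h.2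
      simp [t, inv_mul_eq_one] at h1 h2
      exact Prod.ext h1 h2
    · have e : D ((t x)⁻¹ * t x') * d * (D ((t x)⁻¹ * t x'))⁻¹ = d * Matrix.GeneralLinearGroup.scalar (Fin 3) c := by
        rw [map_mul, map_inv]
        change D (t x') * d * (D (t x'))⁻¹ = D (t x) * d * (D (t x))⁻¹ * _ at hc
        calc (D (t x))⁻¹ * D (t x') * d * ((D (t x))⁻¹ * D (t x'))⁻¹
            = (D (t x))⁻¹ * (D (t x') * d * (D (t x'))⁻¹) * D (t x) := by group
          _ = d * (D (t x))⁻¹ * (Matrix.GeneralLinearGroup.scalar (Fin 3) c * D (t x)) := by rw [hc]; group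
          _ = d * (D (t x))⁻¹ * (D (t x) * Matrix.GeneralLinearGroup.scalar (Fin 3) c) := by
              rw [show Matrix.GeneralLinearGroup.scalar (Fin 3) c * D (t x) = D (t x) * _ from
                Matrix.GeneralLinearGroup.scalar_commute c _]
          _ = d * Matrix.GeneralLinearGroup.scalar (Fin 3) c := by group
      obtain ⟨k, hk, z, hz⟩ := hpowC d hd
      have hzc : ∀ g : GL (Fin 3) F, Commute g (Matrix.GeneralLinearGroup.scalar (Fin 3) c) := fun g =>
        (Matrix.GeneralLinearGroup.scalar_commute c g).symm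
      have hck : Matrix.GeneralLinearGroup.scalar (Fin 3) c ^ k = 1 := by
        have h' := congrArg (· ^ k) e
        simp only [conj_pow, (hzc d).mul_pow, ← hz] at h'
        rw [show D ((t x)⁻¹ * t x') * Matrix.GeneralLinearGroup.scalar (Fin 3) z =
          Matrix.GeneralLinearGroup.scalar (Fin 3) z * D ((t x)⁻¹ * t x') from
            (Matrix.GeneralLinearGroup.scalar_commute z _).symm, mul_inv_cancel_right] at h'
        exact mul_eq_left.1 h'.symm
      have h1 : Matrix.GeneralLinearGroup.scalar (Fin 3) c ∈ (⊥ : Subgroup (GL (Fin 3) F)) :=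
        mem_of_pow_mem_coprime (Subgroup.mem_bot.2 hck) (b := 3)
          (Subgroup.mem_bot.2 (by rw [← map_pow, hu, map_one])) hk
      rw [Subgroup.mem_bot.1 h1, mul_one] at e
      exact e
  have hzero : ∀ i j, v i ≠ v j → d.val i j = 0 := fun i j hij => by
    have h := congrArg (fun g : GL (Fin 3) F => g.val i j) hcomm
    rw [hDconj] at h
    by_contra h0
    refine hij (Units.ext ?_)
    rw [Units.val_inv_eq_inv_val, mul_inv_eq_iff_eq_mul₀ (v j).ne_zero, mul_comm] at h
    exact mul_left_cancel₀ h0 h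
  obtain ⟨i, hi1, hi2⟩ : ∃ i : Fin 3, v i ≠ v (i + 1) ∧ v i ≠ v (i + 2) := by
    by_cases h1 : v 1 = v 0
    · exact ⟨2, fun h => hv1 ⟨h1, h⟩, fun h => hv1 ⟨h1, h.trans h1⟩⟩
    by_cases h2 : v 2 = v 0
    · exact ⟨1, fun h => h1 (h.trans h2), h1⟩
    · exact ⟨0, Ne.symm h1, Ne.symm h2⟩
  have hcases : ∀ i p : Fin 3, p = i ∨ p = i + 1 ∨ p = i + 2 := by decide
  set a := i + 1
  set b := i + 2
  have hia : i ≠ a := (show ∀ i : Fin 3, i ≠ i + 1 ∧ i ≠ i + 2 ∧ i + 1 ≠ i + 2 by decide) i |>.1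
  have hib : i ≠ b := (show ∀ i : Fin 3, i ≠ i + 1 ∧ i ≠ i + 2 ∧ i + 1 ≠ i + 2 by decide) i |>.2.1
  have hab : a ≠ b := (show ∀ i : Fin 3, i ≠ i + 1 ∧ i ≠ i + 2 ∧ i + 1 ≠ i + 2 by decide) i |>.2.2
  have dia := hzero i a hi1
  have dib := hzero i b hi2
  have dai := hzero a i (Ne.symm hi1)
  have dbi := hzero b i (Ne.symm hi2)
  have hcol : ∀ p l : Fin 3,
      ∑ m, d.val m p * d.val m l ^ 2 = (1 : Matrix (Fin 3) (Fin 3) F) p l := fun p l => by
    rw [← (mem_GU_iff hF d).1 (hN hd)]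
    simp [Matrix.mul_apply, qAut_apply]
  have hsum : ∀ f : Fin 3 → F, ∑ m, f m = f i + f a + f b := by
    intro f
    rw [Fin.sum_univ_three]
    fin_cases i <;> simp [a, b] <;> ring
  by_cases hd0 : d.val b a = 0
  · refine hdiag d hd fun p l hpl => ?_
    have haa : d.val a a ≠ 0 := fun h0 => by
      have h := hcol a a
      rw [hsum, dia, h0, hd0, Matrix.one_apply_eq] at h
      simp at h
    have dab : d.val a b = 0 := by
      have h := hcol a b
      rw [hsum, dia, hd0, Matrix.one_apply_ne hab] at h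
      simpa [haa] using h
    rcases hcases i p with e' | e' | e' <;> rcases hcases i l with e | e | e <;> rw [e', e] at hpl ⊢ <;>
      first | exact absurd rfl hpl | assumption
  exfalso
  have hba3 := hcube _ hd0
  have haa : d.val a a = 0 := by
    by_contra h0
    have h := hcol a a
    rw [hsum, dia, Matrix.one_apply_eq, ← pow_succ', ← pow_succ', ← pow_succ', hba3, hcube _ h0, zero_pow (by norm_num),
      zero_add, htwo] at h
    exact zero_ne_one h
  have hbb : d.val b b = 0 := by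
    have h := hcol a b
    rw [hsum, dia, haa, Matrix.one_apply_ne hab] at h
    simpa [hd0] using h
  obtain ⟨ω, hω⟩ : ∃ ω : Fˣ, ω ≠ 1 := by
    haveI : Nontrivial Fˣ := Finite.one_lt_card_iff_nontrivial.1 (by
      rw [Nat.card_units, Nat.card_eq_fintype_card, hF]; norm_num)
    exact exists_ne 1
  let u : Fin 3 → Fˣ := Function.update 1 a ω
  let w : Fin 3 → Fˣ := Function.update (Function.update 1 a ω) b ω⁻¹
  have hconj : D u * d * (D u)⁻¹ = D w * d := Units.ext (Matrix.ext fun p l => by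
    rw [hDconj, Units.val_mul, hDval, Matrix.diagonal_mul]
    rcases hcases i p with e' | e' | e' <;> rcases hcases i l with e | e | e <;> rw [e', e] <;>
      simp [u, w, a, b, hia, hib, hab, hia.symm, hib.symm, hab.symm, dia, dib, dai, dbi, haa, hbb, mul_comm])
  have hwN : D w ∈ N := by
    have := N.mul_mem (hnorm _ (hDGU u) d hd) (N.inv_mem hd)
    rwa [hconj, mul_inv_cancel_right] at this
  obtain ⟨z, hz⟩ := hdiag _ hwN fun p l hpl => by rw [hDval]; simp [hpl]
  have e1 := congrArg (fun g : GL (Fin 3) F => g.val a a) hz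
  have e2 := congrArg (fun g : GL (Fin 3) F => g.val i i) hz
  simp [hDval, GraphAut.scalar_transpose, w, hia, hib, hab] at e1 e2
  exact hω (Units.ext (by rw [← e1, e2, Units.val_one]))

end Cfsg.Agent.LocalBalance
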