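import Cfsg.Agent.Lib.LocalBalance.PSUGraph
import Cfsg.Agent.Lib.LocalBalance.ThreeTwo
import Cfsg.Agent.Lib.AutPSU.FieldAut

/-!
Fixed points of a field automorphism of odd prime order of `PSU_n`.
-/

set_option autoImplicit false
set_option linter.unusedSectionVars false

open Matrix
open scoped MatrixGroups commutatorElement

namespace Cfsg.Agent.LocalBalance

open Cfsg.Agent.AutPSU

variable {n : ℕ} {F : Type*} [Field F] [Fintype F] {q : ℕ}

local notation "Mn" => Matrix (Fin n) (Fin n) F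

/-- A non-scalar diagonal element of `SU`. -/
theorem exists_diag (hF : Fintype.card F = q ^ 2) (hn : 3 ≤ n) {p : ℕ} {ζ : F} (hζ : ζ ^ (q + 1) = 1) (hp : ζ ^ p = 1)
    (hne : ζ ≠ 1) : ∃ w : Cfsg.GU n F q, (w : GL (Fin n) F).val.det = 1 ∧ (w : GL (Fin n) F).val ^ p = 1 ∧
      ∀ c : F, (w : GL (Fin n) F).val ≠ c • (1 : Mn) := by
  let i0 : Fin n := ⟨0, by omega⟩
  let i1 : Fin n := ⟨1, by omega⟩
  let i2 : Fin n := ⟨2, by omega⟩
  have h01 : i0 ≠ i1 := by simp [i0, i1, Fin.ext_iff]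
  have hζ0 : ζ ≠ 0 := fun h => by simp [h] at hζ
  let v : Fin n → F := Function.update (Function.update 1 i0 ζ) i1 ζ⁻¹
  have hvq : ∀ i, v i * qAut hF (v i) = 1 := fun i => by
    rw [qAut_apply, ← pow_succ']
    rcases eq_or_ne i i1 with rfl | h1
    · simp [v, inv_pow, hζ]
    rcases eq_or_ne i i0 with rfl | h0
    · simp [v, h01, hζ]
    · simp [v, h0, h1]
  have hdet : (Matrix.diagonal v).det = 1 := by
    rw [Matrix.det_diagonal, Finset.prod_update_of_mem (Finset.mem_univ _),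
      Finset.prod_update_of_mem (by simp [h01])]
    simp [hζ0]
  refine ⟨⟨Matrix.GeneralLinearGroup.mkOfDetNeZero (Matrix.diagonal v) (by rw [hdet]; exact one_ne_zero), ?_⟩,
    hdet, ?_, fun c h => hne ?_⟩
  · rw [mem_GU_iff hF]
    show (Matrix.diagonal v)ᵀ * (Matrix.diagonal v).map (qAut hF) = 1
    rw [Matrix.diagonal_transpose, Matrix.diagonal_map (map_zero _), Matrix.diagonal_mul_diagonal,
      ← Matrix.diagonal_one]
    exact congrArg _ (funext hvq)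
  · show Matrix.diagonal v ^ p = 1
    rw [Matrix.diagonal_pow, ← Matrix.diagonal_one]
    congr 1
    funext i
    rw [Pi.pow_apply]
    rcases eq_or_ne i i1 with rfl | h1
    · simp [v, inv_pow, hp]
    rcases eq_or_ne i i0 with rfl | h0
    · simp [v, h01, hp]
    · simp [v, h0, h1]
  · change Matrix.diagonal v = c • 1 at h
    have e0 := congrFun (congrFun h i0) i0
    have e2 := congrFun (congrFun h i2) i2
    simp [v, i0, i1, i2, Fin.ext_iff] at e0 e2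
    rw [e0, ← e2]

/-- Subgroups of `GU` normalised by it, of order prime to `p` modulo scalars. -/
theorem scalar_of_normalised (hF : Fintype.card F = q ^ 2) (hn : 3 ≤ n) (hs : ¬ (n = 3 ∧ q = 2)) {p : ℕ}
    (N : Subgroup (GL (Fin n) F)) (hN : N ≤ Cfsg.GU n F q)
    (hnorm : ∀ w ∈ Cfsg.GU n F q, ∀ d ∈ N, w * d * w⁻¹ ∈ N)
    (hodd : ∀ d ∈ N, ∃ k : ℕ, k.Coprime p ∧ ∃ c : F, (d ^ k).val = c • (1 : Mn))
    {w : Cfsg.GU n F q} (hw1 : (w : GL (Fin n) F).val.det = 1)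
    (hwp : ∃ c : F, ((w : GL (Fin n) F) ^ p).val = c • (1 : Mn)) (hwc : ∀ c : F, (w : GL (Fin n) F).val ≠ c • (1 : Mn))
    {d : GL (Fin n) F} (hd : d ∈ N) : ∃ c : F, d.val = c • (1 : Mn) := by
  classical
  set C := (Matrix.GeneralLinearGroup.scalar (Fin n) : Fˣ →* GL (Fin n) F).range
  have hC : ∀ {x : GL (Fin n) F}, x ∈ C → ∀ y, y * x = x * y := by
    rintro _ ⟨c, rfl⟩ y
    exact (Matrix.GeneralLinearGroup.scalar_commute c y).symm
  let j : Cfsg.SU n F q →* GL (Fin n) F := (Cfsg.GU n F q).subtype.comp suGU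
  have hcen : ∀ z ∈ Subgroup.center (Cfsg.SU n F q), j z ∈ C := fun z hz => by
    have h1 : (conjU (suGU z) : MulAut (Cfsg.PSU n F q)) = 1 := by
      rw [conjU_suGU, (QuotientGroup.eq_one_iff z).2 hz, map_one]
    obtain ⟨c, hc⟩ := (conjU_eq_one_iff hF hn _).1 h1
    exact ⟨c, hc.symm⟩
  haveI : (N.comap j).Normal := ⟨fun x hx y => by
    rw [Subgroup.mem_comap, map_mul, map_mul, map_inv]
    exact hnorm _ (suGU y).2 _ hx⟩
  have hM : N.comap j ≤ Subgroup.center (Cfsg.SU n F q) := by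
    refine (ClassicalSimple.SU_normal_eq_top_or_le_center hF hn hs _).resolve_left fun h => ?_
    have hjw : j (toSU w hw1) = (w : GL (Fin n) F) := Units.ext rfl
    have hwN : (w : GL (Fin n) F) ∈ N := hjw ▸ Subgroup.mem_comap.1 (h ▸ Subgroup.mem_top (toSU w hw1))
    obtain ⟨k, hk, hc⟩ := hodd _ hwN
    obtain ⟨c, hc'⟩ := (mem_scal_range_iff (by omega)).1 (mem_of_pow_mem_coprime
      ((mem_scal_range_iff (by omega)).2 hc) ((mem_scal_range_iff (by omega)).2 hwp) hk)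
    exact hwc c hc'
  have hc : ∀ s, d * j s * d⁻¹ * (j s)⁻¹ ∈ C := fun s => by
    have hs' : d * j s * d⁻¹ = j (conjSU ⟨d, hN hd⟩ s) := by
      show _ = ((suGU (conjSU ⟨d, hN hd⟩ s) : Cfsg.GU n F q) : GL (Fin n) F)
      rw [suGU_conjSU]
      rfl
    have hmem : conjSU ⟨d, hN hd⟩ s * s⁻¹ ∈ N.comap j := by
      rw [Subgroup.mem_comap, map_mul, map_inv, ← hs', mul_assoc d, mul_assoc d]
      exact N.mul_mem hd (hnorm _ (suGU s).2 _ (N.inv_mem hd))
    rw [hs', ← map_inv, ← map_mul]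
    exact hcen _ (hM hmem)
  let φ : Cfsg.SU n F q →* C := MonoidHom.mk' (fun s => ⟨_, hc s⟩) fun a b => Subtype.ext (by
    show d * j (a * b) * d⁻¹ * (j (a * b))⁻¹ = d * j a * d⁻¹ * (j a)⁻¹ * (d * j b * d⁻¹ * (j b)⁻¹)
    have hb := hC (hc b) (j a)⁻¹
    rw [mul_assoc (d * j a * d⁻¹), hb, map_mul]
    group)
  have hφ : ∀ s, φ s = 1 := fun s => by
    have h1 : commutator (Cfsg.SU n F q) ≤ φ.ker := by
      rw [commutator_def, Subgroup.commutator_le]
      intro a _ b _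
      rw [MonoidHom.mem_ker, map_commutatorElement, commutatorElement_eq_one_iff_mul_comm]
      exact Subtype.ext (hC (φ b).2 _)
    exact h1 (ClassicalSimple.SU_perfect hF hn hs ▸ Subgroup.mem_top s)
  have h1 : (conjU (⟨d, hN hd⟩ : Cfsg.GU n F q) : MulAut (Cfsg.PSU n F q)) = 1 := MulEquiv.ext fun x => by
    induction x using QuotientGroup.induction_on with
    | _ s =>
      rw [conjU_mk]
      refine congrArg QuotientGroup.mk (su_ext ?_)
      have h := congrArg Subtype.val (hφ s)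
      change d * j s * d⁻¹ * (j s)⁻¹ = 1 at h
      exact congrArg Units.val (mul_inv_eq_one.1 h)
  obtain ⟨c, hc⟩ := (conjU_eq_one_iff hF hn _).1 h1
  exact ⟨(c : F), by
    rw [show d = Matrix.GeneralLinearGroup.scalar (Fin n) c from hc, GraphAut.scalar_transpose]⟩

section Field

variable (hF : Fintype.card F = q ^ 2)
  {F₀ : Type*} [Field F₀] [Fintype F₀] {q₀ p : ℕ} (hF₀ : Fintype.card F₀ = q₀ ^ 2)
  (hqq : q = q₀ ^ p) (hro : Odd p) {σ : F ≃+* F} (hσ : orderOf σ = p)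
  {ι : F₀ →+* F} (hι : ∀ a : F, σ a = a ↔ a ∈ Set.range ι) (hn : 3 ≤ n)

local notation "PSUn" => Cfsg.PSU n F q
local notation "emb" => embGU (n := n) hF hF₀ hqq hro hι

include hn in
theorem conjU_emb_eq_iff (a b : Cfsg.GU n F₀ q₀) :
    (conjU (emb a) : MulAut PSUn) = conjU (emb b) ↔ (conjU a : MulAut (Cfsg.PSU n F₀ q₀)) = conjU b := by
  have key : ∀ x, (conjU (emb x) : MulAut PSUn) = 1 ↔ (conjU x : MulAut (Cfsg.PSU n F₀ q₀)) = 1 := fun x => by
    have h : x ∈ (conjU.comp emb).ker ↔ _ := SetLike.ext_iff.1 (ker_embU hF hF₀ hqq hro hι hn) x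
    rw [MonoidHom.mem_ker, Subgroup.mem_subgroupOf, GraphAut.mem_scalars, MonoidHom.comp_apply] at h
    rw [h, conjU_eq_one_iff hF₀ hn]
    exact ⟨fun ⟨c, hc⟩ => ⟨c, hc.symm⟩, fun ⟨c, hc⟩ => ⟨c, hc.symm⟩⟩
  rw [← inv_mul_eq_one, ← map_inv, ← map_mul, ← map_inv, ← map_mul, key, map_mul, map_inv, inv_mul_eq_one]

theorem det_emb (x : Cfsg.GU n F₀ q₀) (h : (x : GL (Fin n) F₀).val.det = 1) :
    ((emb x : Cfsg.GU n F q) : GL (Fin n) F).val.det = 1 := by
  rw [embGU_val, ← RingHom.mapMatrix_apply, ← RingHom.map_det, h, map_one]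

theorem mk_emb_mem_fixK (x : Cfsg.GU n F₀ q₀) (h : ((emb x : Cfsg.GU n F q) : GL (Fin n) F).val.det = 1) :
    (QuotientGroup.mk (toSU (emb x) h) : PSUn) ∈ fixK (fieldU σ : MulAut PSUn) := by
  rw [mem_fixK, fieldU_mk]
  refine congrArg QuotientGroup.mk (su_ext ?_)
  rw [fieldSU_coe]
  show ((emb x : Cfsg.GU n F q) : GL (Fin n) F).val.map σ = ((emb x : Cfsg.GU n F q) : GL (Fin n) F).val
  rw [embGU_val]
  ext i j
  exact sigma_iota hι _

include hF hF₀ hqq hro hσ hι hn in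
theorem fix_ne_bot_fieldU : fixK (fieldU σ : MulAut PSUn) ≠ ⊥ := by
  intro hbot
  obtain ⟨ζ, hζ, hζ1⟩ : ∃ ζ : F₀, ζ ^ (q₀ + 1) = 1 ∧ ζ ≠ 1 := by
    haveI : Nontrivial (powMonoidHom (α := F₀ˣ) (q₀ + 1)).ker :=
      Finite.one_lt_card_iff_nontrivial.1 (by rw [Forms.card_norm_kernel hF₀]; have := Forms.one_lt_q hF₀; omega)
    obtain ⟨⟨x, hx⟩, hx1⟩ := exists_ne (1 : (powMonoidHom (α := F₀ˣ) (q₀ + 1)).ker)
    exact ⟨x, by simpa using congrArg Units.val hx, fun h => hx1 (Subtype.ext (Units.ext h))⟩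
  obtain ⟨w, hw1, -, hwc⟩ := exists_diag hF₀ hn hζ hζ hζ1
  have h := mk_emb_mem_fixK hF hF₀ hqq hro hι w (det_emb hF hF₀ hqq hro hι w hw1)
  rw [hbot, Subgroup.mem_bot] at h
  have h1 : (conjU (emb w) : MulAut PSUn) = conjU (emb 1) := by
    rw [map_one, map_one, show emb w = suGU (toSU (emb w) (det_emb hF hF₀ hqq hro hι w hw1)) from
      Subtype.ext (Units.ext rfl), conjU_suGU, h, map_one]
  rw [conjU_emb_eq_iff hF hF₀ hqq hro hι hn, map_one, conjU_eq_one_iff hF₀ hn] at h1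
  obtain ⟨c, hc⟩ := h1
  exact hwc c (by rw [hc, GraphAut.scalar_transpose])

include hF hF₀ hqq hro hσ hι hn in
theorem core_fix_fieldU [Fact p.Prime] (hdvd : p ∣ Nat.card (fixK (fieldU σ : MulAut PSUn))) :
    Cfsg.pPrimeCore p (fixK (fieldU σ : MulAut PSUn)) = ⊥ := by
  classical
  have hp : p.Prime := Fact.out
  set Φ : Cfsg.GU n F₀ q₀ →* MulAut PSUn := conjU.comp emb
  have hrange := range_embU hF hF₀ hqq hro hσ hι hn
  have hmemr : ∀ k ∈ fixK (fieldU σ : MulAut PSUn), MulAut.conj k ∈ Φ.range := fun k hk => by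
    rw [hrange]
    exact ⟨inn_le_inndiag ⟨k, rfl⟩, Subgroup.mem_centralizer_singleton_iff.2 (commute_conj hk).eq⟩
  refine core_fix_of_hom (conj_injective_PSU hF hn) _ (Cfsg.GU n F₀ q₀) _ le_rfl Φ
    (ker_embU hF hF₀ hqq hro hι hn) (fun k => ?_) hmemr (fun N hN hnorm hodd d hd => ?_)
  · have h : Φ k ∈ Cfsg.inndiagPSU n F q ⊓ Subgroup.centralizer {(fieldU σ : MulAut PSUn)} := hrange ▸ ⟨k, rfl⟩
    exact Subgroup.mem_centralizer_singleton_iff.1 h.2
  obtain ⟨⟨k, hk⟩, hko⟩ := exists_prime_orderOf_dvd_card' p hdvd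
  replace hko : orderOf k = p := (Subgroup.orderOf_coe _).trans hko
  obtain ⟨y, hy⟩ := hmemr k hk
  by_cases hex : n = 3 ∧ q₀ = 2
  · obtain ⟨rfl, rfl⟩ := hex
    have hp3 : p = 3 := by
      have h1 : p ∣ Nat.card (Cfsg.GU 3 F₀ 2) := by
        rw [← hko, ← orderOf_injective (MulAut.conj : Cfsg.PSU 3 F q →* _) (conj_injective_PSU hF hn) k, ← hy]
        exact (orderOf_map_dvd Φ y).trans (orderOf_dvd_natCard y)
      rw [← Forms.card_PSU_mul hF₀ (by norm_num : 1 ≤ 3), (S0282.result (by rw [hF₀]; norm_num)).1] at h1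
      have h2 : p ∣ 2 ^ 3 * 3 ^ 4 := h1
      rcases hp.dvd_mul.1 h2 with h | h
      · obtain rfl := (Nat.prime_dvd_prime_iff_eq hp Nat.prime_two).1 (hp.dvd_of_dvd_pow h)
        exact absurd hro (by decide)
      · exact (Nat.prime_dvd_prime_iff_eq hp Nat.prime_three).1 (hp.dvd_of_dvd_pow h)
    subst hp3
    exact scalar_three_two hF₀ N hN hnorm hodd hd
  by_cases hd1 : p ∣ q₀ + 1
  · obtain ⟨ζ, hζ⟩ := exists_prime_orderOf_dvd_card' (G := (powMonoidHom (α := F₀ˣ) (q₀ + 1)).ker) p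
      (by rw [Forms.card_norm_kernel hF₀]; exact hd1)
    have e1 : ((ζ : F₀ˣ) : F₀) ^ (q₀ + 1) = 1 := by
      rw [← Units.val_pow_eq_pow_val]; exact congrArg Units.val ζ.2
    have e2 : ((ζ : F₀ˣ) : F₀) ^ p = 1 := by
      have := pow_orderOf_eq_one ζ
      rw [hζ] at this
      rw [← Units.val_pow_eq_pow_val, ← SubmonoidClass.coe_pow, this, OneMemClass.coe_one, Units.val_one]
    obtain ⟨w, hw1, hw2, hwc⟩ := exists_diag hF₀ hn e1 e2 (fun h => hp.ne_one (by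
      rw [← hζ, orderOf_eq_one_iff]; exact Subtype.ext (Units.ext h)))
    exact scalar_of_normalised hF₀ hn hex N hN hnorm hodd hw1 ⟨1, by rw [Units.val_pow_eq_pow_val, hw2, one_smul]⟩
      hwc hd
  have hdet : ((y ^ (q₀ + 1) : Cfsg.GU n F₀ q₀) : GL (Fin n) F₀).val.det = 1 := by
    rw [SubmonoidClass.coe_pow, Units.val_pow_eq_pow_val, Matrix.det_pow]
    exact Forms.det_pow_of_mem_GU hF₀ y.2
  have hscal : ∀ m : ℕ, (∃ c : F₀, ((y ^ m : Cfsg.GU n F₀ q₀) : GL (Fin n) F₀).val = c • 1) ↔ p ∣ m := fun m => by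
    rw [← mem_scal_range_iff (by omega), ← hko, orderOf_dvd_iff_pow_eq_one,
      ← (conj_injective_PSU hF hn).eq_iff, map_pow, map_one, ← hy, ← map_pow]
    show _ ↔ y ^ m ∈ Φ.ker
    rw [ker_embU hF hF₀ hqq hro hι hn, Subgroup.mem_subgroupOf, GraphAut.mem_scalars]
    rfl
  refine scalar_of_normalised hF₀ hn hex N hN hnorm hodd hdet ?_
    (fun c hc => hd1 ((hscal _).1 ⟨c, hc⟩)) hd
  have h := (hscal ((q₀ + 1) * p)).2 (Dvd.intro_left _ rfl)
  rwa [pow_mul, SubmonoidClass.coe_pow] at h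

include hF hF₀ hqq hro hσ hι hn in
theorem eq_one_of_fix_fieldU (hs : ¬ (n = 3 ∧ q = 2)) {a : MulAut PSUn} (hax : Commute a (fieldU σ : MulAut PSUn))
    (hfix : ∀ k ∈ fixK (fieldU σ : MulAut PSUn), a k = k) (hco : (orderOf a).Coprime p) : a = 1 := by
  classical
  obtain ⟨h, τ, rfl⟩ := exists_decomposition hF hn hs a
  have e := hax.eq
  rw [mul_assoc, ← map_mul fieldU, ← mul_assoc, fieldU_mul_conjU, mul_assoc, ← map_mul fieldU] at e
  obtain ⟨hτσ, hh⟩ := eq_of_decomposition hF hn e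
  obtain ⟨g, z, hzU, hgz⟩ := (mem_centralizer_fieldU_iff hF hF₀ hqq hro hσ hι hn h).1 (by
    rw [mul_inv_eq_iff_eq_mul, fieldU_mul_conjU, ← hh])
  have hhg : (conjU h : MulAut PSUn) = conjU (emb g) := by
    rw [show h = emb g * (⟨_, (scalar_mem_GU hF (by omega) z).2 hzU⟩ : Cfsg.GU n F q) from Subtype.ext hgz,
      map_mul, conjU_of_scalar (⟨_, (scalar_mem_GU hF (by omega) z).2 hzU⟩ : Cfsg.GU n F q) (c := z) rfl, mul_one]
  have hrest : ∀ x : F₀, ∃ y : F₀, ι y = τ (ι x) := fun x => (hι _).1 (by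
    rw [← RingAut.mul_apply, ← hτσ, RingAut.mul_apply, sigma_iota hι])
  choose τf hτf using hrest
  let τh : F₀ →+* F₀ :=
    { toFun := τf
      map_one' := ι.injective (by rw [hτf, map_one, map_one])
      map_zero' := ι.injective (by rw [hτf, map_zero, map_zero])
      map_add' := fun x y => ι.injective (by rw [hτf, map_add, map_add, map_add, hτf, hτf])
      map_mul' := fun x y => ι.injective (by rw [hτf, map_mul, map_mul, map_mul, hτf, hτf]) }
  let τ₀ : F₀ ≃+* F₀ := RingEquiv.ofBijective τh (Finite.injective_iff_bijective.1 τh.injective)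
  have hτ₀ : ∀ x, ι (τ₀ x) = τ (ι x) := hτf
  have hemb : ∀ x, guMap τ (emb x) = emb (guMap τ₀ x) := fun x => Subtype.ext (Units.ext (by
    rw [guMap_coe, FieldExt.glMap_val, embGU_val, embGU_val, guMap_coe, FieldExt.glMap_val]
    ext i j
    exact (hτ₀ _).symm))
  rw [hhg] at hfix hco ⊢
  have h₀ : (conjU g * fieldU τ₀ : MulAut (Cfsg.PSU n F₀ q₀)) = 1 := by
    refine MulEquiv.ext fun x => ?_
    induction x using QuotientGroup.induction_on with
    | _ s₀ =>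
      have hd := det_emb hF hF₀ hqq hro hι _ (det_suGU s₀)
      obtain ⟨c, hc⟩ := conjU_eq_of_fix hF hn (s := toSU (emb (suGU s₀)) hd) (x := emb (suGU s₀))
        (Subtype.ext (Units.ext rfl)) (hfix _ (mk_emb_mem_fixK hF hF₀ hqq hro hι _ hd))
      have e1 := (conjU_eq_conjU_iff hF hn _ _).2 ⟨c, hc⟩
      rw [hemb, ← map_mul, ← map_mul, conjU_emb_eq_iff hF hF₀ hqq hro hι hn] at e1
      refine conj_injective_PSU hF₀ hn (mul_right_cancel (b := conjU g * fieldU τ₀) ?_)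
      rw [MulAut.one_apply, ← mul_conj, ← conjU_suGU, mul_assoc, fieldU_mul_conjU, ← mul_assoc, ← map_mul, e1,
        map_mul, mul_assoc]
  obtain ⟨hτ1, c, hc⟩ := eq_one_of_fix hF₀ hn _ _ h₀
  have hg1 : (conjU (emb g) : MulAut PSUn) = 1 := by
    rw [← map_one (conjU : Cfsg.GU n F q →* _), ← map_one emb, conjU_emb_eq_iff hF hF₀ hqq hro hι hn, map_one,
      conjU_of_scalar g hc]
  rw [hg1, one_mul] at hco ⊢
  rw [orderOf_fieldU hF hn] at hco
  rw [eq_one_of_fix_field hσ (fun t ht => ?_) (pow_orderOf_eq_one τ) hco, map_one]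
  obtain ⟨t₀, rfl⟩ := (hι t).1 ht
  rw [← hτ₀, hτ1, RingAut.one_apply]

end Field

/-- **The centraliser of an automorphism of odd order outside `PGU_n(q)`.** -/
theorem core_ne_bot_iff_fieldU (hF : Fintype.card F = q ^ 2) {r : ℕ} [Fact r.Prime] [CharP F r] (hn : 3 ≤ n)
    (hs : ¬ (n = 3 ∧ q = 2)) {p : ℕ} [Fact p.Prime] (hp2 : Odd p) (g : Cfsg.GU n F q) (σ : F ≃+* F)
    (hσ : orderOf σ = p) (hpow : (conjU g * fieldU σ : MulAut (Cfsg.PSU n F q)) ^ p = 1)
    (A : Subgroup (MulAut (Cfsg.PSU n F q))) (hinn : ∀ k : Cfsg.PSU n F q, MulAut.conj k ∈ A) :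
    Cfsg.pPrimeCore p ↥(A ⊓ Subgroup.centralizer {(conjU g * fieldU σ : MulAut (Cfsg.PSU n F q))}) ≠ ⊥ ↔
      Nat.Coprime p (Nat.card (fixK (conjU g * fieldU σ : MulAut (Cfsg.PSU n F q)))) := by
  obtain ⟨f, hf⟩ : ∃ f, q = r ^ f := by
    obtain ⟨e, -, he⟩ := FiniteField.card F r
    obtain ⟨f, -, hf⟩ := (Nat.dvd_prime_pow (Fact.out : r.Prime)).1
      (show q ∣ r ^ (e : ℕ) from he ▸ hF ▸ dvd_pow_self q two_ne_zero)
    exact ⟨f, hf⟩
  obtain ⟨-, hqq, hcard⟩ := fixed_card hf hF σ hσ (Fact.out : p.Prime) hp2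
  haveI : Fintype (FieldExt.fixedField σ) := Fintype.ofFinite _
  have hF₀ : Fintype.card (FieldExt.fixedField σ) = (r ^ (f / p)) ^ 2 := by rw [← Nat.card_eq_fintype_card, hcard]
  let ι : FieldExt.fixedField σ →+* F := (FieldExt.fixedField σ).subtype
  have hι : ∀ a : F, σ a = a ↔ a ∈ Set.range ι := fun a =>
    ⟨fun h => ⟨⟨a, FieldExt.mem_fixedField.2 h⟩, rfl⟩, by rintro ⟨b, rfl⟩; exact FieldExt.mem_fixedField.1 b.2⟩
  obtain ⟨k, hk⟩ := lang_fieldU hF hF₀ hqq hp2 hσ hι hn g hpow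
  rw [hk]
  exact core_ne_bot_iff_conj (conj_injective_PSU hF hn) _ _ A hinn
    (fix_ne_bot_fieldU hF hF₀ hqq hp2 hσ hι hn) (core_fix_fieldU hF hF₀ hqq hp2 hσ hι hn)
    (fun a hax hfix hco => eq_one_of_fix_fieldU hF hF₀ hqq hp2 hσ hι hn hs hax hfix hco)

end Cfsg.Agent.LocalBalance
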