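import Cfsg.Agent.Lib.LocalBalance.GraphFix
import Cfsg.Agent.Lib.AutPSU.Out
import Cfsg.Agent.Lib.AutPSU.Group
import Cfsg.Agent.Lib.Field.Fixed
import Mathlib.GroupTheory.FixedPointFree

/-!
The centraliser of an involution outside `PGU_n(q)`, `q` odd.
-/

set_option autoImplicit false
set_option linter.unusedSectionVars false

open Matrix
open scoped MatrixGroups

namespace Cfsg.Agent.LocalBalance

open Cfsg.Agent.AutPSU

variable {n : ℕ} {F : Type*} [Field F] [Fintype F] {q : ℕ} (hF : Fintype.card F = q ^ 2)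

local notation "PSUn" => Cfsg.PSU n F q
local notation "Mn" => Matrix (Fin n) (Fin n) F

include hF in
theorem conj_injective_PSU (hn : 3 ≤ n) : Function.Injective (MulAut.conj : PSUn → MulAut PSUn) := by
  refine (injective_iff_map_eq_one _).2 fun k hk => ?_
  obtain ⟨s, rfl⟩ := QuotientGroup.mk_surjective k
  rw [← conjU_suGU, conjU_eq_one_iff hF hn] at hk
  obtain ⟨c, hc⟩ := hk
  refine (QuotientGroup.eq_one_iff s).2 (Subgroup.mem_center_iff.2 fun x => su_ext ?_)
  have h : Matrix.GeneralLinearGroup.scalar (Fin n) c * ((suGU x : Cfsg.GU n F q) : GL (Fin n) F) =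
      ((suGU x : Cfsg.GU n F q) : GL (Fin n) F) * Matrix.GeneralLinearGroup.scalar (Fin n) c :=
    Matrix.GeneralLinearGroup.scalar_commute c _
  rw [← hc] at h
  exact congrArg Units.val h.symm

include hF in
theorem mem_fixK_of_commute (hn : 3 ≤ n) {x : MulAut PSUn} {k : PSUn} (h : Commute (MulAut.conj k) x) :
    k ∈ fixK x :=
  (conj_injective_PSU hF hn (mul_right_cancel (h.eq.trans (mul_conj x k)))).symm

include hF in
/-- A semilinear automorphism fixing a class. -/
theorem conjU_eq_of_fix (hn : 3 ≤ n) {h : Cfsg.GU n F q} {τ : F ≃+* F} {x : Cfsg.GU n F q} {s : Cfsg.SU n F q}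
    (hs : suGU s = x) (hfix : (conjU h * fieldU τ : MulAut PSUn) (QuotientGroup.mk s) = QuotientGroup.mk s) :
    ∃ c : F, ((h * guMap τ x : Cfsg.GU n F q) : GL (Fin n) F).val =
      c • ((x * h : Cfsg.GU n F q) : GL (Fin n) F).val := by
  have e := mul_conj (conjU h * fieldU τ : MulAut PSUn) (QuotientGroup.mk s)
  rw [hfix, ← conjU_suGU, hs, mul_assoc, fieldU_mul_conjU, ← mul_assoc, ← mul_assoc, mul_left_inj, ← map_mul,
    ← map_mul] at e
  exact (conjU_eq_conjU_iff hF hn _ _).1 e

include hF in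
theorem fix_ne_bot_of_invol (hn : 3 ≤ n) (hs : ¬ (n = 3 ∧ q = 2)) {x : MulAut PSUn} (hx : x * x = 1) :
    fixK x ≠ ⊥ := by
  intro h
  haveI := ClassicalSimple.PSU_isSimpleGroup hF hn hs
  have hff : MonoidHom.FixedPointFree x := fun g hg => Subgroup.mem_bot.1 (h ▸ (hg : g ∈ fixK x))
  have hcomm := hff.commute_all_of_involutive (φ := x) (fun g => DFunLike.congr_fun hx g)
  obtain ⟨k, hk⟩ := exists_ne (1 : PSUn)
  refine hk (conj_injective_PSU hF hn ?_)
  rw [map_one]
  exact MulEquiv.ext fun y => by rw [MulAut.conj_apply, (hcomm k y).eq, mul_inv_cancel_right, MulAut.one_apply]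

/-- Graph automorphisms. -/
theorem gautU_facts (hn : 3 ≤ n) (hs : ¬ (n = 3 ∧ q = 2)) (h2 : (2 : F) ≠ 0) (g : Cfsg.GU n F q) {e : F}
    (he : e = 1 ∨ e = -1) (hg : (g : GL (Fin n) F).val * (g : GL (Fin n) F).val.map (qAut hF) = e • 1) :
    Cfsg.pPrimeCore 2 (fixK (gautU hF g)) = ⊥ ∧
      ∀ a : MulAut PSUn, Commute a (gautU hF g) → (∀ k ∈ fixK (gautU hF g), a k = k) →
        (orderOf a).Coprime 2 → a = 1 := by
  classical
  haveI : Fact (Nat.Prime 2) := ⟨Nat.prime_two⟩
  let ι : FieldExt.fixedField (qAut hF) →+* F := (FieldExt.fixedField (qAut hF)).subtype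
  haveI : Fintype (FieldExt.fixedField (qAut hF)) := Fintype.ofFinite _
  have hι : ∀ a : F, qAut hF a = a ↔ a ∈ Set.range ι := fun a =>
    ⟨fun h => ⟨⟨a, FieldExt.mem_fixedField.2 h⟩, rfl⟩, by rintro ⟨b, rfl⟩; exact FieldExt.mem_fixedField.1 b.2⟩
  have h2' : (2 : FieldExt.fixedField (qAut hF)) ≠ 0 := fun h => h2 (by
    have := congrArg ι h
    rwa [map_ofNat, map_zero] at this)
  obtain ⟨b, M, hD⟩ := exists_desc hF hι g he hg
  obtain ⟨e₀, hε, -, hMt⟩ := hD.eps hF
  have hM := hD.det_ne_zero hF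
  have hcent : ∀ k : GraphAut.simM M, Commute (centU hF hι hn hD k) (gautU hF g) := fun k => by
    have h : centU hF hι hn hD k ∈ Cfsg.inndiagPSU n F q ⊓ Subgroup.centralizer {gautU hF g} :=
      range_centU hF hι hn hD ▸ ⟨k, rfl⟩
    exact Subgroup.mem_centralizer_singleton_iff.1 h.2
  refine ⟨core_fix_of_hom (conj_injective_PSU hF hn) (gautU hF g) (GraphAut.simM M) (GraphAut.isoM M)
    (GraphAut.isoM_le_simM _) (centU hF hι hn hD) (ker_centU hF hι hn hD) hcent (fun k hk => ?_)
    (fun N hN hnorm hodd d hd' => ?_), fun a _ hfix hco => ?_⟩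
  · rw [range_centU hF hι hn hD]
    exact ⟨inn_le_inndiag ⟨k, rfl⟩, Subgroup.mem_centralizer_singleton_iff.2 (commute_conj hk).eq⟩
  · exact odd_simM hn h2' M hM hε hMt N hN hnorm
      (fun x hx => by
        obtain ⟨k, hk, hc⟩ := hodd x hx
        exact ⟨k, Nat.coprime_two_right.1 hk, hc⟩) hd'
  · obtain ⟨h, τ, rfl⟩ := exists_decomposition hF hn hs a
    set g' : GL (Fin n) F := b⁻¹ * (h : GL (Fin n) F) * FieldExt.glMap τ b with hg'
    have hT : Twisted (fun W => Wᵀ * M * W = M ∧ W.det = 1) ι τ g' := by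
      intro W hW
      let w : GL (Fin n) (FieldExt.fixedField (qAut hF)) :=
        Matrix.GeneralLinearGroup.mkOfDetNeZero W (by rw [hW.2]; exact one_ne_zero)
      have hw : w ∈ GraphAut.simM M := GraphAut.isoM_le_simM _ hW.1
      obtain ⟨x, hx1, -⟩ := intertwine_of_sim hF hι hD hD w 1
        (show w.valᵀ * M * w.val = _ by rw [Units.val_one, one_smul]; exact hW.1) 1 (by simp)
      rw [Units.val_one, one_smul] at hx1
      have hdet : (x : GL (Fin n) F).val.det = 1 := by
        rw [hx1, Matrix.det_units_conj]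
        show (W.map ι).det = 1
        rw [← RingHom.mapMatrix_apply, ← RingHom.map_det, hW.2, map_one]
      have hcx : Commute (conjU x : MulAut PSUn) (gautU hF g) := by
        rw [← conjU_lift_eq hF hι hn hD ⟨w, hw⟩ x 1 (by rw [one_smul]; exact hx1)]
        exact hcent _
      have hsx : suGU (toSU x hdet) = x := Subtype.ext (Units.ext rfl)
      have hfix' := hfix _ (mem_fixK_of_commute hF hn (k := QuotientGroup.mk (toSU x hdet))
        (by rw [← conjU_suGU, hsx]; exact hcx))
      obtain ⟨c, hc⟩ := conjU_eq_of_fix hF hn hsx hfix'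
      refine ⟨c, ?_⟩
      rw [Subgroup.coe_mul, Subgroup.coe_mul, Units.val_mul, Units.val_mul, guMap_coe, FieldExt.glMap_val, hx1,
        Matrix.map_mul, Matrix.map_mul, show w.val = W from rfl] at hc
      have hbb : (b⁻¹).val.map τ * b.val.map τ = 1 := by
        rw [← Matrix.map_mul, Units.inv_mul, Matrix.map_one τ (map_zero τ) (map_one τ)]
      have h' := congrArg (fun X => (b⁻¹).val * X * b.val.map τ) hc
      simp only [Matrix.mul_assoc, hbb, Matrix.mul_one, Matrix.mul_smul, Matrix.smul_mul, Units.inv_mul_cancel_left]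
        at h'
      rw [hg', Units.val_mul, Units.val_mul, FieldExt.glMap_val]
      simp only [Matrix.mul_assoc]
      exact h'
    set k := orderOf (conjU h * fieldU τ : MulAut PSUn)
    have hpow := pow_orderOf_eq_one (conjU h * fieldU τ : MulAut PSUn)
    rw [conjU_mul_fieldU_pow] at hpow
    obtain ⟨hτk, z, hz⟩ := eq_one_of_fix hF hn _ _ hpow
    rw [tnU_coe] at hz
    have hnorm : ∀ j, FieldExt.twistNorm τ g' j =
        b⁻¹ * FieldExt.twistNorm τ (h : GL (Fin n) F) j * FieldExt.glMap (τ ^ j) b := by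
      intro j
      induction j with
      | zero => rw [FieldExt.twistNorm_zero, FieldExt.twistNorm_zero, pow_zero, FieldExt.glMap_one, mul_one,
          inv_mul_cancel]
      | succ j ih =>
        rw [FieldExt.twistNorm_succ, ih, map_mul, map_mul, map_inv, FieldExt.twistNorm_succ, ← FieldExt.glMap_mul,
          ← pow_succ', hg']
        group
    obtain ⟨hτ, z', hz'⟩ := twisted_simM hn h2' M hM hε hMt hT ⟨k, Nat.coprime_two_right.1 hco, hτk, (z : F), by
      rw [hnorm, hτk, FieldExt.glMap_one, hz, Units.val_mul, Units.val_mul, GraphAut.scalar_transpose]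
      simp⟩
    have hτ1 : τ = 1 := eq_one_of_fix_field (orderOf_qAut hF) (fun t ht => by
      obtain ⟨t₀, rfl⟩ := (hι t).1 ht
      exact hτ t₀) hτk hco
    rw [hτ1, map_one, mul_one]
    rw [hg', hτ1, FieldExt.glMap_one, Units.val_mul, Units.val_mul] at hz'
    have h' := congrArg (fun X => b.val * X * (b⁻¹).val) hz'
    simp only [Matrix.mul_assoc, Units.mul_inv, Matrix.mul_one, Units.mul_inv_cancel_left, Matrix.mul_smul,
      Matrix.smul_mul, Matrix.one_mul] at h'
    have hz0 : z' ≠ 0 := fun h0 => by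
      rw [h0, zero_smul] at h'
      exact AutPSU.val_ne_zero (by omega) _ h'
    exact conjU_of_scalar h (c := Units.mk0 z' hz0) (Units.ext (by
      rw [GraphAut.scalar_transpose, Units.val_mk0, h']))

/-- **The centraliser of an involution outside `PGU_n(q)`.** -/
theorem core_ne_bot_iff_gautU (hn : 3 ≤ n) (hs : ¬ (n = 3 ∧ q = 2)) (h2 : (2 : F) ≠ 0) (g : Cfsg.GU n F q)
    (hord : orderOf (gautU hF g) = 2) (A : Subgroup (MulAut PSUn)) (hinn : ∀ k : PSUn, MulAut.conj k ∈ A) :
    Cfsg.pPrimeCore 2 ↥(A ⊓ Subgroup.centralizer {gautU hF g}) ≠ ⊥ ↔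
      Nat.Coprime 2 (Nat.card (fixK (gautU hF g))) := by
  haveI : Fact (Nat.Prime 2) := ⟨Nat.prime_two⟩
  obtain ⟨g', e, hge, he, hg'⟩ := exists_gautU_of_invol hF hn _ (isGraph_gautU hF hn g) hord
  obtain ⟨h1, h3⟩ := gautU_facts hF hn hs h2 g' he hg'
  rw [hge] at hord ⊢
  exact core_ne_bot_iff (conj_injective_PSU hF hn) _ A hinn
    (fix_ne_bot_of_invol hF hn hs (by rw [← sq, ← hord, pow_orderOf_eq_one])) (fun _ => h1) h3

end Cfsg.Agent.LocalBalance
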