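import Mathlib

/-!
A group of automorphisms of a simple group, normalised by the inner ones and of order prime to a prime divisor
of the order of the group, is trivial.
-/

set_option autoImplicit false

namespace Cfsg.Agent.LocalBalance

/-- A `p'`-group of automorphisms normalised by the inner automorphisms of a simple group is trivial. -/
theorem eq_one_of_normalised {K : Type*} [Group K] [Finite K] [IsSimpleGroup K]
    (hinj : Function.Injective (MulAut.conj : K → MulAut K)) {p : ℕ} [Fact p.Prime] (hdvd : p ∣ Nat.card K)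
    (N : Subgroup (MulAut K)) (hnorm : ∀ k : K, ∀ a ∈ N, MulAut.conj k * a * (MulAut.conj k)⁻¹ ∈ N)
    (hcop : ∀ a ∈ N, ∃ t : ℕ, t.Coprime p ∧ a ^ t = 1) {a : MulAut K} (ha : a ∈ N) : a = 1 := by
  let j : K →* MulAut K := MulAut.conj
  haveI : (N.comap j).Normal := ⟨fun x hx y => by
    rw [Subgroup.mem_comap, map_mul, map_mul, map_inv]
    exact hnorm y _ hx⟩
  rcases Subgroup.Normal.eq_bot_or_eq_top (inferInstance : (N.comap j).Normal) with h | h
  · refine MulEquiv.ext fun k => ?_
    have hmem : a k * k⁻¹ ∈ N.comap j := by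
      rw [Subgroup.mem_comap, map_mul, map_inv]
      have e : j (a k) = a * j k * a⁻¹ := MulEquiv.ext fun y => by simp [j]
      rw [e, mul_assoc a, mul_assoc a]
      exact N.mul_mem ha (hnorm k _ (N.inv_mem ha))
    rw [h, Subgroup.mem_bot, mul_inv_eq_one] at hmem
    exact hmem
  · exfalso
    obtain ⟨k, hk⟩ := exists_prime_orderOf_dvd_card' p hdvd
    obtain ⟨t, ht, e⟩ := hcop (j k) (Subgroup.mem_comap.1 (h ▸ Subgroup.mem_top k))
    have h1 := orderOf_dvd_of_pow_eq_one e
    rw [orderOf_injective j hinj k, hk] at h1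
    exact (Fact.out : p.Prime).coprime_iff_not_dvd.1 ht.symm h1

end Cfsg.Agent.LocalBalance
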