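import Cfsg.Agent.Lib.GraphAut.Sim
import Cfsg.Agent.Lib.GL.Basic
import Cfsg.Agent.Lib.QForm.Diag
import Mathlib.GroupTheory.FixedPointFree

/-!
A group of similitudes of a non-degenerate symmetric form in dimension at least three, odd modulo scalars and
normalised by the isometries, consists of scalars.

The proof fixes an orthogonal basis and does induction over the set of basis vectors not yet known to be
eigenvectors. The step uses fixed-point-free involutions; the case of three vectors uses Sylow's theorem.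
-/

set_option autoImplicit false
set_option linter.unusedSectionVars false

open Matrix
open scoped MatrixGroups

namespace Cfsg.Agent.LocalBalance

open Cfsg.Agent.GraphAut

/-- An involution without fixed points on `G / K` inverts it. -/
theorem mul_conj_mem_of_fixedPointFree {Γ : Type*} [Group Γ] [Finite Γ] {G K : Subgroup Γ} {r : Γ} (hr : r * r = 1)
    (hKG : K ≤ G) (hn : ∀ x ∈ G, ∀ k ∈ K, x * k * x⁻¹ ∈ K) (hG : ∀ x ∈ G, r * x * r ∈ G)
    (hK : ∀ x ∈ K, r * x * r ∈ K) (hfree : ∀ x ∈ G, x⁻¹ * (r * x * r) ∈ K → x ∈ K) {x : Γ} (hx : x ∈ G) :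
    x * (r * x * r) ∈ K := by
  haveI : (K.subgroupOf G).Normal := ⟨fun k hk g => hn g g.2 k hk⟩
  let θ : G →* G :=
    { toFun := fun y => ⟨r * y * r, hG y y.2⟩
      map_one' := Subtype.ext (by simp [hr])
      map_mul' := fun y z => Subtype.ext (by
        show r * (y * z : Γ) * r = r * y * r * (r * z * r)
        calc r * ((y : Γ) * z) * r = r * y * 1 * z * r := by group
          _ = r * y * (r * r) * z * r := by rw [hr]
          _ = r * y * r * (r * z * r) := by group) }
  let φ : G ⧸ K.subgroupOf G →* G ⧸ K.subgroupOf G :=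
    QuotientGroup.map _ _ θ fun y hy => hK y hy
  have hinvol : Function.Involutive φ := fun q => by
    induction q using QuotientGroup.induction_on with
    | _ y =>
      show φ (φ (QuotientGroup.mk y)) = _
      refine congrArg QuotientGroup.mk (Subtype.ext ?_)
      show r * (r * y * r) * r = (y : Γ)
      calc r * (r * (y : Γ) * r) * r = (r * r) * y * (r * r) := by group
        _ = y := by rw [hr, one_mul, mul_one]
  have hfree' : MonoidHom.FixedPointFree φ := fun q => by
    induction q using QuotientGroup.induction_on with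
    | _ y =>
      intro e
      refine (QuotientGroup.eq_one_iff y).2 (hfree y y.2 ?_)
      have e' : (QuotientGroup.mk y : G ⧸ K.subgroupOf G) = QuotientGroup.mk (θ y) := e.symm
      exact (QuotientGroup.eq (s := K.subgroupOf G) (a := y) (b := θ y)).1 e'
  have h := congrFun (MonoidHom.FixedPointFree.coe_eq_inv_of_involutive hfree' hinvol)
    (QuotientGroup.mk (⟨x, hx⟩ : G))
  have h2 : (QuotientGroup.mk (⟨x, hx⟩ * θ ⟨x, hx⟩) : G ⧸ K.subgroupOf G) = 1 := by
    rw [QuotientGroup.mk_mul]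
    exact mul_eq_one_iff_eq_inv'.2 h
  exact (QuotientGroup.eq_one_iff (⟨x, hx⟩ * θ ⟨x, hx⟩)).1 h2

variable {ι : Type} [Fintype ι] [DecidableEq ι] {F : Type*} [Field F]

/-- Vectors supported in `S`. -/
def Supp (S : Finset ι) (v : ι → F) : Prop := ∀ k ∉ S, v k = 0

theorem supp_single {S : Finset ι} {j : ι} (hj : j ∈ S) (a : F) : Supp S (Pi.single j a) := fun k hk =>
  Pi.single_eq_of_ne (fun e : k = j => hk (e ▸ hj)) _

theorem Supp.smul {S : Finset ι} {v : ι → F} (h : Supp S v) (a : F) : Supp S (a • v) := fun k hk => by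
  simp [h k hk]

theorem mulVec_inv (d : GL ι F) (v : ι → F) : (d⁻¹ : GL ι F).val *ᵥ (d.val *ᵥ v) = v := by
  rw [Matrix.mulVec_mulVec, Units.inv_mul, Matrix.one_mulVec]

theorem mulVec_inv' (d : GL ι F) (v : ι → F) : d.val *ᵥ ((d⁻¹ : GL ι F).val *ᵥ v) = v := by
  rw [Matrix.mulVec_mulVec, Units.mul_inv, Matrix.one_mulVec]

theorem mulVec_mul (d e : GL ι F) (v : ι → F) : (d * e).val *ᵥ v = d.val *ᵥ (e.val *ᵥ v) := by
  rw [Units.val_mul, Matrix.mulVec_mulVec]

theorem mulVec_eq_zero (d : GL ι F) {v : ι → F} (h : d.val *ᵥ v = 0) : v = 0 := by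
  rw [← mulVec_inv d v, h, Matrix.mulVec_zero]

/-- Basis vectors outside `S` are eigenvectors. -/
def lineStab (S : Finset ι) : Subgroup (GL ι F) where
  carrier := {d | ∀ i ∉ S, ∃ a : Fˣ, d.val *ᵥ Pi.single i 1 = (a : F) • Pi.single i 1}
  one_mem' i _ := ⟨1, by rw [Units.val_one, Units.val_one, Matrix.one_mulVec, one_smul]⟩
  mul_mem' {d e} hd he i hi := by
    obtain ⟨a, ha⟩ := hd i hi
    obtain ⟨b, hb⟩ := he i hi
    exact ⟨b * a, by rw [mulVec_mul, hb, Matrix.mulVec_smul, ha, smul_smul, Units.val_mul]⟩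
  inv_mem' {d} hd i hi := by
    obtain ⟨a, ha⟩ := hd i hi
    refine ⟨a⁻¹, ?_⟩
    have h := mulVec_inv d (Pi.single i (1 : F))
    rw [ha, Matrix.mulVec_smul] at h
    have h' := congrArg (fun w => ((a⁻¹ : Fˣ) : F) • w) h
    simp only [smul_smul, Units.inv_mul, one_smul] at h'
    exact h'

theorem mem_lineStab {S : Finset ι} {d : GL ι F} :
    d ∈ lineStab S ↔ ∀ i ∉ S, ∃ a : Fˣ, d.val *ᵥ Pi.single i 1 = (a : F) • Pi.single i 1 := Iff.rfl

theorem lineStab_mono {S T : Finset ι} (h : S ⊆ T) : (lineStab S : Subgroup (GL ι F)) ≤ lineStab T :=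
  fun _ hd i hi => hd i fun hS => hi (h hS)

theorem mem_lineStab_erase {S : Finset ι} {d : GL ι F} (hd : d ∈ lineStab S) (i : ι)
    (hi : ∀ k, k ≠ i → d.val k i = 0) : d ∈ lineStab (S.erase i) := by
  intro j hj
  rcases eq_or_ne j i with rfl | hji
  · have hcol : d.val *ᵥ Pi.single j 1 = d.val j j • Pi.single j 1 := by
      funext k
      rw [Matrix.mulVec_single_one]
      rcases eq_or_ne k j with rfl | hk
      · simp
      · simp [hk, hi k hk]
    have h0 : d.val j j ≠ 0 := fun h0 => by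
      rw [h0, zero_smul] at hcol
      simpa using congrFun (mulVec_eq_zero d hcol) j
    exact ⟨Units.mk0 _ h0, hcol⟩
  · exact hd j fun hS => hj (Finset.mem_erase.2 ⟨hji, hS⟩)

/-- Scalar on the vectors supported in `S`. -/
def scalStab (S : Finset ι) : Subgroup (GL ι F) where
  carrier := {d | ∃ a : Fˣ, ∀ v, Supp S v → d.val *ᵥ v = (a : F) • v}
  one_mem' := ⟨1, fun v _ => by simp⟩
  mul_mem' := by
    rintro d e ⟨a, ha⟩ ⟨b, hb⟩
    exact ⟨b * a, fun v hv => by rw [mulVec_mul, hb v hv, Matrix.mulVec_smul, ha v hv, smul_smul, Units.val_mul]⟩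
  inv_mem' := by
    rintro d ⟨a, ha⟩
    refine ⟨a⁻¹, fun v hv => ?_⟩
    have h := congrArg (fun w => ((a⁻¹ : Fˣ) : F) • w) (mulVec_inv d v)
    rw [ha v hv, Matrix.mulVec_smul, smul_smul, Units.inv_mul, one_smul] at h
    exact h

theorem mem_scalStab {S : Finset ι} {d : GL ι F} :
    d ∈ scalStab S ↔ ∃ a : Fˣ, ∀ v, Supp S v → d.val *ᵥ v = (a : F) • v := Iff.rfl

theorem scalar_mem_scalStab (S : Finset ι) {d : GL ι F} {c : F} (h : d.val = c • (1 : Matrix ι ι F)) :
    d ∈ scalStab S := by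
  rcases S.eq_empty_or_nonempty with rfl | ⟨j, -⟩
  · refine ⟨1, fun v hv => ?_⟩
    rw [show v = 0 from funext fun k => hv k (Finset.notMem_empty k)]
    simp
  · have hc : c ≠ 0 := fun h0 => by
      have h1 : d.val *ᵥ Pi.single j 1 = 0 := by rw [h, h0, zero_smul, Matrix.zero_mulVec]
      simpa using congrFun (mulVec_eq_zero d h1) j
    exact ⟨Units.mk0 c hc, fun v _ => by rw [h, Matrix.smul_mulVec, Matrix.one_mulVec, Units.val_mk0]⟩

theorem eq_zero_of_supp {S : Finset ι} {v : ι → F} (hv : Supp S v) (h : ∀ k ∈ S, v k = 0) : v = 0 :=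
  funext fun k => (em (k ∈ S)).elim (h k) (hv k)

/-- The data of the argument. -/
structure OddData (δ : ι → F) (N : Subgroup (GL ι F)) : Prop where
  two : (2 : F) ≠ 0
  ne : ∀ i, δ i ≠ 0
  sim : N ≤ simM (Matrix.diagonal δ)
  odd : ∀ d ∈ N, ∃ k : ℕ, Odd k ∧ ∃ c : F, (d ^ k).val = c • (1 : Matrix ι ι F)
  norm : ∀ w ∈ isoM (Matrix.diagonal δ), ∀ d ∈ N, w * d * w⁻¹ ∈ N

variable {δ : ι → F} {N : Subgroup (GL ι F)}

/-- The form. -/
def fD (δ : ι → F) (u v : ι → F) : F := ∑ k, δ k * (u k * v k)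

theorem dot_diag (δ u v : ι → F) : u ⬝ᵥ (Matrix.diagonal δ *ᵥ v) = fD δ u v := by
  simp only [dotProduct, Matrix.mulVec_diagonal, fD]
  exact Finset.sum_congr rfl fun k _ => by ring

theorem fD_single (δ : ι → F) (t : ι) (v : ι → F) : fD δ (Pi.single t 1) v = δ t * v t := by
  rw [fD, Finset.sum_eq_single t]
  · simp
  · intro b _ hb; simp [hb]
  · simp

theorem fD_smul_left (δ : ι → F) (a : F) (u v : ι → F) : fD δ (a • u) v = a * fD δ u v := by
  simp only [fD, Finset.mul_sum, Pi.smul_apply, smul_eq_mul]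
  exact Finset.sum_congr rfl fun k _ => by ring

theorem fD_smul_right (δ : ι → F) (a : F) (u v : ι → F) : fD δ u (a • v) = a * fD δ u v := by
  simp only [fD, Finset.mul_sum, Pi.smul_apply, smul_eq_mul]
  exact Finset.sum_congr rfl fun k _ => by ring

theorem sim_fD {d : GL ι F} (hd : d ∈ simM (Matrix.diagonal δ)) :
    ∃ c : F, c ≠ 0 ∧ ∀ u v, fD δ (d.val *ᵥ u) (d.val *ᵥ v) = c * fD δ u v := by
  obtain ⟨c, hc⟩ := mem_simM.1 hd
  refine ⟨c, c.ne_zero, fun u v => ?_⟩
  rw [← dot_diag, ← dot_diag, bil_mulVec, hc, Matrix.smul_mulVec, dotProduct_smul, smul_eq_mul]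

theorem OddData.eigen (hN : OddData δ N) {d : GL ι F} (hd : d ∈ simM (Matrix.diagonal δ)) {t : ι} {a : F}
    (ha0 : a ≠ 0) (ha : d.val *ᵥ Pi.single t 1 = a • Pi.single t 1) :
    ∀ v, (d.val *ᵥ v) t = a * v t := by
  obtain ⟨c, -, hc⟩ := sim_fD hd
  intro v
  have h1 := hc (Pi.single t 1) v
  have h2 := hc (Pi.single t 1) (Pi.single t 1)
  rw [ha, fD_smul_left, fD_single, fD_single] at h1
  rw [ha, fD_smul_left, fD_smul_right, fD_single, Pi.single_eq_same] at h2
  have hsq : c = a * a := mul_right_cancel₀ (hN.ne t) (by linear_combination -h2)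
  subst hsq
  refine mul_left_cancel₀ (mul_ne_zero ha0 (hN.ne t)) ?_
  linear_combination h1

theorem OddData.supp_mulVec (hN : OddData δ N) {S : Finset ι} {d : GL ι F} (hd : d ∈ N) (hl : d ∈ lineStab S)
    {v : ι → F} (hv : Supp S v) : Supp S (d.val *ᵥ v) := fun t ht => by
  obtain ⟨a, ha⟩ := hl t ht
  rw [hN.eigen (hN.sim hd) a.ne_zero ha v, hv t ht, mul_zero]

/-- The sign change at `i`. -/
def sgn (i : ι) : GL ι F := GL.diagHom (Function.update 1 i (-1))

theorem sgn_mulVec (i : ι) (v : ι → F) (k : ι) :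
    ((sgn i : GL ι F).val *ᵥ v) k = if k = i then -(v k) else v k := by
  rw [sgn, GL.coe_diagHom, Matrix.mulVec_diagonal]
  rcases eq_or_ne k i with rfl | h <;> simp [*]

theorem sgn_mul_self (i : ι) : (sgn i : GL ι F) * sgn i = 1 := by
  rw [sgn, ← map_mul, ← map_one (GL.diagHom : (ι → Fˣ) →* GL ι F)]
  congr 1
  funext k
  rcases eq_or_ne k i with rfl | h <;> simp [*]

theorem sgn_inv (i : ι) : (sgn i : GL ι F)⁻¹ = sgn i := inv_eq_of_mul_eq_one_right (sgn_mul_self i)

theorem sgn_mem_isoM (δ : ι → F) (i : ι) : (sgn i : GL ι F) ∈ isoM (Matrix.diagonal δ) := by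
  rw [mem_isoM, sgn, GL.coe_diagHom, Matrix.diagonal_transpose, Matrix.diagonal_mul_diagonal,
    Matrix.diagonal_mul_diagonal]
  congr 1
  funext k
  rcases eq_or_ne k i with rfl | h <;> simp [*]

theorem sgn_mem_lineStab (S : Finset ι) (i : ι) : (sgn i : GL ι F) ∈ lineStab S := by
  intro j _
  refine ⟨(Function.update 1 i (-1) : ι → Fˣ) j, ?_⟩
  funext k
  rw [sgn_mulVec, Pi.smul_apply, smul_eq_mul]
  rcases eq_or_ne k j with rfl | hk
  · rcases eq_or_ne k i with rfl | h <;> simp [*]
  · simp [hk]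

theorem supp_sgn {S : Finset ι} (i : ι) {v : ι → F} (hv : Supp S v) : Supp S ((sgn i : GL ι F).val *ᵥ v) :=
  fun k hk => by rw [sgn_mulVec]; simp [hv k hk]

theorem supp_sgn' {S : Finset ι} {i : ι} {v : ι → F} (hi : i ∉ S) (hv : Supp S v) :
    (sgn i : GL ι F).val *ᵥ v = v := funext fun k => by
  rw [sgn_mulVec]
  split_ifs with h
  · subst h; simp [hv k hi]
  · rfl

theorem conj_sgn_scalStab {S : Finset ι} (i : ι) {d : GL ι F} (hd : d ∈ scalStab S) :
    sgn i * d * sgn i ∈ scalStab S := by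
  obtain ⟨a, ha⟩ := hd
  refine ⟨a, fun v hv => ?_⟩
  rw [mulVec_mul, mulVec_mul, ha _ (supp_sgn i hv), Matrix.mulVec_smul, ← mulVec_mul, sgn_mul_self,
    Units.val_one, Matrix.one_mulVec]

theorem OddData.conj_sgn (hN : OddData δ N) {S : Finset ι} (i : ι) {d : GL ι F} (hd : d ∈ N ⊓ lineStab S) :
    sgn i * d * sgn i ∈ N ⊓ lineStab S := by
  refine ⟨?_, Subgroup.mul_mem _ (Subgroup.mul_mem _ (sgn_mem_lineStab S i) hd.2) (sgn_mem_lineStab S i)⟩
  have := hN.norm _ (sgn_mem_isoM δ i) d hd.1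
  rwa [sgn_inv] at this

/-- The statement proved by induction on `S`. -/
def ScalarOn (N : Subgroup (GL ι F)) (S : Finset ι) : Prop := N ⊓ lineStab S ≤ scalStab S

theorem OddData.scalStab_normal (hN : OddData δ N) {S : Finset ι} {x k : GL ι F} (hx : x ∈ N ⊓ lineStab S)
    (hk : k ∈ scalStab S) : x * k * x⁻¹ ∈ scalStab S := by
  obtain ⟨a, ha⟩ := hk
  refine ⟨a, fun v hv => ?_⟩
  have hx' : x⁻¹ ∈ N ⊓ lineStab S := Subgroup.inv_mem _ hx
  rw [mulVec_mul, mulVec_mul, ha _ (hN.supp_mulVec hx'.1 hx'.2 hv), Matrix.mulVec_smul, mulVec_inv']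

/-- A fixed point of a sign change has a diagonal column. -/
theorem OddData.col_of_fixed (hN : OddData δ N) {S : Finset ι} {i : ι} (hi : i ∈ S) (h3 : 3 ≤ S.card) {d : GL ι F}
    (hd : d ∈ N ⊓ lineStab S) (hz : d⁻¹ * (sgn i * d * sgn i) ∈ scalStab S) :
    ∀ k, k ≠ i → d.val k i = 0 := by
  obtain ⟨a, ha⟩ := hz
  have key : ∀ j ∈ S, ∀ k, (if k = i then -1 else (1 : F)) * (if j = i then -1 else 1) * d.val k j =
      (a : F) * d.val k j := by
    intro j hj k
    have h := ha _ (supp_single hj 1)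
    rw [mulVec_mul, mulVec_mul, mulVec_mul,
      show (sgn i : GL ι F).val *ᵥ Pi.single j 1 = (if j = i then (-1 : F) else 1) • Pi.single j 1 from
      funext fun l => by
        rw [sgn_mulVec, Pi.smul_apply, smul_eq_mul]
        rcases eq_or_ne l j with rfl | hl
        · split_ifs <;> simp
        · simp [hl]] at h
    have h' := congrArg (fun w => (d.val *ᵥ w) k) h
    simp only [mulVec_inv'] at h'
    rw [sgn_mulVec, Matrix.mulVec_smul, Matrix.mulVec_smul, Pi.smul_apply, Pi.smul_apply, Matrix.mulVec_single_one,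
      Matrix.col_apply, smul_eq_mul, smul_eq_mul] at h'
    rw [← h']
    split_ifs <;> ring
  by_cases ha1 : (a : F) = 1
  · intro k hk
    have h := key i hi k
    rw [if_neg hk, if_pos rfl, ha1] at h
    have h2 : (2 : F) * d.val k i = 0 := by linear_combination -h
    exact (mul_eq_zero.1 h2).resolve_left hN.two
  · exfalso
    have hcol : ∀ j ∈ S, j ≠ i → ∀ k, k ≠ i → d.val k j = 0 := fun j hj hji k hk => by
      have h := key j hj k
      rw [if_neg hk, if_neg hji] at h
      have h2 : (1 - (a : F)) * d.val k j = 0 := by linear_combination h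
      exact (mul_eq_zero.1 h2).resolve_left (sub_ne_zero.2 (Ne.symm ha1))
    have h2' : 2 ≤ (S.erase i).card := by rw [Finset.card_erase_of_mem hi]; omega
    obtain ⟨j, hj, l, hl, hjl⟩ := Finset.one_lt_card.1 h2'
    rw [Finset.mem_erase] at hj hl
    have hv : d.val *ᵥ (d.val i l • Pi.single j (1 : F) - d.val i j • Pi.single l 1) = 0 := by
      funext k
      rw [Matrix.mulVec_sub, Matrix.mulVec_smul, Matrix.mulVec_smul, Matrix.mulVec_single_one,
        Matrix.mulVec_single_one, Pi.sub_apply, Pi.smul_apply, Pi.smul_apply, Pi.zero_apply, smul_eq_mul, smul_eq_mul,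
        Matrix.col_apply, Matrix.col_apply]
      rcases eq_or_ne k i with rfl | hk
      · ring
      · rw [hcol j hj.2 hj.1 k hk, hcol l hl.2 hl.1 k hk]; ring
    have h0 := congrFun (mulVec_eq_zero d hv) l
    simp [hjl.symm] at h0
    have hcj : d.val *ᵥ Pi.single j (1 : F) = 0 := funext fun k => by
      rw [Matrix.mulVec_single_one, Matrix.col_apply, Pi.zero_apply]
      rcases eq_or_ne k i with rfl | hk
      · exact h0
      · exact hcol j hj.2 hj.1 k hk
    simpa using congrFun (mulVec_eq_zero d hcj) j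

/-- If no sign change has non-trivial fixed points, everything is scalar. -/
theorem OddData.scalarOn_of_free (hN : OddData δ N) [Finite F] {S : Finset ι} (h3 : 3 ≤ S.card)
    (hfree : ∀ i ∈ S, ∀ d ∈ N ⊓ lineStab S, (∀ k, k ≠ i → d.val k i = 0) → d ∈ scalStab S) : ScalarOn N S := by
  classical
  haveI : Finite (GL ι F) := inferInstance
  intro d hd
  set K := N ⊓ lineStab S ⊓ scalStab S
  have hinv : ∀ i ∈ S, ∀ x ∈ N ⊓ lineStab S, x * (sgn i * x * sgn i) ∈ K := fun i hi x hx => by
    refine mul_conj_mem_of_fixedPointFree (sgn_mul_self i) inf_le_left (fun x hx k hk =>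
      ⟨Subgroup.mul_mem _ (Subgroup.mul_mem _ hx hk.1) (Subgroup.inv_mem _ hx), hN.scalStab_normal hx hk.2⟩)
      (fun x hx => hN.conj_sgn i hx) (fun x hx => ⟨hN.conj_sgn i hx.1, conj_sgn_scalStab i hx.2⟩)
      (fun x hx hk => ⟨hx, hfree i hi x hx (hN.col_of_fixed hi h3 hx hk.2)⟩) hx
  obtain ⟨t, hodd, c, hc⟩ := hN.odd d hd.1
  have hcol : ∀ i ∈ S, ∀ l ∈ S, l ≠ i → ∀ k, k ≠ i → k ≠ l → d.val k i = 0 := by
    intro i hi l hl hli k hki hkl
    set C : GL ι F := sgn l * sgn i
    have hC : ∀ v, C.val *ᵥ v = fun k => (if k = l then -1 else (1 : F)) * (if k = i then -1 else 1) * v k := fun v =>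
      funext fun k => by
        rw [mulVec_mul, sgn_mulVec, sgn_mulVec]
        split_ifs <;> ring
    have hCC : C * C = 1 := by
      rw [show C = GL.diagHom (Function.update (1 : ι → Fˣ) l (-1) * Function.update (1 : ι → Fˣ) i (-1)) from
        (map_mul GL.diagHom _ _).symm, ← map_mul, ← map_one (GL.diagHom : (ι → Fˣ) →* GL ι F)]
      congr 1
      funext j
      simp only [Pi.mul_apply, Pi.one_apply]
      rcases eq_or_ne j i with rfl | h <;> rcases eq_or_ne j l with rfl | h' <;> simp [*]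
    -- the product of the two sign changes fixes `d` modulo scalars
    obtain ⟨a, ha⟩ : ∃ a : Fˣ, ∀ v, Supp S v → (C * d * C).val *ᵥ v = (a : F) • (d.val *ᵥ v) := by
      have hy : sgn i * d * sgn i ∈ N ⊓ lineStab S := hN.conj_sgn i hd
      obtain ⟨z₁, hz₁⟩ := (hinv i hi d hd).2
      obtain ⟨z₂, hz₂⟩ := (hinv l hl _ hy).2
      refine ⟨z₁⁻¹ * z₂, fun v hv => ?_⟩
      have hCd : C * d * C = sgn l * (sgn i * d * sgn i) * sgn l := by
        have hcomm : (sgn l : GL ι F) * sgn i = sgn i * sgn l := by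
          rw [sgn, sgn, ← map_mul, mul_comm, map_mul]
        calc C * d * C = sgn l * sgn i * d * (sgn l * sgn i) := rfl
          _ = sgn l * sgn i * d * (sgn i * sgn l) := by rw [hcomm]
          _ = _ := by group
      rw [hCd]
      have hvl := hz₂ v hv
      rw [mulVec_mul] at hvl
      set u := (sgn l * (sgn i * d * sgn i) * sgn l).val *ᵥ v
      have hsu : Supp S u := by
        have := hN.conj_sgn l hy
        exact hN.supp_mulVec this.1 this.2 hv
      have h1 := hz₁ u hsu
      rw [mulVec_mul, hvl, Matrix.mulVec_smul] at h1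
      rw [Units.val_mul, mul_smul, h1, smul_smul, Units.inv_mul, one_smul]
    have hsig : ∀ j ∈ S, ∀ k, ((if k = l then -1 else (1 : F)) * (if k = i then -1 else 1)) *
        ((if j = l then -1 else (1 : F)) * (if j = i then -1 else 1)) * d.val k j = (a : F) * d.val k j := by
      intro j hj k
      have h := congrFun (ha _ (supp_single hj 1)) k
      rw [mulVec_mul, mulVec_mul, hC, hC, Pi.smul_apply, Matrix.mulVec_single_one, Matrix.col_apply, smul_eq_mul] at h
      rw [← h, show (fun k' => ((if k' = l then -1 else (1 : F)) * (if k' = i then -1 else 1)) *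
          (Pi.single j (1 : F) : ι → F) k') =
        ((if j = l then -1 else (1 : F)) * (if j = i then -1 else 1)) • Pi.single j 1 from funext fun k' => by
          rcases eq_or_ne k' j with rfl | hk' <;> simp [*],
        Matrix.mulVec_smul, Matrix.mulVec_single_one]
      simp only [Pi.smul_apply, Matrix.col_apply, smul_eq_mul]
      ring
    have ha1 : (a : F) = 1 := by
      obtain ⟨k₀, hk₀⟩ : ∃ k₀, d.val k₀ i ≠ 0 := by
        by_contra hall
        push Not at hall
        have : d.val *ᵥ Pi.single i (1 : F) = 0 := funext fun k₀ => by simpa using hall k₀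
        simpa using congrFun (mulVec_eq_zero d this) i
      have h := mul_right_cancel₀ hk₀ (hsig i hi k₀)
      have hpm : (a : F) = 1 ∨ (a : F) = -1 := by rw [← h]; split_ifs <;> simp
      refine hpm.resolve_right fun hm => ?_
      have hpow : ∀ (e : ℕ) v, Supp S v → ((C * d * C) ^ e).val *ᵥ v = (a : F) ^ e • ((d ^ e).val *ᵥ v) := by
        intro e
        induction e with
        | zero => intro v _; simp
        | succ e ih =>
          intro v hv
          have hde : d ^ e ∈ N ⊓ lineStab S := Subgroup.pow_mem _ hd e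
          rw [pow_succ', mulVec_mul, ih v hv, Matrix.mulVec_smul, ha _ (hN.supp_mulVec hde.1 hde.2 hv), smul_smul,
            ← mulVec_mul, ← pow_succ', pow_succ (a : F)]
      have hconj : (C * d * C) ^ t = C * d ^ t * C := by
        have hCi : C⁻¹ = C := inv_eq_of_mul_eq_one_right hCC
        have := conj_pow (i := t) (a := C) (b := d)
        rw [hCi] at this
        exact this
      have h' := hpow t _ (supp_single hi 1)
      rw [hconj, mulVec_mul, mulVec_mul, hc, hm, hodd.neg_one_pow, Matrix.smul_mulVec, Matrix.one_mulVec,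
        Matrix.smul_mulVec, Matrix.one_mulVec, Matrix.mulVec_smul, ← mulVec_mul, hCC, Units.val_one,
        Matrix.one_mulVec] at h'
      have h'' := congrFun h' i
      simp at h''
      have hc0 : c ≠ 0 := fun h0 => by
        have : (d ^ t).val *ᵥ Pi.single i (1 : F) = 0 := by rw [hc, h0, zero_smul, Matrix.zero_mulVec]
        simpa using congrFun (mulVec_eq_zero _ this) i
      exact hN.two (mul_right_cancel₀ hc0 (by linear_combination h''))
    have h := hsig i hi k
    rw [if_neg hkl, if_neg hki, if_neg hli.symm, if_pos rfl, ha1] at h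
    have h2 : (2 : F) * d.val k i = 0 := by linear_combination -h
    exact (mul_eq_zero.1 h2).resolve_left hN.two
  obtain ⟨i, hi⟩ := Finset.card_pos.1 (show 0 < S.card by omega)
  refine hfree i hi d hd fun k hk => ?_
  obtain ⟨l, hl, l', hl', hll⟩ := Finset.one_lt_card.1 (show 1 < (S.erase i).card by
    rw [Finset.card_erase_of_mem hi]; omega)
  rw [Finset.mem_erase] at hl hl'
  rcases eq_or_ne k l with rfl | hkl
  · exact hcol i hi l' hl'.2 hl'.1 k hk hll
  · exact hcol i hi l hl.2 hl.1 k hk hkl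

/-- Planar similitude with an eigenvector of value a root of the multiplier. -/
theorem plane_sq {a b c p q r s y z ρ : F} (ha : a ≠ 0) (hb : b ≠ 0) (h2 : (2 : F) ≠ 0) (hc : c ≠ 0)
    (e1 : a * p * p + b * r * r = c * a) (e2 : a * p * q + b * r * s = 0) (e3 : a * q * q + b * s * s = c * b)
    (hv1 : p * y + q * z = ρ * y) (hv2 : r * y + s * z = ρ * z) (hyz : y ≠ 0 ∨ z ≠ 0) (hρ : ρ * ρ = c) :
    p * p + q * r = c ∧ q * (p + s) = 0 ∧ r * (p + s) = 0 ∧ s * s + q * r = c := by
  have hA : p * (p * s - q * r) = c * s := mul_left_cancel₀ ha (by linear_combination s * e1 - r * e2)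
  have hB : a * q * c = -(b * r * (p * s - q * r)) := by linear_combination -q * e1 + p * e2
  have hD : (p * s - q * r) * (p * s - q * r) = c * c :=
    mul_left_cancel₀ (mul_ne_zero ha hb) (by
      linear_combination (a * q * q + b * s * s) * e1 + (c * a) * e3 - (a * p * q + b * r * s) * e2)
  have hchar : (p - ρ) * (s - ρ) - q * r = 0 := by
    rcases hyz with h | h
    · exact (mul_eq_zero.1 (show ((p - ρ) * (s - ρ) - q * r) * y = 0 by
        linear_combination (s - ρ) * hv1 - q * hv2)).resolve_right h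
    · exact (mul_eq_zero.1 (show ((p - ρ) * (s - ρ) - q * r) * z = 0 by
        linear_combination (p - ρ) * hv2 - r * hv1)).resolve_right h
  rcases mul_self_eq_mul_self_iff.1 hD with h | h
  · rw [h] at hA hB
    have hs : s = p := mul_left_cancel₀ hc (by linear_combination -hA)
    subst hs
    have hρ0 : ρ ≠ 0 := fun h0 => hc (by rw [← hρ, h0, mul_zero])
    have hps : s = ρ := by
      have : (2 : F) * ρ * (ρ - s) = 0 := by linear_combination hchar - h + hρ
      exact (sub_eq_zero.1 ((mul_eq_zero.1 this).resolve_left (mul_ne_zero h2 hρ0))).symm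
    have hqr : q * r = 0 := by rw [hps] at h; linear_combination -h + hρ
    have haq : a * q = -(b * r) := mul_right_cancel₀ hc (by linear_combination hB)
    have hq : q = 0 := by
      rcases mul_eq_zero.1 hqr with h0 | h0
      · exact h0
      · rw [h0, mul_zero, neg_zero] at haq
        exact (mul_eq_zero.1 haq).resolve_left ha
    have hr : r = 0 := by
      rw [hq, mul_zero, eq_comm, neg_eq_zero] at haq
      exact (mul_eq_zero.1 haq).resolve_left hb
    subst hq hr hps
    refine ⟨?_, by ring, by ring, ?_⟩ <;> linear_combination hρ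
  · rw [h] at hA hB
    have hps : p + s = 0 := (mul_eq_zero.1 (show c * (p + s) = 0 by linear_combination -hA)).resolve_left hc
    refine ⟨?_, by rw [hps, mul_zero], by rw [hps, mul_zero], ?_⟩
    · linear_combination p * hps - h
    · linear_combination s * hps - h

/-- A non-scalar element fixing `e i` fixes no other anisotropic line. -/
theorem OddData.eigen_unique (hN : OddData δ N) {S : Finset ι} {i l m : ι} (hS : S = {i, l, m}) (hil : i ≠ l)
    (him : i ≠ m) (hlm : l ≠ m) {d : GL ι F} (hd : d ∈ N ⊓ lineStab (S.erase i)) (hns : d ∉ scalStab S)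
    {v : ι → F} (hv : Supp S v) {ρ : F} (hρ : d.val *ᵥ v = ρ • v) (hf : fD δ v v ≠ 0) :
    v l = 0 ∧ v m = 0 := by
  classical
  by_contra hne
  have hiS : i ∈ S := by simp [hS]
  have hlS : l ∈ S := by simp [hS]
  have hmS : m ∈ S := by simp [hS]
  obtain ⟨μ, hμ⟩ := hd.2 i (by simp)
  obtain ⟨c, hc0, hc⟩ := sim_fD (hN.sim hd.1)
  have hev := hN.eigen (hN.sim hd.1) μ.ne_zero hμ
  have hcμ : c = μ * μ := by
    have h := hc (Pi.single i 1) (Pi.single i 1)
    rw [hμ, fD_smul_left, fD_smul_right, fD_single, Pi.single_eq_same] at h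
    exact mul_right_cancel₀ (hN.ne i) (by linear_combination -h)
  have hρc : ρ * ρ = c := by
    have h := hc v v
    rw [hρ, fD_smul_left, fD_smul_right] at h
    exact mul_right_cancel₀ hf (by linear_combination h)
  have hsl : Supp (S.erase i) (Pi.single l (1 : F)) := supp_single (Finset.mem_erase.2 ⟨hil.symm, hlS⟩) 1
  have hsm : Supp (S.erase i) (Pi.single m (1 : F)) := supp_single (Finset.mem_erase.2 ⟨him.symm, hmS⟩) 1
  have hdec : ∀ w : ι → F, Supp (S.erase i) w → w = w l • Pi.single l 1 + w m • Pi.single m 1 := fun w hw => by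
    funext k
    rcases eq_or_ne k l with rfl | h1
    · simp [hlm]
    rcases eq_or_ne k m with rfl | h2
    · simp [hlm.symm]
    · simp [h1, h2, hw k (by simp [hS, h1, h2])]
  set p := d.val l l
  set r := d.val m l
  set q := d.val l m
  set s := d.val m m
  have hl' : d.val *ᵥ Pi.single l 1 = p • Pi.single l 1 + r • Pi.single m 1 := by
    rw [hdec _ (hN.supp_mulVec hd.1 hd.2 hsl)]
    simp [Matrix.mulVec_single_one, p, r]
  have hm' : d.val *ᵥ Pi.single m 1 = q • Pi.single l 1 + s • Pi.single m 1 := by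
    rw [hdec _ (hN.supp_mulVec hd.1 hd.2 hsm)]
    simp [Matrix.mulVec_single_one, q, s]
  have hfl : ∀ x y x' y' : F, fD δ (x • Pi.single l 1 + y • Pi.single m 1) (x' • Pi.single l 1 + y' • Pi.single m 1) =
      δ l * x * x' + δ m * y * y' := by
    intro x y x' y'
    rw [fD, Fintype.sum_eq_add l m hlm fun k hk => by simp [hk.1, hk.2]]
    simp [hlm, hlm.symm]
    ring
  have e1 := hc (Pi.single l 1) (Pi.single l 1)
  rw [hl', hfl, fD_single, Pi.single_eq_same, mul_one] at e1
  have e2 := hc (Pi.single l 1) (Pi.single m 1)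
  rw [hl', hm', hfl, fD_single, Pi.single_eq_of_ne hlm, mul_zero, mul_zero] at e2
  have e3 := hc (Pi.single m 1) (Pi.single m 1)
  rw [hm', hfl, fD_single, Pi.single_eq_same, mul_one] at e3
  have hv' : v = v i • Pi.single i 1 + (v l • Pi.single l 1 + v m • Pi.single m 1) := by
    funext k
    rcases eq_or_ne k i with rfl | h0
    · simp [hil, him]
    rcases eq_or_ne k l with rfl | h1
    · simp [hlm, h0]
    rcases eq_or_ne k m with rfl | h2
    · simp [hlm.symm, h0]
    · simp [h0, h1, h2, hv k (by simp [hS, h0, h1, h2])]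
  have hkv : ∀ k, k ≠ i → (d.val *ᵥ v) k =
      (v l • (p • Pi.single l 1 + r • Pi.single m 1) + v m • (q • Pi.single l 1 + s • Pi.single m 1) : ι → F) k := by
    intro k hk
    conv_lhs => rw [hv']
    rw [Matrix.mulVec_add, Matrix.mulVec_add, Matrix.mulVec_smul, Matrix.mulVec_smul, Matrix.mulVec_smul, hμ, hl', hm']
    simp [hk]
  have hv1 : p * v l + q * v m = ρ * v l := by
    have h := hkv l hil.symm
    rw [hρ] at h
    simp [hlm] at h
    linear_combination -h
  have hv2 : r * v l + s * v m = ρ * v m := by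
    have h := hkv m him.symm
    rw [hρ] at h
    simp [hlm.symm] at h
    linear_combination -h
  obtain ⟨f1, f2, f3, f4⟩ := plane_sq (hN.ne l) (hN.ne m) hN.two hc0 e1 e2 e3 hv1 hv2
    (by by_contra hh; push Not at hh; exact hne hh) hρc
  -- the square is scalar, hence so is `d`
  have hsq : d * d ∈ scalStab S := by
    refine ⟨Units.mk0 c hc0, fun w hw => ?_⟩
    have hw' : w = w i • Pi.single i 1 + (w l • Pi.single l 1 + w m • Pi.single m 1) := by
      funext k
      rcases eq_or_ne k i with rfl | h0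
      · simp [hil, him]
      rcases eq_or_ne k l with rfl | h1
      · simp [hlm, h0]
      rcases eq_or_ne k m with rfl | h2
      · simp [hlm.symm, h0]
      · simp [h0, h1, h2, hw k (by simp [hS, h0, h1, h2])]
    have hi2 : (d * d).val *ᵥ Pi.single i 1 = c • Pi.single i 1 := by
      rw [mulVec_mul, hμ, Matrix.mulVec_smul, hμ, smul_smul, hcμ]
    have hl2 : (d * d).val *ᵥ Pi.single l 1 = c • Pi.single l 1 := by
      rw [mulVec_mul, hl', Matrix.mulVec_add, Matrix.mulVec_smul, Matrix.mulVec_smul, hl', hm', smul_add, smul_add,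
        smul_smul, smul_smul, smul_smul, smul_smul, add_add_add_comm, ← add_smul, ← add_smul,
        show p * p + r * q = c by linear_combination f1, show p * r + r * s = 0 by linear_combination f3,
        zero_smul, add_zero]
    have hm2 : (d * d).val *ᵥ Pi.single m 1 = c • Pi.single m 1 := by
      rw [mulVec_mul, hm', Matrix.mulVec_add, Matrix.mulVec_smul, Matrix.mulVec_smul, hl', hm', smul_add, smul_add,
        smul_smul, smul_smul, smul_smul, smul_smul, add_add_add_comm, ← add_smul, ← add_smul,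
        show q * p + s * q = 0 by linear_combination f2, show q * r + s * s = c by linear_combination f4,
        zero_smul, zero_add]
    rw [Units.val_mk0, hw', Matrix.mulVec_add, Matrix.mulVec_add, Matrix.mulVec_smul, Matrix.mulVec_smul,
      Matrix.mulVec_smul, hi2, hl2, hm2, smul_add, smul_add, smul_comm (w i), smul_comm (w l), smul_comm (w m)]
  obtain ⟨t, ⟨e, rfl⟩, c', hc'⟩ := hN.odd d hd.1
  refine hns ?_
  have h1 : d ^ (2 * e + 1) ∈ scalStab S := scalar_mem_scalStab S hc'
  rw [pow_succ', pow_mul, pow_two] at h1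
  exact (Subgroup.mul_mem_cancel_right _ (Subgroup.pow_mem _ hsq e)).1 h1

/-- The case of three vectors. -/
theorem OddData.scalarOn_three (hN : OddData δ N) [Finite F] {S : Finset ι} (h3 : S.card = 3) : ScalarOn N S := by
  classical
  refine hN.scalarOn_of_free h3.ge fun i hi d hd hcol => ?_
  by_contra hns
  obtain ⟨l, m, hlm, he⟩ := Finset.card_eq_two.1 (show (S.erase i).card = 2 by rw [Finset.card_erase_of_mem hi, h3])
  have hS : S = {i, l, m} := by rw [← Finset.insert_erase hi, he]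
  have hil : i ≠ l := fun e => by subst e; exact Finset.notMem_erase i S (he ▸ by simp)
  have him : i ≠ m := fun e => by subst e; exact Finset.notMem_erase i S (he ▸ by simp)
  haveI : Finite (GL ι F) := inferInstance
  set G := N ⊓ lineStab S
  set R := N ⊓ lineStab (S.erase i)
  have hRG : R ≤ G := inf_le_inf_left _ (lineStab_mono (Finset.erase_subset i S))
  have hdR : d ∈ R := ⟨hd.1, mem_lineStab_erase hd.2 i hcol⟩
  set K := (scalStab S).subgroupOf R
  have hK : K.index ≠ 1 := fun h => hns ((Subgroup.index_eq_one.1 h ▸ Subgroup.mem_top (⟨d, hdR⟩ : R) : _ ∈ K))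
  obtain ⟨ℓ, hℓ, hℓd⟩ := Nat.exists_prime_and_dvd hK
  haveI : Fact ℓ.Prime := ⟨hℓ⟩
  obtain ⟨P⟩ : Nonempty (Sylow ℓ R) := inferInstance
  obtain ⟨x₀, hx₀P, hx₀K⟩ : ∃ x ∈ (P : Subgroup R), x ∉ K := by
    by_contra hall
    push Not at hall
    exact P.not_dvd_index (hℓd.trans (Subgroup.index_dvd_of_le hall))
  set P₀ : Subgroup (GL ι F) := (P : Subgroup R).map R.subtype
  have hP₀R : P₀ ≤ R := by rintro _ ⟨y, -, rfl⟩; exact y.2
  have hP₀G : P₀ ≤ G := hP₀R.trans hRG
  have hd₀ : (x₀ : GL ι F) ∈ P₀ ∧ (x₀ : GL ι F) ∉ scalStab S := ⟨⟨x₀, hx₀P, rfl⟩, hx₀K⟩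
  -- the key property: an element of `G` moving `P₀` into `R` fixes the line of `e i`
  have key : ∀ x : GL ι F, x ∈ simM (Matrix.diagonal δ) → (∀ v, Supp S v → Supp S (x.val *ᵥ v)) →
      x⁻¹ * (x₀ : GL ι F) * x ∈ R → ∀ k, k ≠ i → x.val k i = 0 := by
    intro x hx hxS hconj
    obtain ⟨a, ha⟩ := hconj.2 i (by simp)
    rw [mulVec_mul, mulVec_mul] at ha
    have hv : (x₀ : GL ι F).val *ᵥ (x.val *ᵥ Pi.single i 1) = (a : F) • (x.val *ᵥ Pi.single i 1) := by
      rw [← Matrix.mulVec_smul, ← ha, mulVec_inv']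
    have hs := hxS _ (supp_single hi 1)
    obtain ⟨c, hc0, hc⟩ := sim_fD hx
    obtain ⟨h1, h2⟩ := hN.eigen_unique hS hil him hlm (hP₀R hd₀.1) hd₀.2 hs hv (by
      rw [hc, fD_single, Pi.single_eq_same, mul_one]; exact mul_ne_zero hc0 (hN.ne i))
    intro k hk
    rw [Matrix.mulVec_single_one, Matrix.col_apply] at h1 h2
    rcases eq_or_ne k l with rfl | hkl
    · exact h1
    rcases eq_or_ne k m with rfl | hkm
    · exact h2
    simpa [Matrix.mulVec_single_one] using hs k (by simp [hS, hk, hkl, hkm])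
  set P₁ : Subgroup G := P₀.subgroupOf G
  have hcard : Nat.card P₁ = Nat.card (P : Subgroup R) := by
    rw [Nat.card_congr (Subgroup.subgroupOfEquivOfLe hP₀G).toEquiv]
    exact Subgroup.card_subtype R _
  have hnorm : Subgroup.normalizer (P₁ : Set G) ≤ R.subgroupOf G := by
    intro x hx
    refine ⟨x.2.1, mem_lineStab_erase x.2.2 i (key _ (hN.sim x.2.1) (fun v hv => hN.supp_mulVec x.2.1 x.2.2 hv) ?_)⟩
    have h := (Subgroup.mem_normalizer_iff.1 (Subgroup.inv_mem _ hx) ⟨x₀, hP₀G hd₀.1⟩).1 hd₀.1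
    have h' : ((x : GL ι F)⁻¹ * (x₀ : GL ι F) * (x : GL ι F)⁻¹⁻¹) ∈ P₀ := h
    rw [inv_inv] at h'
    exact hP₀R h'
  have hPidx : ¬ ℓ ∣ P₁.index := by
    intro hdvd
    obtain ⟨n, hn⟩ := P.isPGroup'.exists_card_eq
    have hpn : ℓ ^ (n + 1) ∣ Nat.card G := by
      rw [← Subgroup.card_mul_index P₁, hcard, hn, pow_succ]
      exact Nat.mul_dvd_mul_left _ hdvd
    have h1 := Sylow.prime_dvd_card_quotient_normalizer hpn (H := P₁) (hcard.trans hn)
    have h2 : P₁.relIndex (Subgroup.normalizer (P₁ : Set G)) ∣ P₁.relIndex (R.subgroupOf G) :=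
      ⟨_, (Subgroup.relIndex_mul_relIndex _ _ _ Subgroup.le_normalizer hnorm).symm⟩
    have h3 : P₁.relIndex (R.subgroupOf G) = (P : Subgroup R).index := by
      rw [Subgroup.relIndex_subgroupOf hRG, Subgroup.relIndex]
      congr 1
      exact Subgroup.comap_map_eq_self_of_injective R.subtype_injective _
    exact P.not_dvd_index ((h1.trans h2).trans (dvd_of_eq h3))
  let Q : Sylow ℓ G := IsPGroup.toSylow (P := P₁)
    (IsPGroup.of_card (hcard.trans (P.isPGroup'.exists_card_eq).choose_spec)) hPidx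
  -- a reflection moving `e i` to an orthogonal vector of the same norm
  haveI : Fintype F := Fintype.ofFinite F
  obtain ⟨y, z, hyz⟩ := QForm.exists_two_squares_eq_one hN.two (div_ne_zero (hN.ne l) (hN.ne i))
    (div_ne_zero (hN.ne m) (hN.ne i))
  have hyz' : δ l * (y * y) + δ m * (z * z) = δ i := by
    have h0 := hN.ne i
    field_simp at hyz
    linear_combination hyz
  set b : ι → F := y • Pi.single l 1 + z • Pi.single m 1
  set v : ι → F := Pi.single i 1 - b
  set Dv : ι → F := fun k => δ k * v k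
  set Mg : Matrix ι ι F := 1 - (δ i)⁻¹ • Matrix.vecMulVec v Dv
  have hbi : b i = 0 := by simp [b, hil, him]
  have hbl : b l = y := by simp [b, hlm]
  have hbm : b m = z := by simp [b, hlm.symm]
  have hvS : Supp S v := fun k hk => by
    simp only [hS, Finset.mem_insert, Finset.mem_singleton, not_or] at hk
    simp [v, b, hk.1, hk.2.1, hk.2.2]
  have hMv : ∀ w, Mg *ᵥ w = w - ((δ i)⁻¹ * fD δ v w) • v := fun w => by
    simp only [Mg, Matrix.sub_mulVec, Matrix.one_mulVec, Matrix.smul_mulVec, Matrix.vecMulVec_mulVec]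
    congr 1
    funext k
    simp only [Pi.smul_apply, smul_eq_mul, op_smul_eq_smul, fD, dotProduct, Dv]
    rw [show (∑ j, δ j * v j * w j) = ∑ j, δ j * (v j * w j) from Finset.sum_congr rfl fun j _ => by ring]
    ring
  have hsum3 : ∀ w w' : ι → F, Supp S w → fD δ w w' = δ i * (w i * w' i) + δ l * (w l * w' l) + δ m * (w m * w' m) := by
    intro w w' hw
    rw [fD, ← Finset.sum_subset (Finset.subset_univ S) (fun k _ hk => by rw [hw k hk]; ring), hS,
      Finset.sum_insert (by simp [hil, him]), Finset.sum_pair hlm]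
    ring
  have hfvv : fD δ v v = 2 * δ i := by
    rw [hsum3 v v hvS]
    simp [v, hbi, hbl, hbm, hil.symm, him.symm]
    linear_combination hyz'
  have hMM : ∀ w, Mg *ᵥ (Mg *ᵥ w) = w := fun w => by
    rw [hMv w, Matrix.mulVec_sub, Matrix.mulVec_smul, hMv w, hMv v, hfvv]
    have h0 := hN.ne i
    funext k
    simp only [Pi.sub_apply, Pi.smul_apply, smul_eq_mul]
    field_simp
    ring
  have hMM' : Mg * Mg = 1 := Matrix.ext_iff_mulVec.2 fun w => by rw [← Matrix.mulVec_mulVec, hMM, Matrix.one_mulVec]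
  let g : GL ι F := ⟨Mg, Mg, hMM', hMM'⟩
  have hgg : g * g = 1 := Units.ext hMM'
  have hginv : g⁻¹ = g := inv_eq_of_mul_eq_one_right hgg
  have hfsymm : ∀ u w : ι → F, fD δ u w = fD δ w u := fun u w => Finset.sum_congr rfl fun k _ => by ring
  have hfsub : ∀ u u' w : ι → F, fD δ (u - u') w = fD δ u w - fD δ u' w := fun u u' w => by
    simp only [fD, Pi.sub_apply, ← Finset.sum_sub_distrib]
    exact Finset.sum_congr rfl fun k _ => by ring
  have hgiso : g ∈ isoM (Matrix.diagonal δ) := by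
    rw [mem_isoM]
    refine bil_inj fun u w => ?_
    rw [← bil_mulVec, dot_diag, dot_diag]
    show fD δ (Mg *ᵥ u) (Mg *ᵥ w) = _
    have hexp : ∀ a c : F, fD δ (u - a • v) (w - c • v) =
        fD δ u w - c * fD δ u v - a * fD δ v w + a * c * fD δ v v := fun a c => by
      simp only [fD, Finset.mul_sum, ← Finset.sum_sub_distrib, ← Finset.sum_add_distrib, Pi.sub_apply,
        Pi.smul_apply, smul_eq_mul]
      exact Finset.sum_congr rfl fun k _ => by ring
    rw [hMv u, hMv w, hexp, hfvv, hfsymm u v]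
    have h0 := hN.ne i
    field_simp
    ring
  have hgout : ∀ t ∉ S, g.val *ᵥ Pi.single t (1 : F) = Pi.single t 1 := fun t ht => by
    show Mg *ᵥ _ = _
    rw [hMv, hfsymm, fD_single, hvS t ht]
    simp
  have hgi : g.val *ᵥ Pi.single i (1 : F) = b := by
    show Mg *ᵥ _ = _
    rw [hMv, hfsymm, fD_single, show v i = 1 by simp [v, hbi], mul_one, inv_mul_cancel₀ (hN.ne i), one_smul,
      sub_sub_cancel]
  have hgS : ∀ w, Supp S w → Supp S (g.val *ᵥ w) := fun w hw k hk => by
    show (Mg *ᵥ w) k = 0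
    rw [hMv, Pi.sub_apply, Pi.smul_apply, hvS k hk, hw k hk, smul_zero, sub_zero]
  have hgl : g ∈ lineStab S := fun t ht => ⟨1, by rw [hgout t ht, Units.val_one, one_smul]⟩
  have hgG : ∀ x ∈ G, g * x * g⁻¹ ∈ G := fun x hx =>
    ⟨hN.norm g hgiso x hx.1, Subgroup.mul_mem _ (Subgroup.mul_mem _ hgl hx.2) (Subgroup.inv_mem _ hgl)⟩
  set P₂ : Subgroup G := (P₀.map (MulAut.conj g).toMonoidHom).subgroupOf G
  have hP₂G : P₀.map (MulAut.conj g).toMonoidHom ≤ G := by
    rintro _ ⟨x, hx, rfl⟩
    exact hgG x (hP₀G hx)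
  have hcard2 : Nat.card P₂ = Nat.card P₁ := by
    rw [Nat.card_congr (Subgroup.subgroupOfEquivOfLe hP₂G).toEquiv,
      Nat.card_congr (Subgroup.subgroupOfEquivOfLe hP₀G).toEquiv]
    exact (Nat.card_congr (P₀.equivMapOfInjective _ (MulAut.conj g).injective).toEquiv).symm
  let Q₂ : Sylow ℓ G := IsPGroup.toSylow (P := P₂)
    (IsPGroup.of_card ((hcard2.trans hcard).trans (P.isPGroup'.exists_card_eq).choose_spec)) (by
      intro h
      refine hPidx ?_
      rwa [Nat.eq_of_mul_eq_mul_left Nat.card_pos ((Subgroup.card_mul_index P₁).trans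
        (hcard2 ▸ (Subgroup.card_mul_index P₂).symm))])
  obtain ⟨x, hx⟩ := MulAction.exists_smul_eq G Q₂ Q
  -- so `x g` normalises `P₀`
  have hxg : ((x : GL ι F) * g) * (x₀ : GL ι F) * ((x : GL ι F) * g)⁻¹ ∈ R := by
    refine hP₀R ?_
    have h2 : (⟨g * (x₀ : GL ι F) * g⁻¹, hgG _ (hP₀G hd₀.1)⟩ : G) ∈ (Q₂ : Subgroup G) :=
      (⟨_, hd₀.1, rfl⟩ : g * (x₀ : GL ι F) * g⁻¹ ∈ P₀.map (MulAut.conj g).toMonoidHom)
    have h3 : x * (⟨g * (x₀ : GL ι F) * g⁻¹, hgG _ (hP₀G hd₀.1)⟩ : G) * x⁻¹ ∈ (Q : Subgroup G) := by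
      rw [← hx]
      exact ⟨_, h2, rfl⟩
    have h4 : ((x : GL ι F) * (g * (x₀ : GL ι F) * g⁻¹) * (x : GL ι F)⁻¹) ∈ P₀ := h3
    rwa [_root_.mul_inv_rev, show (x : GL ι F) * g * (x₀ : GL ι F) * (g⁻¹ * (x : GL ι F)⁻¹) =
      (x : GL ι F) * (g * (x₀ : GL ι F) * g⁻¹) * (x : GL ι F)⁻¹ by group]
  set u : GL ι F := ((x : GL ι F) * g)⁻¹
  have hu1 : u ∈ simM (Matrix.diagonal δ) :=
    Subgroup.inv_mem _ (Subgroup.mul_mem _ (hN.sim x.2.1) (isoM_le_simM _ hgiso))
  have huS : ∀ w, Supp S w → Supp S (u.val *ᵥ w) := fun w hw => by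
    show Supp S (((x : GL ι F) * g)⁻¹.val *ᵥ w)
    rw [_root_.mul_inv_rev, hginv, mulVec_mul]
    have hx' : (x : GL ι F)⁻¹ ∈ G := Subgroup.inv_mem _ x.2
    exact hgS _ (hN.supp_mulVec hx'.1 hx'.2 hw)
  have hucol := key u hu1 huS (by show ((x : GL ι F) * g)⁻¹⁻¹ * _ * ((x : GL ι F) * g)⁻¹ ∈ R; rwa [inv_inv])
  have hul : u ∈ lineStab (S.erase i) :=
    mem_lineStab_erase (Subgroup.inv_mem _ (Subgroup.mul_mem _ x.2.2 hgl)) i hucol
  obtain ⟨a, ha⟩ := hul i (by simp)
  have hucomm : u * sgn i = sgn i * u := Units.ext (Matrix.ext_iff_mulVec.2 fun w => by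
    show (u * sgn i).val *ᵥ w = (sgn i * u).val *ᵥ w
    rw [mulVec_mul, mulVec_mul, show (sgn i : GL ι F).val *ᵥ w = w + (-2 * w i) • Pi.single i 1 from funext fun k => by
      rw [sgn_mulVec, Pi.add_apply, Pi.smul_apply, smul_eq_mul]
      rcases eq_or_ne k i with rfl | hk
      · simp; ring
      · simp [hk], Matrix.mulVec_add, Matrix.mulVec_smul, ha]
    funext k
    rw [sgn_mulVec, Pi.add_apply, Pi.smul_apply, Pi.smul_apply, smul_eq_mul, smul_eq_mul]
    rcases eq_or_ne k i with rfl | hk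
    · rw [hN.eigen hu1 a.ne_zero ha w]
      simp
      ring
    · simp [hk])
  have hC : sgn i * (g * sgn i * g⁻¹) ∈ N := by
    have e : g * sgn i * g⁻¹ = (x : GL ι F)⁻¹ * sgn i * (x : GL ι F) := by
      have : (x : GL ι F) * g * sgn i * ((x : GL ι F) * g)⁻¹ = sgn i := by
        rw [show (x : GL ι F) * g * sgn i * ((x : GL ι F) * g)⁻¹ = u⁻¹ * (sgn i * u) by simp [u]; group, ← hucomm,
          inv_mul_cancel_left]
      calc g * sgn i * g⁻¹ = (x : GL ι F)⁻¹ * ((x : GL ι F) * g * sgn i * ((x : GL ι F) * g)⁻¹) * (x : GL ι F) := by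
            group
        _ = _ := by rw [this]
    rw [e, show sgn i * ((x : GL ι F)⁻¹ * sgn i * (x : GL ι F)) = (sgn i * (x : GL ι F)⁻¹ * sgn i) * (x : GL ι F) by
      group]
    exact N.mul_mem (hN.conj_sgn i (Subgroup.inv_mem G x.2)).1 x.2.1
  set C := sgn i * (g * sgn i * g⁻¹)
  have hgb : g.val *ᵥ b = Pi.single i 1 := by rw [← hgi, ← mulVec_mul, hgg, Units.val_one, Matrix.one_mulVec]
  have hsb : (sgn i : GL ι F).val *ᵥ b = b := funext fun k => by
    rw [sgn_mulVec]
    split_ifs with h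
    · subst h; rw [hbi, neg_zero]
    · rfl
  have hsi : (sgn i : GL ι F).val *ᵥ Pi.single i (1 : F) = -Pi.single i 1 := funext fun k => by
    rw [sgn_mulVec, Pi.neg_apply]
    rcases eq_or_ne k i with rfl | hk <;> simp [*]
  have hCi : C.val *ᵥ Pi.single i (1 : F) = -Pi.single i 1 := by
    simp only [C, hginv, mulVec_mul]
    rw [hgi, hsb, hgb, hsi]
  have hCb : C.val *ᵥ b = -b := by
    simp only [C, hginv, mulVec_mul]
    rw [hgb, hsi, Matrix.mulVec_neg, hgi, Matrix.mulVec_neg, hsb]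
  set w₀ : ι → F := (-(δ m * z)) • Pi.single l 1 + (δ l * y) • Pi.single m 1
  have hw₀i : w₀ i = 0 := by simp [w₀, hil, him]
  have hsw : (sgn i : GL ι F).val *ᵥ w₀ = w₀ := funext fun k => by
    rw [sgn_mulVec]
    split_ifs with h
    · subst h; rw [hw₀i, neg_zero]
    · rfl
  have hgw : g.val *ᵥ w₀ = w₀ := by
    show Mg *ᵥ w₀ = w₀
    have h0 : fD δ v w₀ = 0 := by
      rw [hsum3 v w₀ hvS]
      simp [v, w₀, hbi, hbl, hbm, hil, him, hlm, hlm.symm, hil.symm, him.symm]
      ring
    rw [hMv, h0, mul_zero, zero_smul, sub_zero]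
  have hCw : C.val *ᵥ w₀ = w₀ := by
    simp only [C, hginv, mulVec_mul]
    rw [hgw, hsw, hgw, hsw]
  -- an element of order two
  obtain ⟨t, ⟨e, rfl⟩, c, hc⟩ := hN.odd C hC
  have hCC : ∀ (j : ℕ) (w : ι → F) (a : F), C.val *ᵥ w = a • w → (C ^ j).val *ᵥ w = a ^ j • w := by
    intro j w a h
    induction j with
    | zero => simp
    | succ j ih => rw [pow_succ', mulVec_mul, ih, Matrix.mulVec_smul, h, smul_smul, pow_succ]
  have h1 := hCC (2 * e + 1) _ (-1) (by rw [hCi, neg_one_smul])
  have h2 := hCC (2 * e + 1) _ 1 (by rw [hCw, one_smul])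
  rw [hc, Matrix.smul_mulVec, Matrix.one_mulVec] at h1 h2
  rw [(odd_two_mul_add_one e).neg_one_pow] at h1
  rw [one_pow] at h2
  have hc1 : c = -1 := by simpa using congrFun h1 i
  rcases em (y = 0) with hy | hy
  · have hz : z ≠ 0 := fun h => hN.ne i (by rw [← hyz', hy, h]; ring)
    have := congrFun h2 l
    simp [w₀, hlm, hc1] at this
    exact mul_ne_zero hN.two (mul_ne_zero (hN.ne m) hz) (by linear_combination this)
  · have := congrFun h2 m
    simp [w₀, hlm.symm, hc1] at this
    exact mul_ne_zero hN.two (mul_ne_zero (hN.ne l) hy) (by linear_combination -this)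

/-- The general case, by induction. -/
theorem OddData.scalarOn (hN : OddData δ N) [Finite F] (S : Finset ι) (h3 : 3 ≤ S.card) : ScalarOn N S := by
  classical
  induction S using Finset.strongInduction with
  | H S ih =>
    rcases h3.eq_or_lt with h | h
    · exact hN.scalarOn_three h.symm
    refine hN.scalarOn_of_free h3 fun i hi d hd hcol => ?_
    have hc : ∀ j ∈ S, (∀ k, k ≠ j → d.val k j = 0) → d ∈ scalStab (S.erase j) := fun j hj hjc =>
      ih _ (Finset.erase_ssubset hj) (by rw [Finset.card_erase_of_mem hj]; omega)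
        ⟨hd.1, mem_lineStab_erase hd.2 j hjc⟩
    obtain ⟨a, ha⟩ := hc i hi hcol
    obtain ⟨j, hj, l, hl, hjl⟩ := Finset.one_lt_card.1 (show 1 < (S.erase i).card by
      rw [Finset.card_erase_of_mem hi]; omega)
    obtain ⟨b, hb⟩ := hc j (Finset.mem_of_mem_erase hj) fun k hk => by
      have := congrFun (ha _ (supp_single hj 1)) k
      simpa [Matrix.mulVec_single_one, hk] using this
    have hli := Finset.mem_erase.1 hl
    have hab : (b : F) = a := by
      have h1 := congrFun (ha _ (supp_single hl 1)) l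
      have h2 := congrFun (hb _ (supp_single (Finset.mem_erase.2 ⟨hjl.symm, hli.2⟩) 1)) l
      rw [h1] at h2
      simpa using h2.symm
    refine ⟨a, fun v hv => ?_⟩
    have hv1 : Supp (S.erase i) (v - v i • Pi.single i 1) := fun k hk => by
      rcases eq_or_ne k i with rfl | hki
      · simp
      · have hkS : k ∉ S := fun h' => hk (Finset.mem_erase.2 ⟨hki, h'⟩)
        simp [hki, hv k hkS]
    have hij : i ≠ j := (Finset.mem_erase.1 hj).1.symm
    have h2 := hb _ (supp_single (Finset.mem_erase.2 ⟨hij, hi⟩) 1)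
    rw [hab] at h2
    have e : v = (v - v i • Pi.single i 1) + v i • Pi.single i 1 := (sub_add_cancel _ _).symm
    conv_lhs => rw [e]
    rw [Matrix.mulVec_add, Matrix.mulVec_smul, ha _ hv1, h2, smul_comm, ← smul_add, ← e]

/-- The group consists of scalars. -/
theorem OddData.eq_scalar (hN : OddData δ N) [Finite F] (hn : 3 ≤ Fintype.card ι) {d : GL ι F} (hd : d ∈ N) :
    ∃ c : F, d.val = c • (1 : Matrix ι ι F) := by
  obtain ⟨a, ha⟩ := hN.scalarOn Finset.univ (by simpa using hn)
    ⟨hd, fun i hi => absurd (Finset.mem_univ i) hi⟩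
  exact ⟨a, Matrix.ext_iff_mulVec.2 fun v => by
    rw [ha v fun k hk => absurd (Finset.mem_univ k) hk, Matrix.smul_mulVec, Matrix.one_mulVec]⟩

end Cfsg.Agent.LocalBalance
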